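import Cfsg.Agent.GenDihedral.Red.AutTwo
import Cfsg.Agent.Known.AutPSLn.Sylow

/-!
Automorphisms of `SL(2, 2^n)` fixing a Sylow 2-subgroup pointwise are inner.
-/

set_option autoImplicit false
set_option linter.unusedSectionVars false
set_option linter.style.haveILetI false

namespace Cfsg.Lib.GenDihedral

open Subgroup Matrix Cfsg.Lib.Known.AutPSLn Cfsg.Lib.CyclicNorm
open scoped MatrixGroups

variable {F : Type} [Field F] [Fintype F] [CharP F 2]

local notation "S2" => Matrix.SpecialLinearGroup (Fin 2) F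
local notation "P2" => Matrix.ProjectiveSpecialLinearGroup (Fin 2) F
local notation "M2" => Matrix (Fin 2) (Fin 2) F

theorem center_sl_two : Subgroup.center S2 = ⊥ := by
  rw [← Subgroup.card_eq_one, Cfsg.Lib.Classical.card_center_SL, Fintype.card_fin, Nat.card_eq_fintype_card]
  obtain ⟨m, -, hm⟩ := FiniteField.card F 2
  rw [hm]
  refine Nat.coprime_two_left.2 ?_
  have h2 : 2 ∣ 2 ^ (m : ℕ) := dvd_pow_self 2 m.pos.ne'
  have : 0 < 2 ^ (m : ℕ) := Nat.two_pow_pos _
  rw [Nat.odd_iff]
  omega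

/-- `SL` is `PSL` in characteristic two. -/
noncomputable def slEquiv : S2 ≃* P2 :=
  MulEquiv.ofBijective (QuotientGroup.mk' (Subgroup.center S2))
    ⟨by rw [← MonoidHom.ker_eq_bot_iff, QuotientGroup.ker_mk', center_sl_two], QuotientGroup.mk'_surjective _⟩

theorem slEquiv_apply (M : S2) : (slEquiv : S2 ≃* P2) M = QuotientGroup.mk' _ M := rfl

/-- Upper unitriangular elements. -/
def upS (x : F) : S2 := ⟨!![1, x; 0, 1], by simp [det_fin_two]⟩

theorem mem_upperUni {M : S2} (h : M ∈ upperUni (F := F) (n := 2)) : ∃ x, M = upS x := by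
  refine ⟨(M : M2) 0 1, Subtype.ext ?_⟩
  have h00 := h 0 0 le_rfl
  have h10 := h 1 0 (by decide)
  have h11 := h 1 1 le_rfl
  ext i j
  fin_cases i <;> fin_cases j <;> simp_all [upS]

theorem upS_mem (x : F) : (upS x : S2) ∈ upperUni (F := F) (n := 2) := by
  intro i j h
  fin_cases i <;> fin_cases j <;> simp_all [upS]

theorem sylow_sq (S : Sylow 2 S2) {x : S2} (hx : x ∈ (S : Subgroup S2)) : x * x = 1 := by
  haveI : Fact (Nat.Prime 2) := ⟨Nat.prime_two⟩
  obtain ⟨Q, hQ⟩ := exists_sylow_upperUni (F := F) (n := 2) 2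
  obtain ⟨g, hg⟩ := MulAction.exists_smul_eq S2 S Q
  have hmem : g * x * g⁻¹ ∈ upperUni (F := F) (n := 2) := by
    rw [← hQ, ← hg]
    exact Subgroup.mem_pointwise_smul_iff_inv_smul_mem.2 (by simpa [MulAut.smul_def, mul_assoc] using hx)
  obtain ⟨a, ha⟩ := mem_upperUni hmem
  have h : g * (x * x) * g⁻¹ = 1 := by
    rw [← conj_mul, ha]
    refine Subtype.ext ?_
    show (!![1, a; 0, 1] : M2) * !![1, a; 0, 1] = 1
    ext i j; fin_cases i <;> fin_cases j <;> simp [Matrix.mul_apply, Fin.sum_univ_two, CharTwo.add_self_eq_zero]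
  exact conj_eq_one_iff.1 h

theorem inner_of_fix_upper (β : MulAut P2) (h : ∀ x : F, β (slEquiv (upS x)) = slEquiv (upS x)) :
    ∃ m : P2, β = MulAut.conj m := by
  obtain ⟨a, σ, rfl⟩ := decomp_two β
  have key : ∀ x : F, ∃ k : F, ((a * uG (σ x) : GL (Fin 2) F) : M2) = k • ((uG x * a : GL (Fin 2) F) : M2) := by
    intro x
    refine conjP_eq_iff ?_
    have e : (conjP (uG x) : MulAut P2) = MulAut.conj (slEquiv (upS x)) := by
      refine Eq.trans ?_ (conjP_toGL (upS x))
      exact congrArg (fun g : GL (Fin 2) F => (conjP g : MulAut P2)) (Units.ext rfl)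
    have hcomm : (conjP a * fieldP σ) * MulAut.conj (slEquiv (upS x)) =
        MulAut.conj (slEquiv (upS x)) * (conjP a * fieldP σ) := by
      refine MulEquiv.ext fun y => ?_
      simp only [MulAut.mul_apply, MulAut.conj_apply, map_mul, map_inv]
      have hx := h x
      rw [MulAut.mul_apply] at hx
      rw [hx]
    have e2 : glMap σ (uG x : GL (Fin 2) F) = uG (σ x) := by
      refine Units.ext ?_
      rw [coe_glMap, coe_uG, coe_uG]
      ext i j; fin_cases i <;> fin_cases j <;> simp
    rw [← e, mul_assoc, fieldP_mul_conjP, e2, ← mul_assoc, ← mul_assoc, ← map_mul, ← map_mul,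
      mul_left_inj] at hcomm
    exact hcomm
  obtain ⟨k, hk⟩ := key 1
  rw [map_one] at hk
  have e00 := congrFun (congrFun hk 0) 0
  have e01 := congrFun (congrFun hk 0) 1
  have e10 := congrFun (congrFun hk 1) 0
  simp [Units.val_mul, coe_uG, Matrix.mul_apply, Fin.sum_univ_two, Matrix.vecMul, dotProduct] at e00 e01 e10
  have hdet := (GeneralLinearGroup.det a).ne_zero
  have h10 : (a : M2) 1 0 = 0 := by
    by_contra hne
    have hk1 : k = 1 := mul_right_cancel₀ hne (by linear_combination -e10)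
    subst hk1
    exact hne (by linear_combination -e00)
  have h00 : (a : M2) 0 0 ≠ 0 := fun e => hdet (by simp [det_fin_two, h10, e])
  have hk1 : k = 1 := mul_right_cancel₀ h00 (by rw [h10] at e00; linear_combination -e00)
  subst hk1
  have h11 : (a : M2) 1 1 = (a : M2) 0 0 := by linear_combination -e01
  have hσ : σ = 1 := RingEquiv.ext fun x => by
    obtain ⟨k, hk⟩ := key x
    have f00 := congrFun (congrFun hk 0) 0
    have f01 := congrFun (congrFun hk 0) 1
    simp [Units.val_mul, coe_uG, Matrix.mul_apply, Fin.sum_univ_two, Matrix.vecMul, dotProduct, h10, h11] at f00 f01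
    have hk1 : k = 1 := mul_right_cancel₀ h00 (by linear_combination -f00)
    subst hk1
    exact mul_left_cancel₀ h00 (by show (a : M2) 0 0 * σ x = (a : M2) 0 0 * x; linear_combination f01)
  obtain ⟨m, hm⟩ := inner_of_sq_det (g := a) ⟨(a : M2) 0 0, by simp [det_fin_two, h10, h11]⟩
  exact ⟨m, by rw [hσ, map_one, mul_one, hm]⟩

/-- An automorphism fixing a Sylow 2-subgroup pointwise is inner. -/
theorem inner_of_fix_sylow (β : MulAut S2) (S : Sylow 2 S2) (h : ∀ x ∈ (S : Subgroup S2), β x = x) :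
    ∃ m : S2, β = MulAut.conj m := by
  haveI : Fact (Nat.Prime 2) := ⟨Nat.prime_two⟩
  obtain ⟨Q, hQ⟩ := exists_sylow_upperUni (F := F) (n := 2) 2
  obtain ⟨g, hg⟩ := MulAction.exists_smul_eq S2 S Q
  set β' : MulAut S2 := MulAut.conj g * β * (MulAut.conj g)⁻¹ with hβ'
  have hfix : ∀ x : F, β' (upS x) = upS x := fun x => by
    have hx : g⁻¹ * upS x * g ∈ (S : Subgroup S2) := by
      have h1 : upS x ∈ ((g • S : Sylow 2 S2) : Subgroup S2) := by rw [hg, hQ]; exact upS_mem x
      simpa [Sylow.coe_subgroup_smul, Subgroup.mem_pointwise_smul_iff_inv_smul_mem, MulAut.smul_def, mul_assoc]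
        using h1
    rw [hβ', MulAut.mul_apply, MulAut.mul_apply, MulAut.inv_def, MulAut.conj_symm_apply, h _ hx, MulAut.conj_apply]
    group
  obtain ⟨m, hm⟩ := inner_of_fix_upper ((MulAut.congr (slEquiv (F := F))) β') fun x => by
    show slEquiv (β' (slEquiv.symm (slEquiv (upS x)))) = _
    rw [MulEquiv.symm_apply_apply, hfix]
  refine ⟨g⁻¹ * slEquiv.symm m * g, ?_⟩
  have hb : β' = MulAut.conj ((slEquiv (F := F)).symm m) := by
    refine MulEquiv.ext fun y => slEquiv.injective ?_
    have h1 := MulEquiv.ext_iff.1 hm (slEquiv y)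
    change slEquiv (β' (slEquiv.symm (slEquiv y))) = m * slEquiv y * m⁻¹ at h1
    rw [MulEquiv.symm_apply_apply] at h1
    rw [h1, MulAut.conj_apply, map_mul, map_mul, map_inv, MulEquiv.apply_symm_apply]
  rw [map_mul, map_mul, map_inv, ← hb, hβ']
  group

end Cfsg.Lib.GenDihedral
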