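import Cfsg.Agent.GenDihedral.Setup
import Cfsg.Agent.Coprime.Hall
import Cfsg.Agent.CyclicInter.Main
import Cfsg.Agent.Presentations.BinaryIcosahedral
import Cfsg.Agent.Components.Cores
import Cfsg.Agent.Transfer.FittingPower

/-!
Solvability criteria and general tools for the reduction.
-/

set_option autoImplicit false
set_option linter.unusedSectionVars false
set_option linter.style.haveILetI false

namespace Cfsg.Lib.GenDihedral

open Subgroup

universe u

variable {G : Type u} [Group G] [Finite G]

theorem solvable_small (h : Nat.card G < 60) : Group.IsSolvable G :=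
  Cfsg.Lib.Presentations.isSolvable_of_card_lt_sixty _ G rfl h

theorem solvable_ext (N : Subgroup G) [N.Normal] (h1 : Group.IsSolvable N) (h2 : Group.IsSolvable (G ⧸ N)) :
    Group.IsSolvable G :=
  Group.isSolvable_of_ker_le_range N.subtype (QuotientGroup.mk' N) (by simp)

theorem solvable_of_le {H K : Subgroup G} (h : H ≤ K) (hK : Group.IsSolvable K) : Group.IsSolvable H :=
  Group.isSolvable_of_isSolvable_injective (Subgroup.inclusion_injective h)

theorem solvable_of_two {N : Subgroup G} (h : IsPGroup 2 N) : Group.IsSolvable N := by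
  haveI : Fact (Nat.Prime 2) := ⟨Nat.prime_two⟩
  haveI := h.isNilpotent
  infer_instance

/-- A group with an abelian subgroup of index two is solvable. -/
theorem solvable_of_idx_two {A C : Subgroup G} (hc : ∀ a ∈ A, ∀ b ∈ A, a * b = b * a)
    (hidx : A.relIndex C = 2) : Group.IsSolvable C := by
  haveI : (A.subgroupOf C).Normal := normal_of_index_eq_two hidx
  refine solvable_ext (A.subgroupOf C) (Group.isSolvable_of_comm fun a b => ?_) (solvable_small ?_)
  · exact Subtype.ext (Subtype.ext (hc _ a.2 _ b.2))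
  · rw [← index_eq_card]
    exact (show (A.subgroupOf C).index = 2 from hidx).trans_lt (by norm_num)

theorem solvable_of_not_four (h : ¬ 4 ∣ Nat.card G) : Group.IsSolvable G := by
  haveI : Fact (Nat.Prime 2) := ⟨Nat.prime_two⟩
  obtain ⟨P⟩ := (inferInstance : Nonempty (Sylow 2 G))
  obtain ⟨k, hk⟩ := IsPGroup.iff_card.1 P.2
  refine Cfsg.Lib.CyclicInter.solvable_of_cyclic P ?_
  rcases k with _ | _ | k
  · haveI : Subsingleton (P : Subgroup G) := (Nat.card_eq_one_iff_unique.1 hk).1
    infer_instance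
  · exact isCyclic_of_prime_card (p := 2) hk
  · exact absurd ((Dvd.intro_left _ (by ring : 2 ^ k * 4 = 2 ^ (k + 1 + 1))).trans
      (hk ▸ card_subgroup_dvd_card _)) h

theorem solvable_subgroup_not_four (N : Subgroup G) (h : ¬ 4 ∣ Nat.card N) : Group.IsSolvable N :=
  solvable_of_not_four h

/-- A group with a central Sylow 2-subgroup is solvable. -/
theorem solvable_of_central_sylow (P : Sylow 2 G)
    (h : ∀ x ∈ (P : Subgroup G), ∀ g : G, g * x = x * g) : Group.IsSolvable G := by
  haveI : Fact (Nat.Prime 2) := ⟨Nat.prime_two⟩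
  haveI hP : (P : Subgroup G).Normal := ⟨fun x hx g => by rwa [h x hx g, mul_inv_cancel_right]⟩
  refine solvable_ext (P : Subgroup G) (solvable_of_two P.2) ?_
  refine Cfsg.Agent.PF.isSolvable_of_odd _ (Nat.not_even_iff_odd.1 fun hev => ?_)
  rw [← index_eq_card] at hev
  exact P.not_dvd_index hev.two_dvd

/-- A Sylow subgroup inside a subgroup of odd index. -/
theorem exists_sylow_le {C : Subgroup G} (h : Odd C.index) : ∃ T : Sylow 2 G, (T : Subgroup G) ≤ C := by
  haveI : Fact (Nat.Prime 2) := ⟨Nat.prime_two⟩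
  obtain ⟨R⟩ : Nonempty (Sylow 2 C) := inferInstance
  have hidx : ¬ 2 ∣ ((R : Subgroup C).map C.subtype).index := by
    rw [index_map_subtype]
    intro hd
    rcases Nat.prime_two.dvd_mul.1 hd with h' | h'
    · exact R.not_dvd_index h'
    · exact Nat.not_even_iff_odd.2 h (even_iff_two_dvd.2 h')
  exact ⟨(R.2.map _).toSylow hidx, map_subtype_le _⟩

/-- A normal subgroup meets a Sylow subgroup in a Sylow subgroup. -/
theorem card_inf_sylow (T : Sylow 2 G) (N : Subgroup G) [N.Normal] :
    ∃ k m : ℕ, Nat.card ((T : Subgroup G) ⊓ N : Subgroup G) = 2 ^ k ∧ Odd m ∧ Nat.card N = 2 ^ k * m := by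
  haveI : Fact (Nat.Prime 2) := ⟨Nat.prime_two⟩
  obtain ⟨k, hk⟩ := IsPGroup.iff_card.1 (T.2.to_le (inf_le_left : (T : Subgroup G) ⊓ N ≤ T))
  refine ⟨k, ((T : Subgroup G).subgroupOf N).index, hk, Nat.not_even_iff_odd.1 fun hev => ?_, ?_⟩
  · have hd : 2 ∣ (T : Subgroup G).relIndex N := hev.two_dvd
    rw [Cfsg.Lib.Transfer.relIndex_eq_relIndex_sup_of_normal _ N] at hd
    exact T.not_dvd_index (hd.trans (Dvd.intro _ (relIndex_mul_index le_sup_left)))
  · have h : Nat.card ((T : Subgroup G).subgroupOf N) = Nat.card ((T : Subgroup G) ⊓ N : Subgroup G) := by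
      rw [← inf_subgroupOf_right]
      exact Nat.card_congr (subgroupOfEquivOfLe inf_le_right).toEquiv
    rw [← hk, ← h, card_mul_index]

theorem solvable_of_small_inf (T : Sylow 2 G) (N : Subgroup G) [N.Normal]
    (h : Nat.card ((T : Subgroup G) ⊓ N : Subgroup G) ≤ 2) : Group.IsSolvable N := by
  obtain ⟨k, m, hk, hm, hN⟩ := card_inf_sylow T N
  refine solvable_of_not_four fun h4 => ?_
  rw [hN] at h4
  rcases k with _ | _ | k
  · rw [pow_zero, one_mul] at h4
    exact Nat.not_even_iff_odd.2 hm (even_iff_two_dvd.2 ((show 2 ∣ 4 by norm_num).trans h4))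
  · rw [zero_add, pow_one] at h4
    exact Nat.not_even_iff_odd.2 hm (even_iff_two_dvd.2
      (Nat.dvd_of_mul_dvd_mul_left two_pos (show 2 * 2 ∣ 2 * m from h4)))
  · rw [hk, pow_succ, pow_succ] at h
    have := Nat.one_le_two_pow (n := k)
    omega

/-- A small normal subgroup with solvable centraliser makes the group solvable. -/
theorem solvable_of_small_normal (M : Subgroup G) [M.Normal] (h4 : Nat.card M ≤ 4)
    (hC : Group.IsSolvable (centralizer (M : Set G))) : Group.IsSolvable G := by
  classical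
  haveI := hC
  set φ : G →* MulAut M := MulAut.conjNormal with hφ
  have hk : φ.ker ≤ centralizer (M : Set G) := fun g hg => mem_centralizer_iff.2 fun x hx => by
    have h1 : ((φ g ⟨x, hx⟩ : M) : G) = x := by rw [MonoidHom.mem_ker.1 hg]; rfl
    rw [hφ, MulAut.conjNormal_apply] at h1
    exact (mul_inv_eq_iff_eq_mul.1 h1).symm
  haveI : Group.IsSolvable φ.ker := solvable_of_le hk hC
  haveI : Group.IsSolvable φ.range := by
    refine solvable_small ?_
    letI := Fintype.ofFinite M
    have hinj : Function.Injective (fun a : φ.range => ((a : MulAut M).toEquiv : Equiv.Perm M)) :=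
      fun a b e => Subtype.ext (MulEquiv.ext fun x => Equiv.congr_fun e x)
    refine (Nat.card_le_card_of_injective _ hinj).trans_lt ?_
    rw [Nat.card_perm]
    calc (Nat.card M).factorial ≤ Nat.factorial 4 := Nat.factorial_le h4
      _ < 60 := by decide
  exact Group.isSolvable_of_ker_le_range φ.ker.subtype φ.rangeRestrict (by simp)

/-- No non-trivial normal subgroup of odd order. -/
def NoOdd (G : Type u) [Group G] : Prop := ∀ N : Subgroup G, N.Normal → Odd (Nat.card N) → N = ⊥

/-- No non-trivial normal elementary abelian 2-subgroup. -/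
def NoTwo (G : Type u) [Group G] : Prop := ∀ N : Subgroup G, N.Normal → (∀ x ∈ N, x * x = 1) → N = ⊥

theorem rad_bot (hO : NoOdd G) (hT : NoTwo G) {L : Subgroup G} (hL : L.Normal) (hs : Group.IsSolvable L) :
    L = ⊥ := by
  by_contra hne
  obtain ⟨M, hML, hM, hMb, hmin⟩ := Cfsg.Lib.Coprime.exists_minimal_normal hL hne
  obtain ⟨-, p, hp, hpM, hpow⟩ := Cfsg.Lib.Coprime.minimal_normal_solvable (solvable_of_le hML hs) hMb hmin
  rcases hp.eq_two_or_odd' with rfl | ho
  · exact hMb (hT M hM fun x hx => by rw [← pow_two]; exact hpow x hx)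
  · haveI := Fact.mk hp
    obtain ⟨k, hk⟩ := IsPGroup.iff_card.1 hpM
    exact hMb (hO M hM (hk ▸ ho.pow))

/-- Odd normal subgroups of a normal subgroup are trivial. -/
theorem noOdd_sub (hO : NoOdd G) (L : Subgroup G) [L.Normal] : NoOdd L := by
  intro N hN ho
  have hcop : (Nat.card N).Coprime 2 := Nat.coprime_two_right.2 ho
  have hle : N ≤ Cfsg.pPrimeCore 2 L := @Cfsg.Lib.Components.le_pPrimeCore _ _ 2 N hN hcop
  haveI hch : (Cfsg.pPrimeCore 2 L).Characteristic := by
    refine characteristic_iff_map_le.2 fun φ => ?_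
    have hc := Cfsg.Lib.Components.coprime_card_pPrimeCore (G := L) 2
    have hn : (Cfsg.pPrimeCore 2 L).Normal :=
      Cfsg.Lib.Components.normal_of_mem_sSup_normal fun _ h => h.1
    haveI := hn.map φ.toMonoidHom φ.surjective
    refine Cfsg.Lib.Components.le_pPrimeCore ?_
    rwa [Subgroup.card_map_of_injective φ.injective]
  have h := hO ((Cfsg.pPrimeCore 2 L).map L.subtype) inferInstance (by
    rw [Subgroup.card_map_of_injective L.subtype_injective]
    exact Nat.coprime_two_right.1 (Cfsg.Lib.Components.coprime_card_pPrimeCore 2))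
  rw [(Subgroup.map_eq_bot_iff_of_injective _ L.subtype_injective)] at h
  exact le_bot_iff.1 (h ▸ hle)

/-- A minimal normal subgroup all of whose normal subgroups contain a fixed element is simple. -/
theorem simple_of_common {L : Subgroup G} [hL : L.Normal] (hne : L ≠ ⊥)
    (hmin : ∀ M : Subgroup G, M.Normal → M ≤ L → M = ⊥ ∨ M = L) {w : L} (hw : w ≠ 1)
    (hall : ∀ M : Subgroup L, M.Normal → M ≠ ⊥ → w ∈ M) : IsSimpleGroup L := by
  haveI : Nontrivial L := (Subgroup.nontrivial_iff_ne_bot L).2 hne
  set M₀ := normalClosure ({w} : Set L) with hM₀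
  have hM₀n : (M₀.map L.subtype).Normal := by
    refine ⟨?_⟩
    rintro _ ⟨x, hx, rfl⟩ g
    set φ : MulAut L := MulAut.conjNormal g with hφ
    haveI hn : (M₀.map φ.toMonoidHom).Normal := (inferInstance : M₀.Normal).map φ.toMonoidHom φ.surjective
    haveI hn' : (M₀.comap φ.toMonoidHom).Normal := (inferInstance : M₀.Normal).comap φ.toMonoidHom
    have hle : M₀ ≤ M₀.comap φ.toMonoidHom := by
      refine normalClosure_le_normal ?_
      rintro y rfl
      have hb : M₀.map φ.symm.toMonoidHom ≠ ⊥ := by
        rw [Ne, Subgroup.map_eq_bot_iff_of_injective _ φ.symm.injective]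
        intro e
        have : y ∈ M₀ := subset_normalClosure rfl
        rw [e] at this
        exact hw (mem_bot.1 this)
      have := hall _ ((inferInstance : M₀.Normal).map φ.symm.toMonoidHom φ.symm.surjective) hb
      obtain ⟨y', hy', e⟩ := this
      simp only [SetLike.mem_coe, mem_comap, MulEquiv.coe_toMonoidHom] at e ⊢
      rwa [← e, φ.apply_symm_apply]
    exact ⟨φ x, hle hx, MulAut.conjNormal_apply g x⟩
  have hM₀L : M₀.map L.subtype = L := by
    refine (hmin _ hM₀n (map_subtype_le _)).resolve_left fun e => ?_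
    rw [Subgroup.map_eq_bot_iff_of_injective _ L.subtype_injective] at e
    exact hw (mem_bot.1 (e ▸ subset_normalClosure rfl : w ∈ (⊥ : Subgroup L)))
  refine ⟨fun M hM => or_iff_not_imp_left.2 fun hMb => eq_top_iff.2 fun x _ => ?_⟩
  have hxM₀ : x ∈ M₀ := by
    have : (x : G) ∈ M₀.map L.subtype := hM₀L.symm ▸ x.2
    obtain ⟨x', hx', e⟩ := this
    exact Subtype.ext e ▸ hx'
  exact (normalClosure_le_normal (N := M) (Set.singleton_subset_iff.2 (hall M hM hMb))) hxM₀

/-- Centralisers of involutions modulo a normal subgroup of odd order. -/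
theorem cent_quot (N : Subgroup G) [N.Normal] (hN : Odd (Nat.card N)) {z : G} (hz : orderOf z = 2) :
    centralizer ({(z : G ⧸ N)} : Set (G ⧸ N)) = (centralizer {z}).map (QuotientGroup.mk' N) := by
  ext y
  constructor
  · intro hy
    obtain ⟨g, rfl⟩ := QuotientGroup.mk_surjective y
    have hzz := mul_self_of_two hz
    set z' := g * z * g⁻¹ with hz'
    have hz'z' : z' * z' = 1 := by
      rw [hz', conj_mul, hzz, mul_one, mul_inv_cancel]
    set n := z * z' with hn
    have hnN : n ∈ N := by
      rw [← QuotientGroup.eq_one_iff, hn, hz', QuotientGroup.mk_mul, QuotientGroup.mk_mul, QuotientGroup.mk_mul,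
        QuotientGroup.mk_inv, mem_cent.1 hy, mul_inv_cancel_right, ← QuotientGroup.mk_mul, hzz]
      rfl
    obtain ⟨k, hk⟩ : Odd (orderOf n) := hN.of_dvd_nat ((Subgroup.orderOf_mk n hnN) ▸ orderOf_dvd_natCard _)
    set x := n ^ (k + 1) with hx
    have hx2 : x * x = n := by
      rw [hx, ← pow_add, show k + 1 + (k + 1) = orderOf n + 1 by omega, pow_succ, pow_orderOf_eq_one, one_mul]
    have hinv : z * n * z⁻¹ = n⁻¹ := by
      rw [hn, mul_inv_rev, inv_of_two hz, inv_eq_of_mul_eq_one_left hz'z', ← mul_assoc, hzz, one_mul]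
    have hzx : z * x * z⁻¹ = x⁻¹ := by rw [hx, ← conj_pow, hinv, inv_pow]
    have hconj : x⁻¹ * z * x = z' := by
      rw [← hzx, mul_assoc, mul_assoc, inv_mul_cancel_left, show z * x * x = z * (x * x) from mul_assoc z x x,
        hx2, hn, ← mul_assoc, hzz, one_mul]
    refine ⟨x * g, ?_, ?_⟩
    · rw [SetLike.mem_coe, mem_cent]
      calc x * g * z = x * z' * g := by rw [hz']; group
        _ = z * (x * g) := by rw [← hconj]; group
    · show ((x * g : G) : G ⧸ N) = g
      have hxN : x ∈ N := pow_mem hnN _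
      rw [QuotientGroup.mk_mul, (QuotientGroup.eq_one_iff x).2 hxN, one_mul]
  · rintro ⟨g, hg, rfl⟩
    rw [mem_cent, QuotientGroup.mk'_apply, ← QuotientGroup.mk_mul, ← QuotientGroup.mk_mul, mem_cent.1 hg]

end Cfsg.Lib.GenDihedral
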