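import Cfsg.Agent.GenDihedral.Red.Tools
import Cfsg.Agent.InvolCalc.CyclicNormalisers.Aut
import Cfsg.Agent.Known.AutPSL2
import Mathlib.NumberTheory.LegendreSymbol.QuadraticChar.Basic

/-!
An extension of degree two of `PSL(2, q)` with generalised dihedral centraliser is `PGL(2, q)`.
-/

set_option autoImplicit false
set_option linter.unusedSectionVars false
set_option linter.style.haveILetI false

namespace Cfsg.Lib.GenDihedral

open Subgroup Matrix Cfsg.Lib.Known.AutPSLn Cfsg.Lib.CyclicNorm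

universe u

variable {F : Type} [Field F] [Fintype F]

local notation "M2" => Matrix (Fin 2) (Fin 2) F
local notation "GL2" => GL (Fin 2) F
local notation "P2" => Matrix.ProjectiveSpecialLinearGroup (Fin 2) F

theorem decomp_two (β : MulAut P2) : ∃ (g : GL2) (τ : F ≃+* F), β = conjP g * fieldP τ := by
  obtain ⟨p, hp⟩ := CharP.exists F
  obtain ⟨m, hprime, hm⟩ := FiniteField.card F p
  have := Fact.mk hprime
  let _ : Algebra (ZMod p) F := ZMod.algebra F p
  obtain ⟨g, a, σ, hβ⟩ := Cfsg.Lib.Known.AutPSL2.exists_decomp p (f := m) m.pos hm β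
  obtain ⟨M, rfl⟩ := QuotientGroup.mk_surjective g
  refine ⟨SpecialLinearGroup.toGL M * Cfsg.Lib.Known.AutPSL2.diagGL a, σ.toRingEquiv, ?_⟩
  rw [map_mul, conjP_toGL, hβ]
  rfl

theorem inner_of_sq_det {g : GL2} (h : IsSquare (g : M2).det) :
    ∃ m : P2, (conjP g : MulAut P2) = MulAut.conj m := by
  obtain ⟨d, hd⟩ := h
  have hd0 : d ≠ 0 := fun e => (GeneralLinearGroup.det g).ne_zero (by simpa [e] using hd)
  obtain ⟨M, hM⟩ := conjP_sq_det (g := g) (c := Units.mk0 d hd0) hd
  exact ⟨_, hM⟩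

theorem inner_of_sq {g : GL2} {τ : F ≃+* F} {m : P2}
    (h : (conjP g * fieldP τ) * (conjP g * fieldP τ) = MulAut.conj m) : τ * τ = 1 := by
  obtain ⟨M, rfl⟩ := QuotientGroup.mk_surjective m
  change _ = MulAut.conj (π M) at h
  rw [← conjP_toGL, show (conjP g : MulAut P2) * fieldP τ * (conjP g * fieldP τ) =
    conjP g * (fieldP τ * conjP g) * fieldP τ by group, fieldP_mul_conjP, ← mul_assoc, ← map_mul, mul_assoc,
    ← map_mul] at h
  refine (conjP_fieldP_eq_one le_rfl (A := (Matrix.SpecialLinearGroup.toGL M)⁻¹ * (g * glMap τ g))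
    (σ := τ * τ) ?_).2
  rw [map_mul, map_inv, mul_assoc, h, inv_mul_cancel]

/-- A field with an involutory automorphism has a square root of minus one, and more than five elements. -/
theorem field_facts (hodd : Odd (Fintype.card F)) {τ : F ≃+* F} (hτ : τ * τ = 1) (hne : τ ≠ 1) :
    IsSquare (-1 : F) ∧ 8 < Fintype.card F := by
  classical
  have hττ : ∀ x, τ (τ x) = x := fun x => congrArg (fun f : F ≃+* F => f x) hτ
  have h2 : (2 : F) ≠ 0 := Ring.two_ne_zero fun hc => by
    have : Even (Fintype.card F) := by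
      haveI : CharP F 2 := hc ▸ ringChar.charP F
      obtain ⟨m, -, hm⟩ := FiniteField.card F 2
      rw [hm]; exact (Nat.even_pow.2 ⟨even_two, m.pos.ne'⟩)
    exact Nat.not_even_iff_odd.2 hodd this
  obtain ⟨x₀, hx₀⟩ : ∃ x, τ x ≠ x := by
    by_contra h; push Not at h; exact hne (RingEquiv.ext h)
  set e := x₀ - τ x₀ with he
  have he0 : e ≠ 0 := sub_ne_zero.2 hx₀.symm
  have hτe : τ e = -e := by rw [he, map_sub, hττ, neg_sub]
  let K := {x : F // τ x = x}
  have hcard : Fintype.card F = Fintype.card K * Fintype.card K := by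
    rw [← Fintype.card_prod]
    refine Fintype.card_of_bijective (f := fun x : F => ((⟨x + τ x, by rw [map_add, hττ, add_comm]⟩ : K),
      (⟨(x - τ x) * e, by rw [map_mul, map_sub, hττ, hτe]; ring⟩ : K))) ⟨fun x y h => ?_, fun q => ?_⟩
    · simp only [Prod.mk.injEq, Subtype.ext_iff, K] at h
      have h1 : x - τ x = y - τ y := mul_right_cancel₀ he0 h.2
      refine mul_left_cancel₀ h2 ?_
      linear_combination h.1 + h1
    · obtain ⟨⟨a, ha⟩, b, hb⟩ := q
      refine ⟨(a + b / e) / 2, Prod.ext (Subtype.ext ?_) (Subtype.ext ?_)⟩ <;>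
        simp only [map_div₀, map_add, ha, hb, hτe, map_ofNat]
      · field_simp; ring
      · field_simp; ring
  have hK : Odd (Fintype.card K) := by
    rw [hcard] at hodd; exact (Nat.odd_mul.1 hodd).1
  refine ⟨FiniteField.isSquare_neg_one_iff.2 ?_, ?_⟩
  · obtain ⟨k, hk⟩ := hK
    rw [hcard, hk, show (2 * k + 1) * (2 * k + 1) = 4 * (k * k + k) + 1 by ring]
    omega
  · have h3 : 2 < Fintype.card K := by
      have h01 : 2 ≤ Fintype.card K :=
        Fintype.one_lt_card_iff.2 ⟨⟨0, map_zero τ⟩, ⟨1, map_one τ⟩, fun e => zero_ne_one (congrArg Subtype.val e)⟩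
      obtain ⟨k, hk⟩ := hK
      omega
    rw [hcard]; nlinarith

theorem dG_inj {x y : Fˣ} (h : (conjP (dG x 1) : MulAut P2) = conjP (dG y 1)) : x = y := by
  obtain ⟨k, hk⟩ := conjP_eq_iff h
  have e1 := congrFun (congrFun hk 0) 0
  have e2 := congrFun (congrFun hk 1) 1
  simp [coe_dG] at e1 e2
  exact Units.ext (by rw [e1, ← e2, one_mul])

theorem wG_dG (x : Fˣ) : (conjP wG : MulAut P2) * conjP (dG x 1) * (conjP wG)⁻¹ = conjP (dG x⁻¹ 1) := by
  rw [mul_inv_eq_iff_eq_mul, ← map_mul, ← map_mul]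
  have e : (wG : GL2) * dG x 1 = dG x x * (dG x⁻¹ 1 * wG) := Units.ext (by
    simp only [Units.val_mul, coe_dG, coe_wG]
    ext i j; fin_cases i <;> fin_cases j <;> simp [Matrix.mul_apply, Fin.sum_univ_two])
  rw [e, map_mul, conjP_scalar (scal_mem _), one_mul]

variable {G : Type u} [Group G] [Finite G]

theorem no_field {z : G} {A : Subgroup G} (K : Hyp z A) (ψ : G →* MulAut P2) (hψ : Function.Injective ψ)
    (hinn : ∀ m : P2, ∃ g, ψ g = MulAut.conj m) (hz : ψ z = conjP (dG (-1) 1))
    {β : G} (hβ : β ∈ A) {g : GL2} {τ : F ≃+* F} (hdec : ψ β = conjP g * fieldP τ) (hne : τ ≠ 1)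
    (hodd : Odd (Fintype.card F)) (hττ : τ * τ = 1) : False := by
  classical
  obtain ⟨hneg, h8⟩ := field_facts hodd hττ hne
  have h2 : (2 : F) ≠ 0 := Ring.two_ne_zero fun hc => by
    have : Even (Fintype.card F) := by
      haveI : CharP F 2 := hc ▸ ringChar.charP F
      obtain ⟨m, -, hm⟩ := FiniteField.card F 2
      rw [hm]; exact (Nat.even_pow.2 ⟨even_two, m.pos.ne'⟩)
    exact Nat.not_even_iff_odd.2 hodd this
  -- torus elements
  have hd : ∀ c : Fˣ, IsSquare c → ∃ d, ψ d = conjP (dG c 1) := fun c hc => by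
    obtain ⟨m, hm⟩ := inner_of_sq_det (g := dG c 1) (by
      rw [det_dG, Units.val_one, mul_one]; exact hc.map (Units.coeHom F))
    obtain ⟨d, hd⟩ := hinn m
    exact ⟨d, hd.trans hm.symm⟩
  choose d hd using hd
  obtain ⟨w, hw⟩ : ∃ w, ψ w = conjP wG := by
    obtain ⟨m, hm⟩ := inner_of_sq_det (g := (wG : GL2)) (by simp [coe_wG, det_fin_two])
    obtain ⟨w, hw⟩ := hinn m
    exact ⟨w, hw.trans hm.symm⟩
  have hdC : ∀ c hc, d c hc ∈ centralizer ({z} : Set G) := fun c hc => mem_cent.2 (hψ (by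
    rw [map_mul, map_mul, hd, hz, ← map_mul, ← map_mul, dG_mul, dG_mul, mul_comm c, one_mul]))
  obtain ⟨c₀, hc₀, hc₀2⟩ : ∃ c : Fˣ, IsSquare c ∧ c * c ≠ 1 := by
    obtain ⟨γ, hγ⟩ := IsCyclic.exists_generator (α := Fˣ)
    refine ⟨γ * γ, ⟨γ, rfl⟩, fun e => ?_⟩
    have hord : orderOf γ = Fintype.card F - 1 := by
      rw [orderOf_eq_card_of_forall_mem_zpowers hγ, Nat.card_eq_fintype_card, Fintype.card_units]
    have := orderOf_le_of_pow_eq_one (x := γ) (n := 4) (by norm_num) (by rw [pow_succ, pow_succ, pow_two, mul_assoc, e])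
    omega
  have hd₀A : d c₀ hc₀ ∈ A := by
    by_contra h
    have h1 := congrArg ψ (K.out _ (hdC c₀ hc₀) h)
    rw [map_mul, hd, map_one, ← map_mul, dG_mul, one_mul] at h1
    exact hc₀2 (dG_inj (x := c₀ * c₀) (y := 1) (by rw [h1, dG_one, map_one]))
  have hdA : ∀ c hc, d c hc ∈ A := fun c hc => by
    by_contra h
    have h1 := congrArg ψ (K.inverts (hdC c hc) h hd₀A)
    rw [map_mul, map_mul, map_inv, map_inv, hd, hd] at h1
    have h3 : (conjP (dG c 1) : MulAut P2) * conjP (dG c₀ 1) = conjP (dG c₀ 1) * conjP (dG c 1) := by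
      rw [← map_mul, ← map_mul, dG_mul, dG_mul, mul_comm c]
    rw [h3, mul_inv_cancel_right, eq_inv_iff_mul_eq_one, ← map_mul, dG_mul, one_mul] at h1
    exact hc₀2 (dG_inj (x := c₀ * c₀) (y := 1) (by rw [h1, dG_one, map_one]))
  have hwC : w ∈ centralizer ({z} : Set G) := mem_cent.2 (hψ (by
    rw [map_mul, map_mul, hw, hz, ← mul_inv_eq_iff_eq_mul, wG_dG, inv_neg, inv_one]))
  have hwA : w ∉ A := fun h => by
    have h1 := congrArg ψ (K.comm w h _ hd₀A)
    rw [map_mul, map_mul, hd, hw, ← mul_inv_eq_iff_eq_mul, wG_dG] at h1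
    exact hc₀2 (by
      nth_rewrite 1 [← dG_inj h1]
      exact inv_mul_cancel c₀)
  -- make the linear part diagonal
  obtain ⟨η, ν, hη, hηC⟩ : ∃ (η : G) (ν : Fˣ), ψ η = conjP (dG ν 1) * fieldP τ ∧
      η ∈ centralizer ({z} : Set G) := by
    have hdiag : ∀ (η : G) (h : GL2), η ∈ centralizer ({z} : Set G) → ψ η = conjP h * fieldP τ →
        (h : M2) 0 1 = 0 → (h : M2) 1 0 = 0 → ∃ (η : G) (ν : Fˣ), ψ η = conjP (dG ν 1) * fieldP τ ∧
          η ∈ centralizer ({z} : Set G) := by
      intro η h hC he h01 h10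
      have hdet : (h : M2) 0 0 * (h : M2) 1 1 ≠ 0 := fun e =>
        (GeneralLinearGroup.det h).ne_zero (by simp [det_fin_two, h01, e])
      refine ⟨η, Units.mk0 _ (left_ne_zero_of_mul hdet) * (Units.mk0 _ (right_ne_zero_of_mul hdet))⁻¹, ?_, hC⟩
      rw [he]
      congr 1
      have e : h = dG (Units.mk0 _ (right_ne_zero_of_mul hdet)) (Units.mk0 _ (right_ne_zero_of_mul hdet)) *
          dG (Units.mk0 _ (left_ne_zero_of_mul hdet) * (Units.mk0 _ (right_ne_zero_of_mul hdet))⁻¹) 1 := by
        refine Units.ext ?_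
        rw [dG_mul, coe_dG]
        ext i j; fin_cases i <;> fin_cases j <;> simp [h01, h10]
      conv_lhs => rw [e, map_mul, conjP_scalar (scal_mem _), one_mul]
    have hβz := congrArg ψ (mem_cent.1 (K.le hβ))
    rw [map_mul, map_mul, hdec, hz, mul_assoc, fieldP_mul_conjP, glMap_dG, ← mul_assoc, ← map_mul, ← mul_assoc,
      ← map_mul, mul_left_inj] at hβz
    have hm1 : Units.map (τ : F →* F) (-1) = -1 := Units.ext (by simp)
    rw [hm1, map_one] at hβz
    obtain ⟨k, hk⟩ := conjP_eq_iff hβz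
    have e00 := congrFun (congrFun hk 0) 0
    have e01 := congrFun (congrFun hk 0) 1
    have e10 := congrFun (congrFun hk 1) 0
    have e11 := congrFun (congrFun hk 1) 1
    simp [coe_dG, Matrix.mul_apply, Fin.sum_univ_two, Matrix.vecMul, dotProduct] at e00 e01 e10 e11
    by_cases hd0 : (g : M2) 0 0 = 0 ∧ (g : M2) 1 1 = 0
    · refine hdiag (β * w) (g * wG) (mul_mem (K.le hβ) hwC) ?_ ?_ ?_
      · rw [map_mul, hdec, hw, mul_assoc, fieldP_mul_conjP, glMap_wG, ← mul_assoc, ← map_mul]
      · simp [coe_wG, Matrix.mul_apply, Fin.sum_univ_two, hd0.1]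
      · simp [coe_wG, Matrix.mul_apply, Fin.sum_univ_two, hd0.2]
    · have hk1 : k = 1 := by
        rcases not_and_or.1 hd0 with h | h
        · exact mul_right_cancel₀ h (by linear_combination -e00)
        · exact mul_right_cancel₀ h (by linear_combination -e11)
      subst hk1
      refine hdiag β g (K.le hβ) hdec ?_ ?_
      · exact mul_left_cancel₀ h2 (by linear_combination e01)
      · exact mul_left_cancel₀ h2 (by linear_combination -e10)
  have hact : ∀ c hc, ψ (η * d c hc * η⁻¹) = conjP (dG (Units.map (τ : F →* F) c) 1) := fun c hc => by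
    rw [map_mul, map_mul, map_inv, hd, hη, _root_.mul_inv_rev, mul_assoc (conjP (dG ν 1)), fieldP_mul_conjP,
      glMap_dG, map_one, ← mul_assoc (conjP (dG ν 1)), ← mul_assoc, mul_inv_cancel_right, mul_inv_eq_iff_eq_mul,
      ← map_mul, ← map_mul, dG_mul, dG_mul, mul_comm ν]
  by_cases hηA : η ∈ A
  · refine hne (RingEquiv.ext fun x => ?_)
    have hfix : ∀ y : F, τ (y * y) = y * y := fun y => by
      by_cases hy : y = 0
      · rw [hy, mul_zero, map_zero]
      have hc : IsSquare (Units.mk0 y hy * Units.mk0 y hy) := ⟨_, rfl⟩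
      have h1 := hact _ hc
      rw [K.comm η hηA _ (hdA _ hc), mul_inv_cancel_right, hd] at h1
      exact (congrArg Units.val (dG_inj h1)).symm
    have h1 := hfix (x + 1)
    rw [show (x + 1) * (x + 1) = x * x + 2 * x + 1 by ring, map_add, map_add, map_mul τ 2, map_one, map_ofNat,
      hfix] at h1
    show τ x = x
    exact mul_left_cancel₀ h2 (by linear_combination h1)
  · have hτinv : ∀ c : Fˣ, IsSquare c → (τ (c : F)) * (c : F) = 1 := fun c hc => by
      have h1 := hact c hc
      rw [K.inverts hηC hηA (hdA c hc), map_inv, hd, inv_eq_iff_mul_eq_one, ← map_mul, dG_mul, one_mul] at h1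
      have h3 := congrArg Units.val (dG_inj (x := c * Units.map (τ : F →* F) c) (y := 1)
        (by rw [h1, dG_one, map_one]))
      simpa [mul_comm] using h3
    have hν : IsSquare ν := by
      by_contra hns
      have h1 := congrArg ψ (K.out η hηC hηA)
      rw [map_mul, hη, map_one, mul_assoc, ← mul_assoc (fieldP τ), fieldP_mul_conjP, glMap_dG, mul_assoc,
        ← map_mul (fieldP (F := F) (n := 2)), hττ, map_one (fieldP (F := F) (n := 2)), mul_one, map_one, ← map_mul,
        dG_mul, one_mul] at h1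
      have hνν : (ν : F) * τ ν = 1 := by
        simpa using congrArg Units.val (dG_inj (x := ν * Units.map (τ : F →* F) ν) (y := 1)
          (by rw [h1, dG_one, map_one]))
      have hall : ∀ x : F, x ≠ 0 → x * τ x = 1 := fun x hx => by
        by_cases hs : IsSquare (Units.mk0 x hx)
        · have := hτinv _ hs
          simpa [mul_comm] using this
        · have h3 := hτinv _ (nonsq_mul hns hs)
          simp only [Units.val_mul, Units.val_mk0, map_mul] at h3
          linear_combination h3 - (x * τ x) * hνν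
      have hq : ∀ x : F, x ≠ 0 → x + 1 ≠ 0 → x * x + x + 1 = 0 := fun x hx hx1 => by
        have h3 := hall _ hx1
        rw [map_add, map_one] at h3
        linear_combination x * h3 - (x + 1) * hall x hx
      have h30 : (3 : F) = 0 := by
        have := hq 1 one_ne_zero (by rw [one_add_one_eq_two]; exact h2)
        linear_combination this
      have hset : (Finset.univ : Finset F) ⊆ {0, -1, 1} := fun x _ => by
        by_cases hx : x = 0
        · simp [hx]
        by_cases hx1 : x + 1 = 0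
        · simp [eq_neg_of_add_eq_zero_left hx1]
        have : (x - 1) * (x - 1) = 0 := by linear_combination hq x hx hx1 - x * h30
        simp [sub_eq_zero.1 (mul_self_eq_zero.1 this)]
      have := (Finset.card_le_card hset).trans Finset.card_le_three
      rw [Finset.card_univ] at this
      omega
    set f := (d ν hν)⁻¹ * η with hf
    have hψf : ψ f = fieldP τ := by rw [hf, map_mul, map_inv, hd, hη, inv_mul_cancel_left]
    have hfA : f ∉ A := fun h => hηA ((Subgroup.mul_mem_cancel_left A (inv_mem (hdA ν hν))).1 h)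
    have hfC : f ∈ centralizer ({z} : Set G) := mul_mem (inv_mem (hdC ν hν)) hηC
    have hp : f * w ∈ A := K.mul_mem_A hfC hwC hfA hwA
    have hcm : (fieldP τ : MulAut P2) * conjP wG = conjP wG * fieldP τ := by rw [fieldP_mul_conjP, glMap_wG]
    have hww : (conjP wG : MulAut P2) * conjP wG = 1 := by
      rw [← pow_two]; exact orderOf_dvd_iff_pow_eq_one.1 (dvd_of_eq wG_order)
    have hp2 : (f * w) * (f * w) = 1 := hψ (by
      rw [map_mul, map_mul, hψf, hw, map_one, hcm, mul_assoc, ← mul_assoc (fieldP τ), hcm, mul_assoc,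
        ← map_mul fieldP, hττ, map_one, mul_one, hww])
    have key : ∀ A' : GL2, ψ (f * w) ≠ conjP A' := fun A' e => by
      rw [map_mul, hψf, hw, hcm, ← inv_mul_eq_one.trans eq_comm, ← map_inv, ← mul_assoc, ← map_mul] at e
      exact hne (conjP_fieldP_eq_one le_rfl e).2
    rcases two_or_one hp2 with h | h
    · exact key 1 (by rw [h, map_one, map_one])
    · exact key _ (by rw [K.uniq _ hp h, hz])

/-- The extension of degree two. -/
theorem pgl_of_index_two {z : G} {A : Subgroup G} (K : Hyp z A) (hodd : Odd (Fintype.card F)) (L : Subgroup G)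
    [L.Normal] (hC : centralizer (L : Set G) = ⊥) (e : L ≃* P2) {σ : G} (hσA : σ ∈ A)
    (hσ : σ ∉ L) (hcov : ∀ g : G, g ∈ L ∨ g * σ⁻¹ ∈ L)
    (hone : ∀ u ∈ L, orderOf u = 2 → ∃ l ∈ L, l * z * l⁻¹ = u) :
    Nonempty (G ≃* Matrix.ProjGenLinGroup (Fin 2) F) := by
  classical
  set ψ : G →* MulAut P2 := (MulAut.congr e).toMonoidHom.comp MulAut.conjNormal with hψdef
  have hψL : ∀ (l : G) (hl : l ∈ L), ψ l = MulAut.conj (e ⟨l, hl⟩) := fun l hl => MulEquiv.ext fun m => by
    show e (MulAut.conjNormal l (e.symm m)) = e ⟨l, hl⟩ * m * (e ⟨l, hl⟩)⁻¹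
    rw [show MulAut.conjNormal l (e.symm m) = ⟨l, hl⟩ * e.symm m * ⟨l, hl⟩⁻¹ from
      Subtype.ext (by simp [MulAut.conjNormal_apply]), map_mul, map_mul, map_inv, e.apply_symm_apply]
  have hψi : Function.Injective ψ := by
    rw [injective_iff_map_eq_one]
    intro g hg
    rw [← Subgroup.mem_bot, ← hC]
    refine mem_centralizer_iff.2 fun x hx => ?_
    have h := MulEquiv.ext_iff.1 hg (e ⟨x, hx⟩)
    change e (MulAut.conjNormal g (e.symm (e ⟨x, hx⟩))) = e ⟨x, hx⟩ at h
    rw [e.symm_apply_apply] at h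
    have h1 := congrArg Subtype.val (e.injective h)
    rw [MulAut.conjNormal_apply] at h1
    exact (mul_inv_eq_iff_eq_mul.1 h1).symm
  have hinn : ∀ m : P2, ∃ g, ψ g = MulAut.conj m := fun m => ⟨(e.symm m : L), by
    rw [hψL _ (e.symm m).2, Subtype.coe_eta, e.apply_symm_apply]⟩
  have hsq : σ * σ ∈ L := by
    rcases hcov (σ * σ) with h | h
    · exact h
    · rw [mul_inv_cancel_right] at h; exact absurd h hσ
  obtain ⟨g, τ, hdec⟩ := decomp_two (ψ σ)
  have hτ : τ = 1 := by
    by_contra hne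
    have hττ : τ * τ = 1 := inner_of_sq (g := g) (m := e ⟨_, hsq⟩) (by rw [← hdec, ← map_mul, hψL])
    obtain ⟨⟨i, hi⟩, -⟩ := field_facts hodd hττ hne
    obtain ⟨m, hm⟩ := inner_of_sq_det (g := (dG (-1) 1 : GL (Fin 2) F))
      (by rw [det_dG]; exact ⟨i, by simpa using hi⟩)
    set u : G := ((e.symm m : L) : G) with hu
    have hψu : ψ u = conjP (dG (-1) 1) := by
      rw [hu, hψL _ (e.symm m).2, Subtype.coe_eta, e.apply_symm_apply, hm]
    have hu2 : orderOf u = 2 := by
      rw [← orderOf_injective ψ hψi, hψu]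
      refine orderOf_eq_prime ?_ ?_
      · rw [← map_pow, dG_pow, neg_one_sq, one_pow, dG_one, map_one]
      · intro h
        have h1 := congrArg Units.val (dG_inj (F := F) (x := -1) (y := 1) (by rw [h, dG_one, map_one]))
        simp only [Units.val_neg, Units.val_one] at h1
        have h2 : (2 : F) = 0 := by linear_combination -h1
        have : ringChar F = 2 := ((Nat.prime_dvd_prime_iff_eq (CharP.char_is_prime F (ringChar F)) Nat.prime_two).1
          ((ringChar.spec F 2).1 (by exact_mod_cast h2)))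
        haveI : CharP F 2 := this ▸ ringChar.charP F
        obtain ⟨k, -, hk⟩ := FiniteField.card F 2
        rw [hk] at hodd
        exact Nat.not_even_iff_odd.2 hodd (Nat.even_pow.2 ⟨even_two, k.pos.ne'⟩)
    obtain ⟨l, hl, hlu⟩ := hone u (e.symm m).2 hu2
    obtain ⟨g', τ', hdec'⟩ := decomp_two (ψ (l * σ * l⁻¹))
    have hβL : l * σ * l⁻¹ * (l * σ * l⁻¹) ∈ L := by
      rw [show l * σ * l⁻¹ * (l * σ * l⁻¹) = l * (σ * σ) * l⁻¹ by group]
      exact mul_mem (mul_mem hl hsq) (inv_mem hl)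
    by_cases hτ' : τ' = 1
    · -- then the original element is linear
      obtain ⟨Ml, hMl⟩ := QuotientGroup.mk_surjective (e ⟨l, hl⟩)
      have hψl : ψ l = conjP (Matrix.SpecialLinearGroup.toGL Ml) := by
        rw [hψL l hl, ← hMl]; exact (conjP_toGL Ml).symm
      rw [map_mul, map_mul, map_inv, hψl, hdec, hτ', map_one, mul_one] at hdec'
      refine hne (conjP_fieldP_eq_one le_rfl (A := (Matrix.SpecialLinearGroup.toGL Ml)⁻¹ * g'⁻¹ *
        Matrix.SpecialLinearGroup.toGL Ml * g) ?_).2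
      rw [map_mul, map_mul, map_mul, map_inv, map_inv, ← hdec']
      group
    · refine no_field (hlu ▸ K.conj l) ψ hψi hinn hψu (β := l * σ * l⁻¹)
        (show l * σ * l⁻¹ ∈ A.map (MulAut.conj l).toMonoidHom from ⟨σ, hσA, rfl⟩) hdec' hτ' hodd
        (inner_of_sq (g := g') (m := e ⟨_, hβL⟩) (by rw [← hdec', ← map_mul, hψL]))
  rw [hτ, map_one, mul_one] at hdec
  have hns : ¬ IsSquare (GeneralLinearGroup.det g) := by
    intro hs
    obtain ⟨m, hm⟩ := inner_of_sq_det (g := g) (by simpa using hs.map (Units.coeHom F))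
    refine hσ ?_
    rw [hψi (hdec.trans (hm.trans (by rw [hψL _ (e.symm m).2, Subtype.coe_eta, e.apply_symm_apply]) :
      conjP g = ψ ((e.symm m : L) : G)))]
    exact (e.symm m).2
  have hrange : ψ.range = (conjP : GL (Fin 2) F →* MulAut P2).range := by
    refine le_antisymm ?_ ?_
    · rintro _ ⟨x, rfl⟩
      have hL : ∀ y ∈ L, ψ y ∈ (conjP : GL (Fin 2) F →* MulAut P2).range := fun y hy => by
        obtain ⟨My, hMy⟩ := QuotientGroup.mk_surjective (e ⟨y, hy⟩)
        exact ⟨Matrix.SpecialLinearGroup.toGL My, by rw [hψL y hy, ← hMy]; exact conjP_toGL My⟩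
      rcases hcov x with h | h
      · exact hL x h
      · rw [show x = x * σ⁻¹ * σ by group, map_mul]
        exact mul_mem (hL _ h) ⟨g, hdec.symm⟩
    · rintro _ ⟨a, rfl⟩
      have hsqmem : ∀ b : GL (Fin 2) F, IsSquare (GeneralLinearGroup.det b) → conjP b ∈ ψ.range := fun b hb => by
        obtain ⟨m, hm⟩ := inner_of_sq_det (g := b) (by simpa using hb.map (Units.coeHom F))
        obtain ⟨y, hy⟩ := hinn m
        exact ⟨y, hy.trans hm.symm⟩
      by_cases hs : IsSquare (GeneralLinearGroup.det a)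
      · exact hsqmem a hs
      · rw [show a = a * g * g⁻¹ by group, map_mul, map_inv, ← hdec]
        exact mul_mem (hsqmem _ (by rw [map_mul]; exact nonsq_mul hs hns)) (inv_mem ⟨σ, rfl⟩)
  obtain ⟨r⟩ := range_conjP_equiv (F := F)
  exact ⟨((MonoidHom.ofInjective hψi).trans (MulEquiv.subgroupCongr hrange)).trans r⟩

end Cfsg.Lib.GenDihedral
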