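import Cfsg.Agent.GenDihedral.Red.AutTwo
import Cfsg.Agent.GenDihedral.CoreThm
import Cfsg.Agent.Classical.Misc.SmallPSL
import Cfsg.Agent.Transfer.IndexPrimeTo

/-!
The case in which the centraliser contains a Sylow 2-subgroup and the odd core is trivial.
-/

set_option autoImplicit false
set_option linter.unusedSectionVars false
set_option linter.style.haveILetI false

namespace Cfsg.Lib.GenDihedral

open Subgroup

universe u

variable {G : Type u} [Group G] [Finite G]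

theorem three_lt (F : Type) [Field F] [Fintype F]
    (h : ¬ Group.IsSolvable (Matrix.ProjectiveSpecialLinearGroup (Fin 2) F)) : 3 < Fintype.card F := by
  by_contra hle
  refine h (solvable_small ?_)
  have hc := Cfsg.Lib.Classical.SmallPSL.card_psl (F := F) rfl
  have h2 : 2 ≤ Fintype.card F := Fintype.one_lt_card
  rcases (show Fintype.card F = 2 ∨ Fintype.card F = 3 by omega) with e | e <;> rw [e] at hc <;>
    norm_num at hc <;> omega

/-- A conclusion: `PSL(2, q)` or `PGL(2, q)`. -/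
def PslPgl (G : Type u) [Group G] : Prop :=
  ∃ (F : Type) (_ : Field F) (_ : Fintype F), 3 < Fintype.card F ∧
    (Nonempty (G ≃* Matrix.ProjectiveSpecialLinearGroup (Fin 2) F) ∨
      Nonempty (G ≃* Matrix.ProjGenLinGroup (Fin 2) F))

theorem two_elt {P : Subgroup G} (hP : IsPGroup 2 P) {x : G} (hx : x ∈ P) (h1 : x ≠ 1) :
    ∃ j : ℕ, orderOf (x ^ 2 ^ j) = 2 := by
  haveI : Fact (Nat.Prime 2) := ⟨Nat.prime_two⟩
  obtain ⟨k, hk⟩ := IsPGroup.iff_orderOf.1 hP ⟨x, hx⟩
  rw [Subgroup.orderOf_mk] at hk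
  rcases k with _ | k
  · exact absurd (orderOf_eq_one_iff.1 (by simpa using hk)) h1
  · refine ⟨k, ?_⟩
    rw [orderOf_pow' x (pow_ne_zero _ two_ne_zero), hk, pow_succ, Nat.gcd_eq_right (Dvd.intro _ rfl),
      Nat.mul_div_cancel_left _ (Nat.two_pow_pos k)]

theorem normal_two_le_sylow {M : Subgroup G} [M.Normal] (hM : IsPGroup 2 M) (T : Sylow 2 G) :
    M ≤ (T : Subgroup G) :=
  sup_eq_left.1 (T.3 (T.2.to_sup_of_normal_right hM) le_sup_left)

namespace Hyp

variable {z : G} {A : Subgroup G} (K : Hyp z A)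
include K

theorem solvable_cent : Group.IsSolvable (centralizer ({z} : Set G)) := solvable_of_idx_two K.comm K.idx

theorem noTwo (hns : ¬ Group.IsSolvable G) : NoTwo G := by
  classical
  haveI : Fact (Nat.Prime 2) := ⟨Nat.prime_two⟩
  intro M hM hexp
  haveI := hM
  by_contra hne
  obtain ⟨T, hT⟩ := exists_sylow_le K.oddIdx
  have hMC : M ≤ centralizer ({z} : Set G) :=
    (normal_two_le_sylow (fun x => ⟨1, Subtype.ext (by simp [pow_two, hexp _ x.2])⟩) T).trans hT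
  have hA : ∀ x ∈ M, x ∈ A → x = 1 ∨ x = z := fun x hx hxA =>
    (two_or_one (hexp x hx)).imp_right (K.uniq x hxA)
  -- `M` has at most four elements
  obtain ⟨x₀, hsub⟩ : ∃ x₀ ∈ (M : Set G), (M : Set G) ⊆ {1, z, x₀, x₀ * z} := by
    by_cases h : ∃ x ∈ M, x ∉ A
    · obtain ⟨x₀, hx₀, hx₀A⟩ := h
      refine ⟨x₀, hx₀, fun y hy => ?_⟩
      by_cases hyA : y ∈ A
      · rcases hA y hy hyA with rfl | rfl <;> simp
      · rcases hA _ (mul_mem hx₀ hy) (K.mul_mem_A (hMC hx₀) (hMC hy) hx₀A hyA) with e | e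
        · rw [eq_inv_of_mul_eq_one_right e, inv_eq_of_mul_eq_one_left (hexp x₀ hx₀)]; simp
        · right; right; right
          rw [Set.mem_singleton_iff, ← e, ← mul_assoc, hexp x₀ hx₀, one_mul]
    · push Not at h
      exact ⟨1, one_mem M, fun y hy => by rcases hA y hy (h y hy) with rfl | rfl <;> simp⟩
  have h4 : Nat.card M ≤ 4 := by
    refine (Nat.card_coe_set_eq (M : Set G)).le.trans ((Set.ncard_le_ncard hsub.2).trans ?_)
    refine (Set.ncard_insert_le _ _).trans (Nat.succ_le_succ ?_)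
    refine (Set.ncard_insert_le _ _).trans (Nat.succ_le_succ ?_)
    exact (Set.ncard_insert_le _ _).trans (by rw [Set.ncard_singleton])
  by_cases hzM : z ∈ M
  · exact hns (solvable_of_small_normal M h4 (solvable_of_le
      (centralizer_le (Set.singleton_subset_iff.2 hzM)) K.solvable_cent))
  -- a central involution outside `A`
  have hA1 : ∀ x ∈ M, x ∈ A → x = 1 := fun x hx hxA => (hA x hx hxA).resolve_right fun e => hzM (e ▸ hx)
  obtain ⟨v, hv, hv1⟩ := M.bot_or_exists_ne_one.resolve_left hne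
  have hvA : v ∉ A := fun h => hv1 (hA1 v hv h)
  have honly : ∀ y ∈ M, y ≠ 1 → y = v := fun y hy hy1 => by
    have hyA : y ∉ A := fun h => hy1 (hA1 y hy h)
    rw [eq_inv_of_mul_eq_one_left (hA1 _ (mul_mem hy hv) (K.mul_mem_A (hMC hy) (hMC hv) hyA hvA)),
      inv_eq_of_mul_eq_one_left (hexp v hv)]
  have hcentral : ∀ g : G, g * v * g⁻¹ = v := fun g =>
    honly _ (hM.conj_mem v hv g) fun e => hv1 (conj_eq_one_iff.1 e)
  have hA2 : ∀ a ∈ A, a = 1 ∨ a = z := fun a ha => by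
    have h := K.inverts (hMC hv) hvA ha
    have h' : v * a * v⁻¹ = a := by
      rw [mul_inv_eq_iff_eq_mul.1 (hcentral a) |>.symm, mul_inv_cancel_right]
    rw [h'] at h
    exact (two_or_one (mul_eq_one_iff_eq_inv.2 h)).imp_right (K.uniq a ha)
  have hC4 : ((centralizer ({z} : Set G)) : Set G) ⊆ {1, z, v, z * v} := fun x hx => by
    by_cases hxA : x ∈ A
    · rcases hA2 x hxA with rfl | rfl <;> simp
    · rcases hA2 _ (K.mul_mem_A hx (hMC hv) hxA hvA) with e | e
      · rw [eq_inv_of_mul_eq_one_left e, inv_eq_of_mul_eq_one_left (hexp v hv)]; simp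
      · right; right; right
        rw [Set.mem_singleton_iff, ← e, mul_assoc, hexp v hv, mul_one]
  have hT4 : Nat.card (T : Subgroup G) ≤ 4 := by
    refine (card_le_of_le hT).trans ((Nat.card_coe_set_eq _).le.trans ((Set.ncard_le_ncard hC4).trans ?_))
    refine (Set.ncard_insert_le _ _).trans (Nat.succ_le_succ ?_)
    refine (Set.ncard_insert_le _ _).trans (Nat.succ_le_succ ?_)
    exact (Set.ncard_insert_le _ _).trans (by rw [Set.ncard_singleton])
  refine hns (solvable_ext M (solvable_of_two fun x => ⟨1, Subtype.ext (by simp [pow_two, hexp _ x.2])⟩)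
    (solvable_of_not_four fun h => ?_))
  have hM2 : 2 ≤ Nat.card M := by
    haveI : Nontrivial M := (Subgroup.nontrivial_iff_ne_bot M).2 hne
    exact Finite.one_lt_card
  have h8 : 2 ^ 3 ∣ Nat.card G := by
    rw [card_eq_card_quotient_mul_card_subgroup M, show (2 : ℕ) ^ 3 = 4 * 2 by norm_num]
    refine Nat.mul_dvd_mul h ?_
    haveI : Nontrivial M := (Subgroup.nontrivial_iff_ne_bot M).2 hne
    have hp2 : IsPGroup 2 M := fun x => ⟨1, Subtype.ext (by simp [pow_two, hexp _ x.2])⟩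
    rcases hp2.card_eq_or_dvd with e | e
    · omega
    · exact e
  rw [← (T : Subgroup G).card_mul_index] at h8
  have hcop : Nat.Coprime (2 ^ 3) (T : Subgroup G).index :=
    Nat.Coprime.pow_left 3 ((Nat.prime_two.coprime_iff_not_dvd).2 T.not_dvd_index)
  have := Nat.le_of_dvd Nat.card_pos (hcop.dvd_of_dvd_mul_right h8)
  omega

theorem z_mem_normal (M : Subgroup G) [M.Normal] (hM : ¬ Group.IsSolvable M) : z ∈ M := by
  by_contra hzM
  haveI : Fact (Nat.Prime 2) := ⟨Nat.prime_two⟩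
  obtain ⟨T, hT⟩ := exists_sylow_le K.oddIdx
  refine hM (solvable_of_small_inf T M ?_)
  have hA1 : ∀ x ∈ (T : Subgroup G) ⊓ M, x ∈ A → x = 1 := fun x hx hxA => by
    by_contra h1
    obtain ⟨j, hj⟩ := two_elt T.2 hx.1 h1
    exact hzM (K.uniq _ (pow_mem hxA _) hj ▸ pow_mem hx.2 _)
  rw [show Nat.card ((T : Subgroup G) ⊓ M : Subgroup G) = _ from Nat.card_coe_set_eq _]
  by_cases h : ∃ x ∈ (T : Subgroup G) ⊓ M, x ∉ A
  · obtain ⟨x₀, hx₀, hx₀A⟩ := h
    refine (Set.ncard_le_ncard (t := {1, x₀⁻¹}) fun y hy => ?_).trans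
      ((Set.ncard_insert_le _ _).trans (by rw [Set.ncard_singleton]))
    by_cases hyA : y ∈ A
    · simp [hA1 y hy hyA]
    · right
      exact eq_inv_of_mul_eq_one_right (hA1 _ (mul_mem hx₀ hy) (K.mul_mem_A (hT hx₀.1) (hT hy.1) hx₀A hyA))
  · push Not at h
    refine (Set.ncard_le_ncard (t := {1}) fun y hy => ?_).trans (by rw [Set.ncard_singleton]; norm_num)
    simp [hA1 y hy (h y hy)]

theorem exists_out (L : Subgroup G) [L.Normal] (hL : ¬ Group.IsSolvable L) :
    ∃ x ∈ L, x ∈ centralizer ({z} : Set G) ∧ x ∉ A := by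
  by_contra h
  push Not at h
  haveI : Fact (Nat.Prime 2) := ⟨Nat.prime_two⟩
  obtain ⟨T, hT⟩ := exists_sylow_le K.oddIdx
  obtain ⟨P, hP⟩ := Cfsg.Lib.Transfer.exists_sylow_subgroupOf T L
  haveI hc : IsCyclic ((T : Subgroup G) ⊓ L : Subgroup G) :=
    K.isCyclic_two (T.2.to_le inf_le_left) fun x hx => h x hx.2 (hT hx.1)
  refine hL (Cfsg.Lib.CyclicInter.solvable_of_cyclic P ?_)
  rw [hP, ← inf_subgroupOf_right]
  exact (subgroupOfEquivOfLe inf_le_right).isCyclic.2 hc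

theorem restrict (L : Subgroup G) [L.Normal] (hzL : z ∈ L) (hL : ¬ Group.IsSolvable L) :
    Hyp (⟨z, hzL⟩ : L) (A.subgroupOf L) := by
  have hC : centralizer ({(⟨z, hzL⟩ : L)} : Set L) = (centralizer ({z} : Set G)).subgroupOf L := by
    ext x
    rw [mem_subgroupOf, mem_cent, mem_cent, Subtype.ext_iff]
    rfl
  obtain ⟨x₀, hx₀L, hx₀C, hx₀A⟩ := K.exists_out L hL
  refine ⟨(Subgroup.orderOf_mk z hzL).trans K.two, mem_subgroupOf.2 K.mem, hC ▸ fun a ha => K.le ha,
    fun a ha b hb => Subtype.ext (K.comm a ha b hb), ?_, fun a ha h => Subtype.ext (K.uniq a ha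
      ((Subgroup.orderOf_coe a).trans h)), ?_, ?_⟩
  · refine index_eq_two_iff.2 ⟨⟨⟨x₀, hx₀L⟩, hC ▸ mem_subgroupOf.2 hx₀C⟩, fun b => ?_⟩
    have hb : ((b : L) : G) ∈ centralizer ({z} : Set G) := mem_subgroupOf.1 (hC.le b.2)
    simp only [mem_subgroupOf, Subgroup.coe_mul]
    by_cases hbA : ((b : L) : G) ∈ A
    · exact Or.inr ⟨hbA, fun h => hx₀A ((Subgroup.mul_mem_cancel_left A hbA).1 h)⟩
    · exact Or.inl ⟨K.mul_mem_A hb hx₀C hbA hx₀A, hbA⟩
  · rw [hC]
    exact fun x hx hxA => Subtype.ext (K.out x hx hxA)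
  · rw [hC]
    refine K.oddIdx.of_dvd_nat ?_
    show (centralizer ({z} : Set G)).relIndex L ∣ _
    rw [Cfsg.Lib.Transfer.relIndex_eq_relIndex_sup_of_normal _ L]
    exact Dvd.intro _ (relIndex_mul_index le_sup_left)

/-- Two elements of `A` outside a normal subgroup containing an outside element multiply into it. -/
theorem mul_mem_of_not_mem (L : Subgroup G) [L.Normal] {x₀ : G} (hx₀L : x₀ ∈ L)
    (hx₀C : x₀ ∈ centralizer ({z} : Set G)) (hx₀A : x₀ ∉ A) {a b : G} (ha : a ∈ A) (hb : b ∈ A)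
    (haL : a ∉ L) (hbL : b ∉ L) : a * b ∈ L := by
  haveI : Fact (Nat.Prime 2) := ⟨Nat.prime_two⟩
  have hsq : ∀ c ∈ A, c * c ∈ L := fun c hc => by
    have h := K.inverts hx₀C hx₀A hc
    have h2 : x₀ * (c * x₀⁻¹ * c⁻¹) = (c * c)⁻¹ := by
      rw [← mul_assoc, ← mul_assoc, h, _root_.mul_inv_rev]
    exact L.inv_mem_iff.1 (h2 ▸ mul_mem hx₀L ((inferInstance : L.Normal).conj_mem _ (inv_mem hx₀L) c))
  let R : Subgroup G :=
    { carrier := {x | x ∈ A ∧ ∃ k : ℕ, x ^ 2 ^ k = 1}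
      one_mem' := ⟨one_mem A, 0, one_pow _⟩
      mul_mem' := by
        rintro x y ⟨hx, k, hk⟩ ⟨hy, l, hl⟩
        refine ⟨mul_mem hx hy, k + l, ?_⟩
        rw [(show Commute x y from K.comm x hx y hy).mul_pow, pow_add, pow_mul, hk, one_pow, one_mul,
          mul_comm (2 ^ k), pow_mul, hl, one_pow]
      inv_mem' := by
        rintro x ⟨hx, k, hk⟩
        exact ⟨inv_mem hx, k, by rw [inv_pow, hk, inv_one]⟩ }
  haveI : IsCyclic R := K.isCyclic_two (R := R)
    (fun x => let ⟨k, hk⟩ := x.2.2; ⟨k, Subtype.ext (by simpa using hk)⟩) fun x hx => hx.1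
  have htwo : ∀ c ∈ A, ∃ c' ∈ R, c' * c⁻¹ ∈ L := fun c hc => by
    obtain ⟨k, m, hm, hkm⟩ := Nat.exists_eq_two_pow_mul_odd (orderOf_pos c).ne'
    obtain ⟨j, rfl⟩ := hm
    refine ⟨c ^ (2 * j + 1), ⟨pow_mem hc _, k, ?_⟩, ?_⟩
    · rw [← pow_mul, mul_comm, ← hkm, pow_orderOf_eq_one]
    · rw [pow_succ, mul_inv_cancel_right, pow_mul, pow_two]
      exact pow_mem (hsq c hc) j
  obtain ⟨a', ha', haa⟩ := htwo a ha
  obtain ⟨b', hb', hbb⟩ := htwo b hb
  obtain ⟨⟨r, hr⟩, hgen⟩ := IsCyclic.exists_generator (α := R)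
  obtain ⟨i, hi⟩ := mem_zpowers_iff.1 (hgen ⟨a', ha'⟩)
  obtain ⟨j, hj⟩ := mem_zpowers_iff.1 (hgen ⟨b', hb'⟩)
  have hi' : r ^ i = a' := congrArg Subtype.val hi
  have hj' : r ^ j = b' := congrArg Subtype.val hj
  have heven : ∀ l : ℤ, r ^ (2 * l) ∈ L := fun l => by
    rw [zpow_mul, zpow_two]; exact zpow_mem (hsq r hr.1) l
  have hmem : ∀ x y : G, x ∈ L → x * y⁻¹ ∈ L → y ∈ L := fun x y hx h => by
    have := mul_mem (inv_mem h) hx
    rwa [_root_.mul_inv_rev, inv_inv, inv_mul_cancel_right] at this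
  rcases Int.even_or_odd' i with ⟨i', rfl | rfl⟩
  · exact absurd (hmem a' a (hi' ▸ heven i') haa) haL
  rcases Int.even_or_odd' j with ⟨j', rfl | rfl⟩
  · exact absurd (hmem b' b (hj' ▸ heven j') hbb) hbL
  refine hmem (a' * b') (a * b) ?_ ?_
  · rw [← hi', ← hj', ← _root_.zpow_add, show 2 * i' + 1 + (2 * j' + 1) = 2 * (i' + j' + 1) by ring]
    exact heven _
  · rw [show a' * b' * (a * b)⁻¹ = a' * (b' * b⁻¹) * a'⁻¹ * (a' * a⁻¹) by group]
    exact mul_mem ((inferInstance : L.Normal).conj_mem _ hbb _) haa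

/-- The centraliser case. -/
theorem central (hO : NoOdd G) (hns : ¬ Group.IsSolvable G) : PslPgl G := by
  classical
  haveI : Nontrivial G := by
    by_contra h
    haveI := not_nontrivial_iff_subsingleton.1 h
    exact hns inferInstance
  obtain ⟨L, -, hLn, hLb, hmin⟩ :=
    Cfsg.Lib.Coprime.exists_minimal_normal (K := (⊤ : Subgroup G)) inferInstance top_ne_bot
  haveI := hLn
  have hrad := fun (M : Subgroup G) (hM : M.Normal) (hs : Group.IsSolvable M) =>
    rad_bot hO (K.noTwo hns) hM hs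
  have hLs : ¬ Group.IsSolvable L := fun h => hLb (hrad L hLn h)
  have hzL := K.z_mem_normal L hLs
  have KL := K.restrict L hzL hLs
  have hz1 : (⟨z, hzL⟩ : L) ≠ 1 := fun e => by
    have := K.two
    rw [show z = 1 from congrArg Subtype.val e, orderOf_one] at this
    omega
  haveI hsimp : IsSimpleGroup L := simple_of_common hLb hmin hz1 fun M hM hMb => by
    haveI := hM
    exact KL.z_mem_normal M fun hs => hMb (rad_bot (noOdd_sub hO L) (KL.noTwo hLs) hM hs)
  have KC : Core (⟨z, hzL⟩ : L) (A.subgroupOf L) := ⟨KL, hsimp, hLs⟩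
  obtain ⟨F, i1, i2, hodd, ⟨e⟩⟩ := KC.iso_psl
  have h3 : 3 < Fintype.card F := three_lt F fun h =>
    hLs (Group.isSolvable_of_isSolvable_injective (f := e.toMonoidHom) e.injective)
  refine ⟨F, i1, i2, h3, ?_⟩
  have hC : centralizer (L : Set G) = ⊥ := hrad _ inferInstance (solvable_of_le
    (centralizer_le (Set.singleton_subset_iff.2 hzL)) K.solvable_cent)
  obtain ⟨x₀, hx₀L, hx₀C, hx₀A⟩ := K.exists_out L hLs
  have hone : ∀ u ∈ L, orderOf u = 2 → ∃ l ∈ L, l * z * l⁻¹ = u := fun u hu hu2 => by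
    obtain ⟨l, hl⟩ := KC.one_class (u := ⟨u, hu⟩) (by rw [Subgroup.orderOf_mk, hu2])
    exact ⟨l, l.2, congrArg Subtype.val hl⟩
  have hLA : ∀ g : G, ∃ a ∈ A, g * a⁻¹ ∈ L := fun g => by
    obtain ⟨l, hl, hlz⟩ := hone _ (hLn.conj_mem z hzL g)
      (by rw [← MulAut.conj_apply, MulEquiv.orderOf_eq, K.two])
    have hc : l⁻¹ * g ∈ centralizer ({z} : Set G) := mem_cent.2 (by
      have := congrArg (fun y => l⁻¹ * y * g) hlz
      simpa [mul_assoc] using this.symm)
    by_cases hcA : l⁻¹ * g ∈ A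
    · exact ⟨_, hcA, by rwa [_root_.mul_inv_rev, inv_inv, mul_inv_cancel_left]⟩
    · refine ⟨_, K.mul_mem_A hc hx₀C hcA hx₀A, ?_⟩
      rw [show g * (l⁻¹ * g * x₀)⁻¹ = g * x₀⁻¹ * g⁻¹ * l by group]
      exact mul_mem (hLn.conj_mem _ (inv_mem hx₀L) g) hl
  by_cases htop : ∀ a ∈ A, a ∈ L
  · refine Or.inl ⟨MulEquiv.trans ?_ e⟩
    have hL : L = ⊤ := eq_top_iff.2 fun g _ => by
      obtain ⟨a, ha, hg⟩ := hLA g
      simpa using mul_mem hg (htop a ha)
    exact (Subgroup.topEquiv.symm).trans (MulEquiv.subgroupCongr hL.symm)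
  · push Not at htop
    obtain ⟨σ, hσA, hσ⟩ := htop
    refine Or.inr (pgl_of_index_two K hodd L hC e hσA hσ (fun g => ?_) hone)
    obtain ⟨a, ha, hg⟩ := hLA g
    by_cases haL : a ∈ L
    · left; simpa using mul_mem hg haL
    · right
      have h := K.mul_mem_of_not_mem L hx₀L hx₀C hx₀A ha (inv_mem hσA) haL (fun h => hσ (L.inv_mem_iff.1 h))
      have := mul_mem hg h
      rwa [mul_assoc, inv_mul_cancel_left] at this

end Hyp

end Cfsg.Lib.GenDihedral
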