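import Cfsg.Agent.GenDihedral.Red.Fusion
import Cfsg.Agent.GenDihedral.Formula

/-!
The order formula in subgroups of the index-two subgroup.
-/

set_option autoImplicit false
set_option linter.unusedSectionVars false
set_option linter.style.haveILetI false

namespace Cfsg.Lib.GenDihedral

open Subgroup

universe u

variable {G : Type u} [Group G] [Finite G]

theorem card_cent_sub (N : Subgroup G) (S : Set N)
    (h : centralizer ((↑) '' S : Set G) ⊓ N = centralizer ((↑) '' S : Set G)) :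
    Nat.card (centralizer S) = Nat.card (centralizer ((↑) '' S : Set G)) := by
  refine Nat.card_congr
    { toFun := fun x => ⟨(x : N), mem_centralizer_iff.2 ?_⟩
      invFun := fun x => ⟨⟨x, (h.ge x.2).2⟩, mem_centralizer_iff.2 fun s hs => Subtype.ext
        (mem_centralizer_iff.1 x.2 s ⟨s, hs, rfl⟩)⟩
      left_inv := fun x => rfl
      right_inv := fun x => rfl }
  rintro _ ⟨s, hs, rfl⟩
  exact congrArg Subtype.val (mem_centralizer_iff.1 x.2 s hs)

namespace Inner

variable {z w s : G} {k : ℕ} {T : Sylow 2 G} {U M : Subgroup G} (I : Inner z w s k T U M)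
include I

theorem odd_R : Odd (Nat.card I.R) := odd_of_le I.Uodd I.R_le

/-- The centraliser of `R` in `M`. -/
theorem le_centR : (T : Subgroup G) ⊓ M ≤ M ⊓ centralizer (I.R : Set G) := fun _ hx =>
  ⟨hx.2, mem_centralizer_iff.2 fun _ hv => (mul_inv_eq_iff_eq_mul.1 (I.TM_cent_R hx hv)).symm⟩

theorem centw_le : centralizer ({w} : Set G) ⊓ M ≤ M ⊓ centralizer (I.R : Set G) := by
  rintro x ⟨hx, hxM⟩
  obtain ⟨v, hv, t, ht, rfl⟩ := I.Udec x hx
  have htM : t ∈ M := (Subgroup.mul_mem_cancel_left M (I.U_le_M hv)).1 hxM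
  exact ⟨hxM, mul_mem (mem_centralizer_iff.2 fun r hr => I.U_comm (I.R_le hr) hv) (I.le_centR ⟨ht, htM⟩).2⟩

theorem card_TM : Nat.card ((T : Subgroup G) ⊓ M : Subgroup G) = 2 ^ k := by
  haveI : Fact (Nat.Prime 2) := ⟨Nat.prime_two⟩
  have hrel : (zpowers s).relIndex (T : Subgroup G) = 2 := by
    refine index_eq_two_iff.2 ⟨⟨z, I.out.zT⟩, fun b => ?_⟩
    simp only [mem_subgroupOf, Subgroup.coe_mul]
    rcases I.out.cov b b.2 with h | h
    · exact Or.inr ⟨h, fun h' => I.out.notin ((Subgroup.mul_mem_cancel_left _ h).1 h')⟩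
    · exact Or.inl ⟨h, fun h' => I.out.notin ((Subgroup.mul_mem_cancel_left _ h').1 h)⟩
  have hrel2 : ((T : Subgroup G) ⊓ M).relIndex (T : Subgroup G) = 2 := by
    refine index_eq_two_iff.2 ⟨⟨z, I.out.zT⟩, fun b => ?_⟩
    simp only [mem_subgroupOf, Subgroup.coe_mul]
    by_cases hb : (b : G) ∈ M
    · exact Or.inr ⟨⟨b.2, hb⟩, fun h' => I.zM ((Subgroup.mul_mem_cancel_left _ hb).1 h'.2)⟩
    · exact Or.inl ⟨⟨mul_mem b.2 I.out.zT, (Subgroup.mul_mem_iff_of_index_two I.M2).2 (iff_of_false hb I.zM)⟩,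
        fun h' => hb h'.2⟩
  have h1 := card_mul_index ((zpowers s).subgroupOf (T : Subgroup G))
  have h2 := card_mul_index (((T : Subgroup G) ⊓ M).subgroupOf (T : Subgroup G))
  rw [Nat.card_congr (subgroupOfEquivOfLe (zpowers_le.2 I.out.sT)).toEquiv, Nat.card_zpowers, I.out.os,
    show ((zpowers s).subgroupOf (T : Subgroup G)).index = 2 from hrel] at h1
  rw [Nat.card_congr (subgroupOfEquivOfLe inf_le_left).toEquiv,
    show (((T : Subgroup G) ⊓ M).subgroupOf (T : Subgroup G)).index = 2 from hrel2] at h2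
  omega

variable {L N : Subgroup G}

theorem exists_sylow_N (hN : N ≤ M) (hTN : (T : Subgroup G) ⊓ M ≤ N) :
    ∃ P : Sylow 2 N, (P : Subgroup N) = ((T : Subgroup G) ⊓ M).subgroupOf N := by
  haveI : Fact (Nat.Prime 2) := ⟨Nat.prime_two⟩
  haveI := I.Mn
  have hp : IsPGroup 2 (((T : Subgroup G) ⊓ M).subgroupOf N) :=
    (T.2.to_le inf_le_left).of_equiv (subgroupOfEquivOfLe hTN).symm
  refine ⟨hp.toSylow ?_, rfl⟩
  show ¬ 2 ∣ ((T : Subgroup G) ⊓ M).relIndex N
  intro h
  obtain ⟨P, hP⟩ := Cfsg.Lib.Transfer.exists_sylow_subgroupOf T M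
  refine P.not_dvd_index ?_
  rw [hP, ← inf_subgroupOf_right]
  show 2 ∣ ((T : Subgroup G) ⊓ M).relIndex M
  exact h.trans (Dvd.intro _ (relIndex_mul_relIndex _ _ _ hTN hN))

/-- One class of involutions. -/
theorem one_class (hL : Min T M L) (hN : N ≤ M) (hR : M ⊓ centralizer (I.R : Set G) ≤ N) (a b : N)
    (ha : orderOf a = 2) (hb : orderOf b = 2) : IsConj a b := by
  haveI : Fact (Nat.Prime 2) := ⟨Nat.prime_two⟩
  have hTN := I.le_centR.trans hR
  obtain ⟨P, hP⟩ := I.exists_sylow_N hN hTN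
  have hwN : w ∈ N := hTN ⟨I.out.wT, I.wM⟩
  have key : ∀ a : N, orderOf a = 2 → IsConj (⟨w, hwN⟩ : N) a := by
    intro a ha
    obtain ⟨Q, hQ⟩ := (IsPGroup.of_card (G := zpowers a) (p := 2) (n := 1)
      (by rw [Nat.card_zpowers, ha, pow_one])).exists_le_sylow
    obtain ⟨g, hg⟩ := MulAction.exists_smul_eq N Q P
    set b := g * a * g⁻¹ with hb
    have hbT : (b : G) ∈ (T : Subgroup G) ⊓ M := by
      rw [← mem_subgroupOf, ← hP, ← hg]
      exact Subgroup.mem_pointwise_smul_iff_inv_smul_mem.2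
        (by simpa [MulAut.smul_def, hb, mul_assoc] using hQ (mem_zpowers a))
    have hb2 : orderOf (b : G) = 2 := by
      rw [orderOf_coe, hb, ← MulAut.conj_apply, MulEquiv.orderOf_eq, ha]
    refine IsConj.trans ?_ (isConj_iff.2 ⟨g, rfl⟩ : IsConj a b).symm
    obtain ⟨i, hi | hi⟩ := I.forms_M hbT
    · have h := sq_one_cases (by have := I.out.hk; omega) I.out.os (hi ▸ Subgroup.zpow_mem_zpowers s _)
        (mul_self_of_two hb2)
      rw [show b = (⟨w, hwN⟩ : N) from Subtype.ext ((h.resolve_left fun e => by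
        rw [e, orderOf_one] at hb2; omega).trans I.out.hw)]
    · obtain ⟨n, hnM, hnu, hnR⟩ := I.exists_rot hL i
      have hnN : n ∈ N := hR ⟨hnM, mem_centralizer_iff.2 fun v hv => (mul_inv_eq_iff_eq_mul.1 (hnR v hv)).symm⟩
      refine (isConj_iff.2 ⟨⟨n, hnN⟩, Subtype.ext ?_⟩ : IsConj b ⟨w, hwN⟩).symm
      show n * (b : G) * n⁻¹ = w
      rw [hi, hnu]
  exact (key a ha).symm.trans (key b hb)

/-- The two cases of the formula. -/
theorem counts (hL : Min T M L) (hN : N ≤ M) (hR : M ⊓ centralizer (I.R : Set G) ≤ N) :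
    (k = 2 → ∃ S : ℚ, 1 / 2 < S ∧ S ≤ 8 / 3 ∧
      (Nat.card (centralizer ({w} : Set G) ⊓ M : Subgroup G) : ℚ) ^ 3 =
        2 * ((Nat.card N : ℚ) * (Nat.card I.R : ℚ) ^ 2) * S) ∧
    (3 ≤ k → 21 * Nat.card (centralizer ({w} : Set G) ⊓ M : Subgroup G) ^ 3 ≤
        32 * (2 * (Nat.card N * Nat.card I.R ^ 2)) ∧
      32 * (2 * (Nat.card N * Nat.card I.R ^ 2)) ≤
        45 * Nat.card (centralizer ({w} : Set G) ⊓ M : Subgroup G) ^ 3) := by
  classical
  haveI : Fact (Nat.Prime 2) := ⟨Nat.prime_two⟩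
  have hTN := I.le_centR.trans hR
  obtain ⟨P, hP⟩ := I.exists_sylow_N hN hTN
  have hwN : w ∈ N := hTN ⟨I.out.wT, I.wM⟩
  have hPc : Nat.card (P : Subgroup N) = 2 ^ k := by
    rw [hP, Nat.card_congr (subgroupOfEquivOfLe hTN).toEquiv, I.card_TM]
  have hone := I.one_class hL hN hR
  set J : N := ⟨w, hwN⟩ with hJ
  have hJ2 : orderOf J = 2 := (Subgroup.orderOf_mk w hwN).trans I.out.w2
  have hcent : Nat.card (centralizer ({J} : Set N)) =
      Nat.card (centralizer ({w} : Set G) ⊓ M : Subgroup G) := by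
    refine Nat.card_congr
      { toFun := fun x => ⟨((x : N) : G), mem_cent.2 (congrArg Subtype.val (mem_cent.1 x.2)), hN (x : N).2⟩
        invFun := fun x => ⟨⟨x, hR (I.centw_le x.2)⟩, mem_cent.2 (Subtype.ext (mem_cent.1 x.2.1))⟩
        left_inv := fun x => rfl
        right_inv := fun x => rfl }
  have hpair : ∀ (j : ℤ) (uN : N), (uN : G) = s ^ (2 * j + 1) * z →
      Nat.card (centralizer ({J, uN} : Set N)) = 4 * Nat.card I.R := by
    intro j uN hu
    obtain ⟨h1, h2⟩ := I.card_pair j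
    have e : ((↑) '' ({J, uN} : Set N) : Set G) = {w, s ^ (2 * j + 1) * z} := by rw [Set.image_pair, hu]
    rw [card_cent_sub N _ ?_, e, h1]
    rw [e]
    refine inf_eq_left.2 fun x hx => hR (I.centw_le ⟨?_, h2 hx⟩)
    exact mem_cent.2 (mem_centralizer_iff.1 hx w (Or.inl rfl)).symm
  have hsq : ∀ i : ℤ, s ^ (2 * i) ∈ N := fun i => hTN ⟨I.out.zpow_mem _, I.even_M i⟩
  have hrf : ∀ i : ℤ, s ^ (2 * i + 1) * z ∈ N := fun i => hTN ⟨I.out.refl_mem _, I.refl_M i⟩
  constructor
  · intro hk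
    have hw4 : s ^ (2 : ℤ) = w := by rw [← I.out.hw, hk]; norm_num
    set uN : N := ⟨s ^ (2 * 0 + 1 : ℤ) * z, hrf 0⟩ with huN
    have hforms : ∀ x ∈ (P : Subgroup N), x = 1 ∨ x = J ∨ x = uN ∨ x = J * uN := by
      intro x hx
      rw [hP, mem_subgroupOf] at hx
      have hJ' : ∀ i : ℤ, (s ^ (2 * i) : G) = 1 ∨ s ^ (2 * i) = w := fun i => by
        rw [zpow_mul, hw4]
        rcases Int.even_or_odd' i with ⟨l, rfl | rfl⟩
        · left; rw [zpow_mul, zpow_two, mul_self_of_two I.out.w2, one_zpow]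
        · right; rw [_root_.zpow_add, zpow_mul, zpow_two, mul_self_of_two I.out.w2, one_zpow, one_mul, zpow_one]
      obtain ⟨i, hi | hi⟩ := I.forms_M hx <;> rcases hJ' i with e | e
      · exact Or.inl (Subtype.ext (hi.trans e))
      · exact Or.inr (Or.inl (Subtype.ext (hi.trans e)))
      · refine Or.inr (Or.inr (Or.inl (Subtype.ext ?_)))
        rw [hi, huN, _root_.zpow_add, e]
        simp
      · refine Or.inr (Or.inr (Or.inr (Subtype.ext ?_)))
        rw [hi, huN, _root_.zpow_add, e, hJ]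
        simp [mul_assoc]
    have huP : uN ∈ (P : Subgroup N) := by
      rw [hP, mem_subgroupOf]; exact ⟨I.out.refl_mem _, I.refl_M 0⟩
    have hJP : J ∈ (P : Subgroup N) := by rw [hP, mem_subgroupOf]; exact ⟨I.out.wT, I.wM⟩
    have hJu : uN * J = J * uN := Subtype.ext (I.out.w_central (I.out.refl_mem (2 * 0 + 1)))
    have hJJ : J * J = 1 := Subtype.ext (mul_self_of_two I.out.w2)
    have huu : uN * uN = 1 := Subtype.ext (I.out.refl_sq _)
    have hexp : ∀ u ∈ (P : Subgroup N), u * u = 1 := fun u hu => by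
      rcases hforms u hu with rfl | rfl | rfl | rfl
      · exact mul_one 1
      · exact hJJ
      · exact huu
      · rw [mul_assoc, ← mul_assoc uN J, hJu, mul_assoc J uN, huu, mul_one, hJJ]
    have hC : centralizer ((P : Subgroup N) : Set N) = centralizer ({J, uN} : Set N) := by
      refine le_antisymm (centralizer_le ?_) fun x hx => mem_centralizer_iff.2 fun y hy => ?_
      · rintro y (rfl | hy)
        · exact hJP
        · exact Set.mem_singleton_iff.1 hy ▸ huP
      · have h1 : J * x = x * J := mem_centralizer_iff.1 hx J (Or.inl rfl)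
        have h2 : uN * x = x * uN := mem_centralizer_iff.1 hx uN (Or.inr rfl)
        rcases hforms y hy with rfl | rfl | rfl | rfl
        · rw [one_mul, mul_one]
        · exact h1
        · exact h2
        · exact ((show Commute J x from h1).mul_left (show Commute uN x from h2)).eq
    obtain ⟨S, h1, h2, h3⟩ := klein_order_gen P (by rw [hPc, hk]; norm_num) hexp hone (ρ := Nat.card I.R)
      (by rw [hC, hpair 0 uN rfl]) hJP hJ2
    exact ⟨S, h1, h2, by rwa [hcent] at h3⟩
  · intro hk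
    set σN : N := ⟨s ^ (2 * 1 : ℤ), hsq 1⟩ with hσN
    set τN : N := ⟨s ^ (2 * 0 + 1 : ℤ) * z, hrf 0⟩ with hτN
    have hσP : σN ∈ (P : Subgroup N) := by rw [hP, mem_subgroupOf]; exact ⟨I.out.zpow_mem _, I.even_M 1⟩
    have hτP : τN ∈ (P : Subgroup N) := by rw [hP, mem_subgroupOf]; exact ⟨I.out.refl_mem _, I.refl_M 0⟩
    have hσo : orderOf σN = 2 ^ (k - 1) := by
      rw [← Subgroup.orderOf_coe, show (σN : G) = s ^ 2 by rw [hσN]; norm_num, orderOf_pow' s two_ne_zero, I.out.os,
        show 2 ^ k = 2 * 2 ^ (k - 1) by rw [← pow_succ', show k - 1 + 1 = k by omega],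
        Nat.gcd_eq_right (Dvd.intro _ rfl), Nat.mul_div_cancel_left _ two_pos]
    have hτo : orderOf τN = 2 := (Subgroup.orderOf_mk _ (hrf 0)).trans (I.out.refl_two _)
    have hrel : τN * σN * τN⁻¹ = σN⁻¹ := Subtype.ext (by
      show s ^ (2 * 0 + 1 : ℤ) * z * s ^ (2 * 1 : ℤ) * (s ^ (2 * 0 + 1 : ℤ) * z)⁻¹ = (s ^ (2 * 1 : ℤ))⁻¹
      rw [← conj_conj, I.out.zconj]
      group)
    have hστ : orderOf (σN * τN) = 2 := by
      rw [← Subgroup.orderOf_coe, show ((σN * τN : N) : G) = s ^ (2 * 1 + 1 : ℤ) * z by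
        rw [hσN, hτN]; push_cast; rw [← mul_assoc, ← _root_.zpow_add]; norm_num]
      exact I.out.refl_two _
    have hgen : closure ({σN, τN} : Set N) = (P : Subgroup N) := by
      refine le_antisymm ((closure_le _).2 ?_) fun x hx => ?_
      · rintro y (rfl | hy)
        · exact hσP
        · exact Set.mem_singleton_iff.1 hy ▸ hτP
      · rw [hP, mem_subgroupOf] at hx
        have hσm : σN ∈ closure ({σN, τN} : Set N) := Subgroup.subset_closure (Or.inl rfl)
        have hτm : τN ∈ closure ({σN, τN} : Set N) := Subgroup.subset_closure (Or.inr rfl)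
        obtain ⟨i, hi | hi⟩ := I.forms_M hx
        · rw [show x = σN ^ i from Subtype.ext (by rw [hi, hσN]; push_cast; rw [← zpow_mul])]
          exact Subgroup.zpow_mem _ hσm i
        · rw [show x = σN ^ i * τN from Subtype.ext (by
            rw [hi, hσN, hτN]; push_cast; rw [← zpow_mul, ← mul_assoc, ← _root_.zpow_add])]
          exact mul_mem (Subgroup.zpow_mem _ hσm i) hτm
    have hJ' : σN ^ (2 ^ (k - 2)) = J := Subtype.ext (by
      rw [hσN, SubmonoidClass.coe_pow]
      show (s ^ (2 * 1 : ℤ)) ^ (2 ^ (k - 2)) = w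
      rw [show (2 * 1 : ℤ) = ((2 : ℕ) : ℤ) by norm_num, zpow_natCast, ← pow_mul, ← pow_succ',
        show k - 2 + 1 = k - 1 by omega, I.out.hw])
    have hne : σN * τN ≠ τN := fun e => by
      have h := hσo
      rw [mul_eq_right.1 e, orderOf_one] at h
      exact absurd h.symm (Nat.one_lt_pow (by omega) (by norm_num)).ne'
    obtain ⟨e⟩ := Cfsg.Lib.InvolCalc.exists_dihedral_equiv hστ hτo hne
    have hcl : closure ({σN * τN, τN} : Set N) = (P : Subgroup N) := by
      rw [← hgen]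
      refine le_antisymm ((closure_le _).2 ?_) ((closure_le _).2 ?_)
      · rintro y (rfl | hy)
        · exact mul_mem (Subgroup.subset_closure (Or.inl rfl)) (Subgroup.subset_closure (Or.inr rfl))
        · exact Subgroup.subset_closure (Or.inr (Set.mem_singleton_iff.1 hy))
      · rintro y (rfl | hy)
        · have h := mul_mem
            (Subgroup.subset_closure (Or.inl rfl) : σN * τN ∈ closure ({σN * τN, τN} : Set N))
            (inv_mem (Subgroup.subset_closure (Or.inr rfl) : τN ∈ closure ({σN * τN, τN} : Set N)))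
          rwa [mul_inv_cancel_right] at h
        · exact Subgroup.subset_closure (Or.inr hy)
    rw [mul_assoc σN τN τN, show τN * τN = 1 from mul_self_of_two hτo, mul_one, hσo] at e
    have := dihedral_order_gen k hk P σN τN hσP hτP hPc ⟨(MulEquiv.subgroupCongr hcl.symm).trans e⟩ hσo hτo hrel
      hgen hone hJ' hJ2 (fun x hx => by
        rw [hP, mem_subgroupOf] at hx
        exact mem_cent.2 (Subtype.ext (I.out.w_central hx.1))) (ρ := Nat.card I.R) I.odd_R (hpair 0 τN rfl)
      (hpair 1 (σN * τN) (by rw [hσN, hτN]; push_cast; rw [← mul_assoc, ← _root_.zpow_add]; norm_num)) hστ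
    rwa [hcent] at this

end Inner

end Cfsg.Lib.GenDihedral
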