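import Cfsg.Agent.GenDihedral.Red.Inner

/-!
Fusion of involutions in the subgroup of index two.
-/

set_option autoImplicit false
set_option linter.unusedSectionVars false
set_option linter.style.haveILetI false

namespace Cfsg.Lib.GenDihedral

open Subgroup

universe u

variable {G : Type u} [Group G] [Finite G]

/-- A minimal normal subgroup inside `M`, containing the Sylow subgroup of `M`. -/
structure Min (T : Sylow 2 G) (M L : Subgroup G) : Prop where
  normal : L.Normal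
  ne : L ≠ ⊥
  nonsolv : ¬ Group.IsSolvable L
  min : ∀ N : Subgroup G, N.Normal → N ≤ L → N = ⊥ ∨ N = L
  perfect : ⁅L, L⁆ = L
  le : L ≤ M
  sylow : (T : Subgroup G) ⊓ M ≤ L
  cent : centralizer (L : Set G) = ⊥

theorem mul_cases_card {S : Subgroup G} {a b c : G} (h : ∀ x ∈ S, x = 1 ∨ x = a ∨ x = b ∨ x = c) :
    Nat.card S ≤ 4 := by
  refine (Nat.card_coe_set_eq (S : Set G)).le.trans ((Set.ncard_le_ncard (t := {1, a, b, c}) fun x hx => ?_).trans ?_)
  · rcases h x hx with e | e | e | e <;> simp [e]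
  · refine (Set.ncard_insert_le _ _).trans (Nat.succ_le_succ ?_)
    refine (Set.ncard_insert_le _ _).trans (Nat.succ_le_succ ?_)
    exact (Set.ncard_insert_le _ _).trans (by rw [Set.ncard_singleton])

namespace Inner

variable {z w s : G} {k : ℕ} {T : Sylow 2 G} {U M : Subgroup G} (I : Inner z w s k T U M)
include I

theorem exists_min (hO : NoOdd G) (hns : ¬ Group.IsSolvable G) : ∃ L, Min T M L := by
  haveI : Fact (Nat.Prime 2) := ⟨Nat.prime_two⟩
  haveI : Nontrivial G := by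
    by_contra h
    haveI := not_nontrivial_iff_subsingleton.1 h
    exact hns inferInstance
  haveI := I.Mn
  obtain ⟨L, -, hLn, hLb, hmin⟩ :=
    Cfsg.Lib.Coprime.exists_minimal_normal (K := (⊤ : Subgroup G)) inferInstance top_ne_bot
  haveI := hLn
  have hrad := fun (N : Subgroup G) (hN : N.Normal) (hs : Group.IsSolvable N) =>
    rad_bot hO (I.out.noTwo hns) hN hs
  have hLs : ¬ Group.IsSolvable L := fun h => hLb (hrad L hLn h)
  have hperf : ⁅L, L⁆ = L := by
    refine (hmin _ inferInstance (commutator_le.2 fun a ha b hb =>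
      mul_mem (mul_mem (mul_mem ha hb) (inv_mem ha)) (inv_mem hb))).resolve_left fun e => ?_
    exact hLs (Group.isSolvable_of_comm fun a b =>
      Subtype.ext (mem_centralizer_iff.1 (commutator_eq_bot_iff_le_centralizer.1 e b.2) a a.2))
  have hLM : L ≤ M := by
    rcases hmin (L ⊓ M) inferInstance inf_le_left with e | e
    · exfalso
      refine hLs (solvable_small ?_)
      have hle : Nat.card L ≤ Nat.card (G ⧸ M) :=
        Nat.card_le_card_of_injective (fun x : L => ((x : G) : G ⧸ M)) fun a b h => Subtype.ext (inv_mul_eq_one.1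
          (mem_bot.1 (e ▸ (mem_inf.2 ⟨mul_mem (inv_mem a.2) b.2, QuotientGroup.eq.1 h⟩) : (a : G)⁻¹ * b ∈ (⊥ : Subgroup G))))
      rw [← index_eq_card, I.M2] at hle
      omega
    · exact e ▸ inf_le_right
  have hsyl : (T : Subgroup G) ⊓ M ≤ L := by
    obtain ⟨x, hx, hxs⟩ : ∃ x ∈ (T : Subgroup G) ⊓ L, x ∉ zpowers s := by
      by_contra h
      push Not at h
      obtain ⟨P, hP⟩ := Cfsg.Lib.Transfer.exists_sylow_subgroupOf T L
      haveI hc : IsCyclic ((T : Subgroup G) ⊓ L : Subgroup G) :=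
        isCyclic_of_injective (Subgroup.inclusion h) (Subgroup.inclusion_injective h)
      refine hLs (Cfsg.Lib.CyclicInter.solvable_of_cyclic P ?_)
      rw [hP, ← inf_subgroupOf_right]
      exact (subgroupOfEquivOfLe inf_le_right).isCyclic.2 hc
    obtain ⟨j, rfl | rfl⟩ := I.forms_M ⟨hx.1, hLM hx.2⟩
    · exact absurd (Subgroup.zpow_mem_zpowers s _) hxs
    have h2 : s ^ (2 : ℤ) ∈ L := by
      have h := mul_mem (hLn.conj_mem _ hx.2 (s ^ (1 : ℤ))) hx.2
      rwa [I.out.refl_conj, mul_assoc (s ^ _), ← mul_assoc z, I.out.zs, mul_assoc (s ^ (-(2 * j + 1))),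
        mul_self_of_two I.out.z2, mul_one (s ^ (-(2 * j + 1))), ← _root_.zpow_add,
        show 2 * j + 1 + 2 * 1 + -(2 * j + 1) = 2 by ring] at h
    have he : ∀ i : ℤ, s ^ (2 * i) ∈ L := fun i => by rw [zpow_mul]; exact zpow_mem h2 i
    intro y hy
    obtain ⟨i, rfl | rfl⟩ := I.forms_M hy
    · exact he i
    · rw [show 2 * i + 1 = 2 * (i - j) + (2 * j + 1) by ring, _root_.zpow_add, mul_assoc]
      exact mul_mem (he _) hx.2
  refine ⟨L, hLn, hLb, hLs, hmin, hperf, hLM, hsyl, hrad _ inferInstance (solvable_of_small_inf T _ ?_)⟩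
  have hM0 : ∀ x ∈ (T : Subgroup G) ⊓ centralizer (L : Set G), x ∈ M → x = 1 := by
    intro x hx hxM
    have hxL : x ∈ L := hsyl ⟨hx.1, hxM⟩
    haveI : Group.IsSolvable (L ⊓ centralizer (L : Set G) : Subgroup G) :=
      Group.isSolvable_of_comm fun a b => Subtype.ext (mem_centralizer_iff.1 b.2.2 _ a.2.1)
    exact mem_bot.1 (hrad (L ⊓ centralizer (L : Set G)) inferInstance inferInstance ▸ mem_inf.2 ⟨hxL, hx.2⟩)
  rw [show Nat.card ((T : Subgroup G) ⊓ centralizer (L : Set G) : Subgroup G) = _ from Nat.card_coe_set_eq _]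
  by_cases h : ∃ x ∈ (T : Subgroup G) ⊓ centralizer (L : Set G), x ∉ M
  · obtain ⟨x₀, hx₀, hx₀M⟩ := h
    refine (Set.ncard_le_ncard (t := {1, x₀⁻¹}) fun y hy => ?_).trans
      ((Set.ncard_insert_le _ _).trans (by rw [Set.ncard_singleton]))
    by_cases hyM : y ∈ M
    · simp [hM0 y hy hyM]
    · right
      exact eq_inv_of_mul_eq_one_right
        (hM0 _ (mul_mem hx₀ hy) ((Subgroup.mul_mem_iff_of_index_two I.M2).2 (iff_of_false hx₀M hyM)))
  · push Not at h
    refine (Set.ncard_le_ncard (t := {1}) fun y hy => ?_).trans (by rw [Set.ncard_singleton]; norm_num)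
    simp [hM0 y hy (h y hy)]

/-- For a four-group as Sylow subgroup of `M` the minimal normal subgroup is simple. -/
theorem min_simple {L : Subgroup G} (hL : Min T M L) (hO : NoOdd G) (hns : ¬ Group.IsSolvable G) (hk : k = 2) :
    IsSimpleGroup L := by
  haveI : Fact (Nat.Prime 2) := ⟨Nat.prime_two⟩
  haveI := hL.normal
  have hwL : w ∈ L := hL.sylow ⟨I.out.wT, I.wM⟩
  have hw1 : (⟨w, hwL⟩ : L) ≠ 1 := fun e => by
    have := I.out.w2
    rw [show w = 1 from congrArg Subtype.val e, orderOf_one] at this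
    omega
  refine simple_of_common hL.ne hL.min hw1 fun N hN hNb => ?_
  haveI := hN
  obtain ⟨P, hP⟩ := Cfsg.Lib.Transfer.exists_sylow_subgroupOf T L
  have hP4 : Nat.card (P : Subgroup L) ≤ 4 := by
    have h : Nat.card (P : Subgroup L) = Nat.card ((T : Subgroup G) ⊓ L : Subgroup G) := by
      rw [hP, ← inf_subgroupOf_right]
      exact Nat.card_congr (subgroupOfEquivOfLe inf_le_right).toEquiv
    rw [h]
    refine mul_cases_card (a := w) (b := s * z) (c := w * (s * z)) fun x hx => ?_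
    have hw4 : s ^ (2 : ℤ) = w := by
      rw [← I.out.hw, hk]; norm_num
    obtain ⟨j, rfl | rfl⟩ := I.forms_M ⟨hx.1, hL.le hx.2⟩
    · rw [zpow_mul, hw4]
      rcases Int.even_or_odd' j with ⟨i, rfl | rfl⟩
      · left; rw [zpow_mul, zpow_two, mul_self_of_two I.out.w2, one_zpow]
      · right; left
        rw [_root_.zpow_add, zpow_mul, zpow_two, mul_self_of_two I.out.w2, one_zpow, one_mul, zpow_one]
    · rw [_root_.zpow_add, zpow_mul, hw4, zpow_one, mul_assoc]
      rcases Int.even_or_odd' j with ⟨i, rfl | rfl⟩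
      · right; right; left; rw [zpow_mul, zpow_two, mul_self_of_two I.out.w2, one_zpow, one_mul]
      · right; right; right
        rw [_root_.zpow_add, zpow_mul, zpow_two, mul_self_of_two I.out.w2, one_zpow, one_mul, zpow_one]
  have hNs : ¬ Group.IsSolvable N := fun hs => hNb (rad_bot (noOdd_sub hO L) (fun E hE hexp => by
    haveI := hE
    by_contra hEb
    -- a normal 2-subgroup of `L` lies in the normal 2-core, characteristic in `L`
    have hp : IsPGroup 2 E := fun x => ⟨1, Subtype.ext (by simp [pow_two, hexp _ x.2])⟩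
    haveI hn : (Cfsg.pCore 2 L).Normal := (Cfsg.Lib.Components.pCore_normal_and_isPGroup 2).1
    haveI : (Cfsg.pCore 2 L).Characteristic := characteristic_iff_map_le.2 fun φ => by
      haveI := hn.map φ.toMonoidHom φ.surjective
      exact Cfsg.Lib.Components.le_pCore ((Cfsg.Lib.Components.isPGroup_pCore 2).map _)
    have h := rad_bot hO (I.out.noTwo hns) (L := (Cfsg.pCore 2 L).map L.subtype) inferInstance
      (solvable_of_two ((Cfsg.Lib.Components.isPGroup_pCore 2).map _))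
    rw [Subgroup.map_eq_bot_iff_of_injective _ L.subtype_injective] at h
    exact hEb (le_bot_iff.1 (h ▸ Cfsg.Lib.Components.le_pCore hp))) hN hs)
  by_contra hwN
  refine hNs (solvable_of_small_inf P N ?_)
  have hlt : Nat.card ((P : Subgroup L) ⊓ N : Subgroup L) < Nat.card (P : Subgroup L) :=
    lt_of_le_of_ne (card_le_of_le inf_le_left) fun e => hwN ((Cfsg.Lib.Coprime.eq_of_le_of_card_eq inf_le_left e).ge
      (by rw [hP, mem_subgroupOf]; exact I.out.wT : (⟨w, hwL⟩ : L) ∈ (P : Subgroup L))).2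
  obtain ⟨a, ha⟩ := IsPGroup.iff_card.1 (P.2.to_le (inf_le_left : (P : Subgroup L) ⊓ N ≤ P))
  rw [ha] at hlt ⊢
  by_contra h2
  have : 2 ^ 2 ≤ 2 ^ a := by
    rcases a with _ | _ | a
    · simp at h2
    · simp at h2
    · exact Nat.pow_le_pow_right two_pos (by omega)
  omega

/-- Every reflection in `M` is conjugate to `w`. -/
theorem fuse {L : Subgroup G} (hL : Min T M L) (j : ℤ) :
    ∃ l ∈ L, l * (s ^ (2 * j + 1) * z) * l⁻¹ = w := by
  haveI : Fact (Nat.Prime 2) := ⟨Nat.prime_two⟩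
  haveI := hL.normal
  by_contra hne
  push Not at hne
  set u := s ^ (2 * j + 1) * z with hu
  have huL : u ∈ L := hL.sylow ⟨I.out.refl_mem _, I.refl_M j⟩
  have hss2 : zpowers (s * s) ≤ zpowers s := zpowers_le.2 (mul_mem (mem_zpowers s) (mem_zpowers s))
  have hqL : zpowers (s * s) ≤ L :=
    zpowers_le.2 (hL.sylow ⟨mul_mem I.out.sT I.out.sT, I.ssM⟩)
  have hqT : zpowers (s * s) ≤ (T : Subgroup G) ⊓ L := le_inf (hss2.trans (zpowers_le.2 I.out.sT)) hqL
  have hrel : (zpowers (s * s)).relIndex ((T : Subgroup G) ⊓ L) = 2 := by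
    refine index_eq_two_iff.2 ⟨⟨u, I.out.refl_mem _, huL⟩, fun b => ?_⟩
    simp only [mem_subgroupOf, Subgroup.coe_mul]
    have hbm : ∀ i : ℤ, s ^ (2 * i) ∈ zpowers (s * s) := fun i =>
      mem_zpowers_iff.2 ⟨i, by rw [← zpow_two, ← zpow_mul]⟩
    obtain ⟨i, hi | hi⟩ := I.forms_M ⟨b.2.1, hL.le b.2.2⟩ <;> rw [hi]
    · exact Or.inr ⟨hbm i, fun h => I.out.refl_notin _ ((Subgroup.mul_mem_cancel_left _
        (Subgroup.zpow_mem_zpowers s _)).1 (hss2 h))⟩
    · refine Or.inl ⟨?_, fun h => I.out.refl_notin _ (hss2 h)⟩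
      rw [hu, mul_assoc (s ^ (2 * i + 1)), ← mul_assoc z, I.out.zs, mul_assoc (s ^ (-(2 * j + 1))),
        mul_self_of_two I.out.z2, mul_one (s ^ (-(2 * j + 1))), ← _root_.zpow_add,
        show 2 * i + 1 + -(2 * j + 1) = 2 * (i - j) by ring]
      exact hbm _
  obtain ⟨P, hP⟩ := Cfsg.Lib.Transfer.exists_sylow_subgroupOf T L
  have hidx : ((zpowers (s * s)).subgroupOf L).index = 2 * (P : Subgroup L).index := by
    show (zpowers (s * s)).relIndex L = _
    rw [hP, ← inf_subgroupOf_right]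
    refine (relIndex_mul_relIndex _ _ _ hqT inf_le_right).symm.trans ?_
    rw [hrel]
    rfl
  obtain ⟨N, hN, hN2, huN⟩ := Cfsg.Lib.Transfer.exists_index_two_not_mem ((zpowers (s * s)).subgroupOf L)
    (Nat.not_even_iff_odd.1 fun h => P.not_dvd_index h.two_dvd) hidx (u := ⟨u, huL⟩)
    ((Subgroup.orderOf_mk u huL).trans (I.out.refl_two _)) fun g hg => by
      rw [mem_subgroupOf] at hg
      push_cast at hg
      have h2 : ((g : G)⁻¹ * u * g) * ((g : G)⁻¹ * u * g) = 1 := by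
        rw [show (g : G)⁻¹ * u * g * ((g : G)⁻¹ * u * g) = (g : G)⁻¹ * (u * u) * g by group, I.out.refl_sq]; group
      rcases sq_one_cases (by have := I.out.hk; omega) I.out.os (hss2 hg) h2 with e | e
      · have := I.out.refl_two (2 * j + 1)
        rw [← hu, show u = (g : G) * ((g : G)⁻¹ * u * g) * (g : G)⁻¹ by group, e, mul_one, mul_inv_cancel,
          orderOf_one] at this
        omega
      · exact hne (g : G)⁻¹ (inv_mem g.2) (by rw [inv_inv, e, I.out.hw])
  haveI := hN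
  refine huN ?_
  have hle : commutator L ≤ N := by
    have hcyc : IsCyclic (L ⧸ N) := isCyclic_of_prime_card (p := 2) (by rw [← index_eq_card, hN2])
    letI : CommGroup (L ⧸ N) := IsCyclic.commGroup
    have := Abelianization.commutator_subset_ker (QuotientGroup.mk' N)
    rwa [QuotientGroup.ker_mk'] at this
  refine hle ?_
  obtain ⟨y, hy, e⟩ : u ∈ (commutator L).map L.subtype := by
    rw [map_subtype_commutator, hL.perfect]; exact huL
  rwa [show (⟨u, huL⟩ : L) = y from Subtype.ext e.symm]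

/-- A rotation of the four-group of an odd reflection, centralising `R`. -/
theorem exists_rot {L : Subgroup G} (hL : Min T M L) (j : ℤ) :
    ∃ n ∈ M, n * (s ^ (2 * j + 1) * z) * n⁻¹ = w ∧ ∀ v ∈ I.R, n * v * n⁻¹ = v := by
  haveI : Fact (Nat.Prime 2) := ⟨Nat.prime_two⟩
  haveI := I.Mn
  set u := s ^ (2 * j + 1) * z with hu
  have huT : u ∈ (T : Subgroup G) := I.out.refl_mem _
  have huu : u * u = 1 := I.out.refl_sq _
  have hww := mul_self_of_two I.out.w2
  have hwu : w * u = u * w := (I.out.w_central huT).symm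
  obtain ⟨l, hl, hlu⟩ := I.fuse hL j
  rw [← hu] at hlu
  set x := l * w * l⁻¹ with hxdef
  have hxx : x * x = 1 := by rw [hxdef, conj_mul, hww, mul_one, mul_inv_cancel]
  have hxw : x * w = w * x := by
    have h2 : l * w * l⁻¹ * (l * u * l⁻¹) = l * u * l⁻¹ * (l * w * l⁻¹) := by rw [conj_mul, conj_mul, hwu]
    rwa [hlu] at h2
  obtain ⟨v, hv, t, ht, hxvt⟩ := I.Udec x (mem_cent.2 hxw)
  have hd : (v * (t * v * t⁻¹)) * (t * t) = 1 * 1 := by
    rw [mul_one]; refine Eq.trans ?_ hxx; rw [hxvt]; group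
  obtain ⟨h1, h2⟩ := I.dec_unique (mul_mem hv (I.conjU ht hv)) (one_mem U) (mul_mem ht ht) (one_mem _) hd
  have htv : t * v * t⁻¹ = v⁻¹ := eq_inv_of_mul_eq_one_right h1
  obtain ⟨m, hm⟩ := I.odd_of_mem hv
  set r := v ^ (m + 1) with hr
  have hr2 : r * r = v := by
    rw [hr, ← pow_add, show m + 1 + (m + 1) = orderOf v + 1 by omega, pow_succ, pow_orderOf_eq_one, one_mul]
  have hrt : t * r⁻¹ * t⁻¹ = r := by rw [hr, ← inv_pow, ← conj_pow, ← conj_inv, htv, inv_inv]
  have hrx : r * t * r⁻¹ = x := by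
    rw [hxvt, show r * t * r⁻¹ = r * (t * r⁻¹ * t⁻¹) * t by group, hrt, hr2]
  have hrU : r ∈ U := pow_mem hv _
  have hrw : r * w = w * r := mem_cent.1 (I.Ule hrU)
  set g := l⁻¹ * r with hg
  have hgM : g ∈ M := mul_mem (inv_mem (hL.le hl)) (I.U_le_M hrU)
  have hgw : g * w * g⁻¹ = u := by
    rw [hg, show l⁻¹ * r * w * (l⁻¹ * r)⁻¹ = l⁻¹ * (r * w * r⁻¹) * l by group, conj_fix_iff.2 hrw.symm, ← hlu]
    group
  have hgt : g * t * g⁻¹ = w := by
    rw [hg, show l⁻¹ * r * t * (l⁻¹ * r)⁻¹ = l⁻¹ * (r * t * r⁻¹) * l by group, hrx, hxdef]; group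
  -- `t` is a reflection in `M`
  have htM : t ∈ M := by
    rw [show t = g⁻¹ * w * g by rw [← hgt]; group]
    exact mul_mem (mul_mem (inv_mem hgM) I.wM) hgM
  obtain ⟨i, hti⟩ : ∃ i : ℤ, t = s ^ (2 * i + 1) * z := by
    obtain ⟨i, hi | hi⟩ := I.forms_M ⟨ht, htM⟩
    · exfalso
      have h3 : t ∈ zpowers s := hi ▸ Subgroup.zpow_mem_zpowers s _
      rcases sq_one_cases (by have := I.out.hk; omega) I.out.os h3 h2 with e | e
      · have := I.out.w2; rw [← hgt, e, mul_one, mul_inv_cancel, orderOf_one] at this; omega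
      · rw [e, I.out.hw, hgw] at hgt
        exact I.out.refl_notin _ (hgt ▸ I.out.w_mem)
    · exact ⟨i, hi⟩
  set σ := s ^ (2 ^ (k - 2) : ℕ) with hσ
  have hσT : σ ∈ (T : Subgroup G) := pow_mem I.out.sT _
  have hσσ : σ * σ = w := by
    have := I.out.hk
    rw [hσ, ← pow_add, ← two_mul, ← pow_succ', show k - 2 + 1 = k - 1 by omega, I.out.hw]
  have hσw : σ * w * σ⁻¹ = w := conj_fix_iff.2 (I.out.w_central hσT).symm
  have hσrefl : ∀ a : ℤ, σ * (s ^ a * z) * σ⁻¹ = w * (s ^ a * z) := fun a => by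
    rw [hσ, ← zpow_natCast, I.out.refl_conj, _root_.zpow_add, zpow_mul' s 2, ← hσσ, hσ, ← zpow_natCast,
      ← mul_assoc (s ^ _ * s ^ _) (s ^ a) z, zpow_two, ← _root_.zpow_add, ← _root_.zpow_add, ← _root_.zpow_add]
    congr 2
    ring
  set n := g * σ * g⁻¹ * σ with hn
  have hnM : n ∈ M := by
    by_cases hσM : σ ∈ M
    · exact mul_mem (mul_mem (mul_mem hgM hσM) (inv_mem hgM)) hσM
    · refine (Subgroup.mul_mem_iff_of_index_two I.M2).2 (iff_of_false (fun h => hσM ?_) hσM)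
      have := I.Mn.conj_mem _ h g⁻¹
      rwa [inv_inv, show g⁻¹ * (g * σ * g⁻¹) * g = σ by group] at this
  set Y := g * σ * g⁻¹ with hY
  have hstep : ∀ a : G, Y * (g * a * g⁻¹) * Y⁻¹ = g * (σ * a * σ⁻¹) * g⁻¹ := fun a => by rw [hY]; group
  have hσt : σ * t * σ⁻¹ = w * t := by
    conv_lhs => rw [hti]
    rw [hσrefl, ← hti]
  have hYw : Y * w * Y⁻¹ = u * w := by
    have h := hstep t
    rwa [hσt, hgt, ← conj_mul, hgw, hgt] at h
  have hYu : Y * u * Y⁻¹ = u := by
    have h := hstep w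
    rwa [hσw, hgw] at h
  have hσu : σ * u * σ⁻¹ = w * u := hσrefl _
  have hnu : n * u * n⁻¹ = w := by
    rw [hn, ← conj_conj, hσu, ← conj_mul, hYw, hYu, ← hwu, mul_assoc, huu, mul_one]
  have hnw : n * w * n⁻¹ = u * w := by
    rw [hn, ← conj_conj, hσw, hYw]
  refine ⟨n, hnM, hnu, ?_⟩
  -- `n` normalises `R`
  have hnR : ∀ v ∈ I.R, n * v * n⁻¹ ∈ I.R := by
    intro v hv
    have hvw : v * w = w * v := mem_cent.1 (I.Ule (I.R_le hv))
    have hvu : v * u = u * v := (mul_inv_eq_iff_eq_mul.1 (I.refl_R j hv)).symm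
    have hcu : ∀ a, v * a = a * v → (n * v * n⁻¹) * (n * a * n⁻¹) = (n * a * n⁻¹) * (n * v * n⁻¹) :=
      fun a ha => by rw [conj_mul, conj_mul, ha]
    have c1 := hcu u hvu
    rw [hnu] at c1
    have c2 : (n * v * n⁻¹) * u = u * (n * v * n⁻¹) := by
      have c := hcu w hvw
      rw [hnw] at c
      have c3 : (n * v * n⁻¹) * (u * w) * w = u * w * (n * v * n⁻¹) * w := by rw [c]
      rw [mul_assoc (n * v * n⁻¹), mul_assoc u w w, hww, mul_one, mul_assoc (u * w), c1, ← mul_assoc (u * w) w,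
        mul_assoc u w w, hww, mul_one] at c3
      exact c3
    obtain ⟨v', hv', t', ht', e⟩ := I.cent_pair_dec j c1 c2
    have ho : Odd (orderOf (n * v * n⁻¹)) := by
      rw [← MulAut.conj_apply, MulEquiv.orderOf_eq]; exact I.odd_of_mem (I.R_le hv)
    have hvU := I.Umem _ (mem_cent.2 c1) ho
    obtain ⟨e1, -⟩ := I.dec_unique hvU (I.R_le hv') (one_mem _) (show t' ∈ (T : Subgroup G) by
      rcases ht' with rfl | rfl | rfl | rfl
      · exact one_mem _
      · exact I.out.wT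
      · exact huT
      · exact mul_mem I.out.wT huT) (by rw [mul_one]; exact e)
    exact e1 ▸ hv'
  -- the cube of the rotation centralises `R`
  have hfix : ∀ y : G, y * w * y⁻¹ = w → y * u * y⁻¹ = u → ∀ v ∈ I.R, y * v * y⁻¹ = v := by
    intro y hy1 hy2 v hv
    obtain ⟨v', hv', t', ht', rfl⟩ := I.cent_pair_dec j (mul_inv_eq_iff_eq_mul.1 hy1) (mul_inv_eq_iff_eq_mul.1 hy2)
    have hvw : v * w = w * v := mem_cent.1 (I.Ule (I.R_le hv))
    have hvu : v * u = u * v := (mul_inv_eq_iff_eq_mul.1 (I.refl_R j hv)).symm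
    have htv' : t' * v = v * t' := by
      rcases ht' with rfl | rfl | rfl | rfl
      · rw [one_mul, mul_one]
      · exact hvw.symm
      · exact hvu.symm
      · exact ((show Commute w v from hvw.symm).mul_left (show Commute u v from hvu.symm)).eq
    rw [← conj_conj, conj_fix_iff.2 htv'.symm, conj_fix_iff.2 (I.R_comm hv hv')]
  have hnuw : n * (u * w) * n⁻¹ = u := by rw [← conj_mul, hnu, hnw, ← mul_assoc, hwu, mul_assoc, hww, mul_one]
  have h3 : ∀ v ∈ I.R, n * (n * (n * v * n⁻¹) * n⁻¹) * n⁻¹ = v := by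
    intro v hv
    have e3 : ∀ a, n * (n * n) * a * (n * (n * n))⁻¹ = n * (n * (n * a * n⁻¹) * n⁻¹) * n⁻¹ := fun a => by group
    have := hfix (n * (n * n)) (by rw [e3, hnw, hnuw, hnu]) (by rw [e3, hnu, hnw, hnuw]) v hv
    rwa [e3] at this
  -- conjugating by `σ` inverts the permutation
  have h2 : ∀ v ∈ I.R, n * (n * v * n⁻¹) * n⁻¹ = v := by
    intro v hv
    have hσ' : ∀ b, σ⁻¹ * b * σ = σ⁻¹ * b * σ⁻¹⁻¹ := fun b => by rw [inv_inv]
    have hfu : σ * n * σ⁻¹ * n * u * (σ * n * σ⁻¹ * n)⁻¹ = u := by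
      rw [← conj_conj _ n, hnu, ← conj_conj (σ * n) σ⁻¹, inv_inv,
        show σ⁻¹ * w * σ = w from by rw [mul_assoc, ← I.out.w_central hσT, inv_mul_cancel_left],
        ← conj_conj σ n, hnw, ← conj_mul, hσu, hσw, hwu, mul_assoc, hww, mul_one]
    have hfw : σ * n * σ⁻¹ * n * w * (σ * n * σ⁻¹ * n)⁻¹ = w := by
      have e1 : σ⁻¹ * (u * w) * σ = u := by
        rw [← hwu, ← hσu]; group
      rw [← conj_conj _ n, hnw, ← conj_conj (σ * n) σ⁻¹, inv_inv, e1, ← conj_conj σ n, hnu, hσw]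
    have h := hfix _ hfw hfu v hv
    rw [← conj_conj _ n, ← conj_conj (σ * n) σ⁻¹, inv_inv, ← conj_conj σ n] at h
    have hnv := hnR v hv
    rcases I.act hσT with ha | ha
    · have e2 : σ⁻¹ * (n * v * n⁻¹) * σ = n * v * n⁻¹ := by
        conv_lhs => rw [← ha _ hnv]
        group
      rw [e2, ha _ (hnR _ hnv)] at h
      exact h
    · have e2 : σ⁻¹ * (n * v * n⁻¹) * σ = (n * v * n⁻¹)⁻¹ := by
        conv_lhs => rw [← inv_inv (n * v * n⁻¹), ← ha _ hnv]
        group
      rw [e2, ha _ (hnR _ (inv_mem hnv)), conj_inv, inv_inv] at h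
      exact h
  intro v hv
  have := h3 v hv
  rwa [h2 v hv] at this

end Inner

end Cfsg.Lib.GenDihedral
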