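import Cfsg.Agent.GenDihedral.Red.Split
import Mathlib.GroupTheory.FixedPointFree

/-!
The centraliser of the central involution in the noncentral case.
-/

set_option autoImplicit false
set_option linter.unusedSectionVars false
set_option linter.style.haveILetI false

namespace Cfsg.Lib.GenDihedral

open Subgroup

universe u

variable {G : Type u} [Group G] [Finite G]

/-- A fixed-point-free involution inverts a subgroup. -/
theorem inv_of_fpf {U : Subgroup G} {t : G} (ht : t * t = 1) (htU : t ∈ normalizer (U : Set G))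
    (hfix : ∀ v ∈ U, t * v * t⁻¹ = v → v = 1) {v : G} (hv : v ∈ U) : t * v * t⁻¹ = v⁻¹ := by
  have hf : MonoidHom.FixedPointFree (cj U t htU) := fun x hx => Subtype.ext (hfix x x.2 (congrArg Subtype.val hx))
  have hi : Function.Involutive (cj U t htU) := fun x => Subtype.ext (by
    rw [cj_apply, cj_apply, conj_conj, ht, inv_one, one_mul, mul_one])
  exact congrArg Subtype.val (congrFun (hf.coe_eq_inv_of_involutive hi) ⟨v, hv⟩)

/-- The setting of the noncentral case. -/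
structure Inner (z w s : G) (k : ℕ) (T : Sylow 2 G) (U M : Subgroup G) : Prop where
  out : Out z w s k T
  Ule : U ≤ centralizer ({w} : Set G)
  Uodd : Odd (Nat.card U)
  Unorm : centralizer ({w} : Set G) ≤ normalizer (U : Set G)
  Udec : ∀ x ∈ centralizer ({w} : Set G), ∃ v ∈ U, ∃ t ∈ (T : Subgroup G), x = v * t
  Umem : ∀ x ∈ centralizer ({w} : Set G), Odd (orderOf x) → x ∈ U
  Mn : M.Normal
  M2 : M.index = 2
  zM : z ∉ M
  ssM : s * s ∈ M
  wM : w ∈ M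
  sM : s ∉ M

theorem Out.exists_inner {z w s : G} {k : ℕ} {T : Sylow 2 G} (O : Out z w s k T)
    (hns : ¬ Group.IsSolvable G) : ∃ U M : Subgroup G, Inner z w s k T U M := by
  haveI : Fact (Nat.Prime 2) := ⟨Nat.prime_two⟩
  obtain ⟨U, h1, h2, h3, h4, h5⟩ := O.exists_core
  obtain ⟨M, hM, hM2, hzM, hss, hwM⟩ := O.exists_index_two
  haveI := hM
  refine ⟨U, M, O, h1, h2, h3, h4, h5, hM, hM2, hzM, hss, hwM, fun hsM => ?_⟩
  refine hns (solvable_ext M ?_ (solvable_small (by rw [← index_eq_card, hM2]; norm_num)))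
  obtain ⟨P, hP⟩ := Cfsg.Lib.Transfer.exists_sylow_subgroupOf T M
  refine Cfsg.Lib.CyclicInter.solvable_of_cyclic P ?_
  have e : (T : Subgroup G) ⊓ M = zpowers s := by
    refine le_antisymm (fun x hx => ?_) (le_inf (zpowers_le.2 O.sT) (zpowers_le.2 hsM))
    rcases O.cov x hx.1 with h | h
    · exact h
    · exact absurd ((Subgroup.mul_mem_cancel_left M hx.2).1 (zpowers_le.2 hsM h)) hzM
  rw [hP, ← inf_subgroupOf_right, e]
  exact (subgroupOfEquivOfLe (zpowers_le.2 hsM)).isCyclic.2 inferInstance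

namespace Inner

variable {z w s : G} {k : ℕ} {T : Sylow 2 G} {U M : Subgroup G} (I : Inner z w s k T U M)
include I

theorem tU {x : G} (hx : x ∈ (T : Subgroup G)) : x ∈ normalizer (U : Set G) := I.Unorm (I.out.T_le hx)

theorem conjU {x v : G} (hx : x ∈ (T : Subgroup G)) (hv : v ∈ U) : x * v * x⁻¹ ∈ U :=
  (mem_normalizer_iff.1 (I.tU hx) v).1 hv

theorem odd_of_mem {v : G} (hv : v ∈ U) : Odd (orderOf v) := orderOf_odd I.Uodd hv

theorem zfix {v : G} (hv : v ∈ U) (h : z * v * z⁻¹ = v) : v = 1 :=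
  I.out.cz v (conj_fix_iff.1 h) (mem_cent.1 (I.Ule hv)) (I.odd_of_mem hv)

theorem z_inv {v : G} (hv : v ∈ U) : z * v * z⁻¹ = v⁻¹ :=
  inv_of_fpf (mul_self_of_two I.out.z2) (I.tU I.out.zT) (fun _ h e => I.zfix h e) hv

theorem U_comm {a b : G} (ha : a ∈ U) (hb : b ∈ U) : a * b = b * a := by
  have h := I.z_inv (mul_mem ha hb)
  rw [← conj_mul, I.z_inv ha, I.z_inv hb, ← _root_.mul_inv_rev, inv_inj] at h
  exact h.symm

theorem even_cent (j : ℤ) {v : G} (hv : v ∈ U) : s ^ (2 * j) * v * (s ^ (2 * j))⁻¹ = v := by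
  have hfix : ∀ a ∈ U, s ^ (2 * j) * z * a * (s ^ (2 * j) * z)⁻¹ = a → a = 1 := fun a ha h => by
    have e : s ^ (2 * j) * z = s ^ j * z * (s ^ j)⁻¹ := by
      have := I.out.refl_conj 0 j
      rw [zpow_zero, one_mul, zero_add] at this
      exact this.symm
    rw [e] at h
    have hb := I.conjU (inv_mem (I.out.zpow_mem j)) ha
    rw [inv_inv] at hb
    have := I.zfix hb (by
      have h' := congrArg (fun y => (s ^ j)⁻¹ * y * s ^ j) h
      refine Eq.trans ?_ h'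
      group)
    rw [show a = s ^ j * ((s ^ j)⁻¹ * a * s ^ j) * (s ^ j)⁻¹ by group, this, mul_one, mul_inv_cancel]
  have h := inv_of_fpf (U := U) (I.out.refl_sq (2 * j)) (I.tU (I.out.refl_mem (2 * j))) hfix (inv_mem hv)
  rw [inv_inv] at h
  refine Eq.trans ?_ h
  rw [← I.z_inv hv, show s ^ (2 * j) * z * (z * v * z⁻¹) * (s ^ (2 * j) * z)⁻¹ =
    s ^ (2 * j) * ((z * z) * v * (z * z)⁻¹) * (s ^ (2 * j))⁻¹ by group, mul_self_of_two I.out.z2, inv_one, one_mul,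
    mul_one]

/-- The part of `U` fixed by the reflections in `M`. -/
def R (_ : Inner z w s k T U M) : Subgroup G := U ⊓ centralizer ({s * z} : Set G)

theorem R_le : I.R ≤ U := inf_le_left

theorem mem_R {v : G} : v ∈ I.R ↔ v ∈ U ∧ s * v * s⁻¹ = v⁻¹ := by
  refine and_congr_right fun hv => ?_
  have hv' : v ∈ U := hv
  have e : s * z * v * (s * z)⁻¹ = (s * v * s⁻¹)⁻¹ := by
    rw [_root_.mul_inv_rev (s * v), inv_inv, _root_.mul_inv_rev s v, ← I.z_inv hv']; group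
  show v ∈ centralizer ({s * z} : Set G) ↔ _
  rw [mem_cent, ← conj_fix_iff, e, inv_eq_iff_eq_inv]

theorem R_comm {a b : G} (ha : a ∈ I.R) (hb : b ∈ I.R) : a * b = b * a := I.U_comm (I.R_le ha) (I.R_le hb)

theorem s_R {v : G} (hv : v ∈ I.R) : s * v * s⁻¹ = v⁻¹ := (I.mem_R.1 hv).2

theorem sodd (j : ℤ) {v : G} (hv : v ∈ U) :
    s ^ (2 * j + 1) * v * (s ^ (2 * j + 1))⁻¹ = s * v * s⁻¹ := by
  have h := I.conjU I.out.sT hv
  rw [_root_.zpow_add, zpow_one, ← conj_conj, I.even_cent j h]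

/-- The action of the odd reflections. -/
theorem refl_act (j : ℤ) {v : G} (hv : v ∈ U) :
    s ^ (2 * j + 1) * z * v * (s ^ (2 * j + 1) * z)⁻¹ = (s * v * s⁻¹)⁻¹ := by
  rw [← conj_conj, I.z_inv hv, I.sodd j (inv_mem hv), conj_inv]

theorem refl_R (j : ℤ) {v : G} (hv : v ∈ I.R) :
    s ^ (2 * j + 1) * z * v * (s ^ (2 * j + 1) * z)⁻¹ = v := by
  rw [I.refl_act j (I.R_le hv), I.s_R hv, inv_inv]

theorem act {x : G} (hx : x ∈ (T : Subgroup G)) :
    (∀ v ∈ I.R, x * v * x⁻¹ = v) ∨ (∀ v ∈ I.R, x * v * x⁻¹ = v⁻¹) := by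
  obtain ⟨i, rfl | rfl⟩ := I.out.forms hx <;> rcases Int.even_or_odd' i with ⟨j, rfl | rfl⟩
  · exact Or.inl fun v hv => I.even_cent j (I.R_le hv)
  · exact Or.inr fun v hv => by rw [I.sodd j (I.R_le hv), I.s_R hv]
  · exact Or.inr fun v hv => by rw [← conj_conj, I.z_inv (I.R_le hv), I.even_cent j (inv_mem (I.R_le hv))]
  · exact Or.inl fun v hv => I.refl_R j hv

theorem even_M (j : ℤ) : s ^ (2 * j) ∈ M := by rw [zpow_mul, zpow_two]; exact zpow_mem I.ssM j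

theorem odd_not_M (j : ℤ) : s ^ (2 * j + 1) ∉ M := fun h => by
  rw [_root_.zpow_add, zpow_one] at h
  exact I.sM ((Subgroup.mul_mem_cancel_left M (I.even_M j)).1 h)

theorem refl_M (j : ℤ) : s ^ (2 * j + 1) * z ∈ M :=
  (Subgroup.mul_mem_iff_of_index_two I.M2).2 (iff_of_false (I.odd_not_M j) I.zM)

theorem forms_M {x : G} (hx : x ∈ (T : Subgroup G) ⊓ M) :
    ∃ j : ℤ, x = s ^ (2 * j) ∨ x = s ^ (2 * j + 1) * z := by
  obtain ⟨hxT, hxM⟩ := hx
  obtain ⟨i, rfl | rfl⟩ := I.out.forms hxT <;> rcases Int.even_or_odd' i with ⟨j, rfl | rfl⟩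
  · exact ⟨j, Or.inl rfl⟩
  · exact absurd hxM (I.odd_not_M j)
  · exact absurd ((Subgroup.mul_mem_cancel_left M (I.even_M j)).1 hxM) I.zM
  · exact ⟨j, Or.inr rfl⟩

theorem TM_cent_R {x : G} (hx : x ∈ (T : Subgroup G) ⊓ M) {v : G} (hv : v ∈ I.R) : x * v * x⁻¹ = v := by
  obtain ⟨j, rfl | rfl⟩ := I.forms_M hx
  · exact I.even_cent j (I.R_le hv)
  · exact I.refl_R j hv

theorem U_le_M : U ≤ M := fun v hv => by
  haveI := I.Mn
  rw [← QuotientGroup.eq_one_iff, ← orderOf_eq_one_iff]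
  refine Nat.eq_one_of_dvd_coprimes (Nat.coprime_two_left.2 (I.odd_of_mem hv)) ?_ (orderOf_map_dvd (QuotientGroup.mk' M) v)
  rw [← I.M2, index_eq_card]
  exact orderOf_dvd_natCard _

theorem inter_U {x : G} (hT : x ∈ (T : Subgroup G)) (hU : x ∈ U) : x = 1 := by
  obtain ⟨a, ha⟩ := IsPGroup.iff_orderOf.1 T.2 ⟨x, hT⟩
  rw [Subgroup.orderOf_mk] at ha
  refine orderOf_eq_one_iff.1 (Nat.eq_one_of_dvd_coprimes (Nat.Coprime.pow_left a
    (Nat.coprime_two_left.2 (I.odd_of_mem hU))) ha.dvd dvd_rfl)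

theorem dec_unique {v v' t t' : G} (hv : v ∈ U) (hv' : v' ∈ U) (ht : t ∈ (T : Subgroup G))
    (ht' : t' ∈ (T : Subgroup G)) (h : v * t = v' * t') : v = v' ∧ t = t' := by
  have e : v'⁻¹ * v = t' * t⁻¹ := by
    rw [eq_mul_inv_iff_mul_eq, mul_assoc, h, inv_mul_cancel_left]
  have h1 := I.inter_U (e ▸ mul_mem ht' (inv_mem ht)) (mul_mem (inv_mem hv') hv)
  have h2 : v = v' := (inv_mul_eq_one.1 h1).symm
  exact ⟨h2, mul_left_cancel (h2 ▸ h)⟩

/-- The centraliser of `w` and an odd reflection. -/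
theorem cent_pair_dec (j : ℤ) {x : G} (hw : x * w = w * x)
    (hu : x * (s ^ (2 * j + 1) * z) = s ^ (2 * j + 1) * z * x) :
    ∃ v ∈ I.R, ∃ t, (t = 1 ∨ t = w ∨ t = s ^ (2 * j + 1) * z ∨ t = w * (s ^ (2 * j + 1) * z)) ∧ x = v * t := by
  set u := s ^ (2 * j + 1) * z with hudef
  have huT : u ∈ (T : Subgroup G) := I.out.refl_mem _
  obtain ⟨v, hv, t, ht, rfl⟩ := I.Udec x (mem_cent.2 hw)
  have h := conj_fix_iff.2 hu
  rw [← conj_mul] at h
  obtain ⟨h1, h2⟩ := I.dec_unique (I.conjU huT hv) hv (mul_mem (mul_mem huT ht) (inv_mem huT)) ht h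
  refine ⟨v, I.mem_R.2 ⟨hv, ?_⟩, t, I.out.cent_refl ht _ (conj_fix_iff.1 h2), rfl⟩
  rw [hudef, I.refl_act j hv, inv_eq_iff_eq_inv] at h1
  exact h1

theorem card_pair (j : ℤ) :
    Nat.card (centralizer ({w, s ^ (2 * j + 1) * z} : Set G)) = 4 * Nat.card I.R ∧
      centralizer ({w, s ^ (2 * j + 1) * z} : Set G) ≤ M := by
  set u := s ^ (2 * j + 1) * z with hudef
  have huT : u ∈ (T : Subgroup G) := I.out.refl_mem _
  have hu2 : orderOf u = 2 := I.out.refl_two _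
  have hwu : w ≠ u := fun e => I.out.refl_notin _ (e ▸ I.out.w_mem)
  have F := isFour_of_comm I.out.w2 hu2 (I.out.w_central huT).symm hwu
  have hsub : ∀ t ∈ Vg w u, t ∈ (T : Subgroup G) ∧ t ∈ M := fun t ht => by
    rcases F.mem_iff.1 ht with rfl | rfl | rfl | rfl
    · exact ⟨one_mem _, one_mem _⟩
    · exact ⟨I.out.wT, I.wM⟩
    · exact ⟨huT, I.refl_M j⟩
    · exact ⟨mul_mem I.out.wT huT, mul_mem I.wM (I.refl_M j)⟩
  have hmem : ∀ v ∈ I.R, ∀ t ∈ Vg w u, v * t ∈ centralizer ({w, u} : Set G) := fun v hv t ht => by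
    refine mul_mem (mem_centralizer_iff.2 ?_) (mem_centralizer_iff.2 ?_)
    · rintro y (rfl | hy)
      · exact (mem_cent.1 (I.Ule (I.R_le hv))).symm
      · rw [Set.mem_singleton_iff.1 hy]; exact (mul_inv_eq_iff_eq_mul.1 (I.refl_R j hv))
    · refine mem_centralizer_iff.1 ((closure_le _).2 ?_ ht)
      intro a ha
      refine mem_centralizer_iff.2 fun y hy => ?_
      rcases ha with rfl | ha <;> rcases hy with rfl | hy
      · rfl
      · rw [Set.mem_singleton_iff.1 hy]; exact I.out.w_central huT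
      · rw [Set.mem_singleton_iff.1 ha]; exact (I.out.w_central huT).symm
      · rw [Set.mem_singleton_iff.1 ha, Set.mem_singleton_iff.1 hy]
  refine ⟨?_, fun x hx => ?_⟩
  · rw [← F.card, mul_comm (Nat.card (Vg w u)), ← Nat.card_prod]
    refine (Nat.card_congr (Equiv.ofBijective
      (fun p : I.R × Vg w u => (⟨p.1.1 * p.2.1, hmem _ p.1.2 _ p.2.2⟩ : centralizer ({w, u} : Set G))) ⟨?_, ?_⟩)).symm
    · rintro ⟨⟨v, hv⟩, ⟨t, ht⟩⟩ ⟨⟨v', hv'⟩, ⟨t', ht'⟩⟩ h
      obtain ⟨rfl, rfl⟩ := I.dec_unique (I.R_le hv) (I.R_le hv') (hsub t ht).1 (hsub t' ht').1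
        (congrArg Subtype.val h)
      rfl
    · rintro ⟨x, hx⟩
      obtain ⟨v, hv, t, ht, rfl⟩ := I.cent_pair_dec j (mem_centralizer_iff.1 hx w (Or.inl rfl)).symm
        (mem_centralizer_iff.1 hx u (Or.inr rfl)).symm
      exact ⟨⟨⟨v, hv⟩, ⟨t, F.mem_iff.2 ht⟩⟩, rfl⟩
  · obtain ⟨v, hv, t, ht, rfl⟩ := I.cent_pair_dec j (mem_centralizer_iff.1 hx w (Or.inl rfl)).symm
      (mem_centralizer_iff.1 hx u (Or.inr rfl)).symm
    exact mul_mem (I.U_le_M (I.R_le hv)) (hsub t (F.mem_iff.2 ht)).2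

/-- With `R` trivial the centraliser of `w` is generalised dihedral. -/
theorem hyp_of_R_bot (hR : I.R = ⊥) : ∃ A : Subgroup G, Hyp w A := by
  have hsz : ∀ v ∈ U, s * v * s⁻¹ = v := fun v hv => by
    have hu : s * z ∈ (T : Subgroup G) := mul_mem I.out.sT I.out.zT
    have hsq : s * z * (s * z) = 1 := by simpa using I.out.refl_sq 1
    have h := inv_of_fpf (U := U) hsq (I.tU hu) (fun a ha e => mem_bot.1 (hR ▸ (⟨ha, mem_cent.2 (conj_fix_iff.1 e)⟩ :
      a ∈ I.R))) hv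
    have e : s * z * v * (s * z)⁻¹ = (s * v * s⁻¹)⁻¹ := by simpa using I.refl_act 0 hv
    rw [e, inv_inj] at h
    exact h
  have hpow : ∀ (i : ℤ) {v : G}, v ∈ U → Commute (s ^ i) v := fun i v hv =>
    Commute.zpow_left (show Commute s v from (conj_fix_iff.1 (hsz v hv)).symm) i
  let A : Subgroup G :=
    { carrier := {x | ∃ v ∈ U, ∃ i : ℤ, x = v * s ^ i}
      one_mem' := ⟨1, one_mem U, 0, by simp⟩
      mul_mem' := by
        rintro _ _ ⟨v, hv, i, rfl⟩ ⟨v', hv', i', rfl⟩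
        refine ⟨v * v', mul_mem hv hv', i + i', ?_⟩
        rw [_root_.zpow_add, mul_assoc v v', ← mul_assoc v' (s ^ i), ← (hpow i hv').eq]
        group
      inv_mem' := by
        rintro _ ⟨v, hv, i, rfl⟩
        exact ⟨v⁻¹, inv_mem hv, -i, by rw [_root_.mul_inv_rev, _root_.zpow_neg]; exact (hpow i hv).inv_inv.eq⟩ }
  have hAC : A ≤ centralizer ({w} : Set G) := by
    rintro _ ⟨v, hv, i, rfl⟩
    exact mul_mem (I.Ule hv) (I.out.T_le (I.out.zpow_mem i))
  have hzA : z ∉ A := by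
    rintro ⟨v, hv, i, h⟩
    obtain ⟨-, e⟩ := I.dec_unique (one_mem U) hv I.out.zT (I.out.zpow_mem i) (by rw [one_mul]; exact h)
    exact I.out.notin (e ▸ Subgroup.zpow_mem_zpowers s i)
  have hcov : ∀ x ∈ centralizer ({w} : Set G), x ∈ A ∨ x * z ∈ A := fun x hx => by
    obtain ⟨v, hv, t, ht, rfl⟩ := I.Udec x hx
    obtain ⟨i, rfl | rfl⟩ := I.out.forms ht
    · exact Or.inl ⟨v, hv, i, rfl⟩
    · refine Or.inr ⟨v, hv, i, ?_⟩
      rw [mul_assoc, mul_assoc, mul_self_of_two I.out.z2, mul_one]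
  refine ⟨A, I.out.w2, ?_, hAC, ?_, ?_, ?_, ?_, I.out.odd_idx_w⟩
  · obtain ⟨i, hi⟩ := mem_zpowers_iff.1 I.out.w_mem
    exact ⟨1, one_mem U, i, by rw [one_mul, hi]⟩
  · rintro _ ⟨v, hv, i, rfl⟩ _ ⟨v', hv', i', rfl⟩
    calc v * s ^ i * (v' * s ^ i') = v * (s ^ i * v') * s ^ i' := by group
      _ = v' * v * (s ^ i * s ^ i') := by rw [(hpow i hv').eq, ← mul_assoc, I.U_comm hv hv', mul_assoc]
      _ = v' * (v * s ^ i') * s ^ i := by rw [(Commute.zpow_zpow (Commute.refl s) i i').eq]; group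
      _ = v' * s ^ i' * (v * s ^ i) := by rw [← (hpow i' hv).eq]; group
  · refine index_eq_two_iff.2 ⟨⟨z, I.out.T_le I.out.zT⟩, fun b => ?_⟩
    simp only [mem_subgroupOf, Subgroup.coe_mul]
    rcases hcov b b.2 with h | h
    · exact Or.inr ⟨h, fun h' => hzA ((Subgroup.mul_mem_cancel_left _ h).1 h')⟩
    · exact Or.inl ⟨h, fun h' => hzA ((Subgroup.mul_mem_cancel_left _ h').1 h)⟩
  · rintro _ ⟨v, hv, i, rfl⟩ h2
    have hsq : v * s ^ i * (v * s ^ i) = 1 := by rw [← pow_two, ← h2, pow_orderOf_eq_one]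
    have e : v * v * (s ^ i * s ^ i) = 1 * 1 := by
      rw [mul_one]
      refine Eq.trans ?_ hsq
      rw [mul_assoc v (s ^ i), ← mul_assoc (s ^ i) v, (hpow i hv).eq]
      group
    obtain ⟨e1, e2⟩ := I.dec_unique (mul_mem hv hv) (one_mem U)
      (mul_mem (I.out.zpow_mem i) (I.out.zpow_mem i)) (one_mem _) e
    rw [eq_one_of_sq_of_odd e1 (I.odd_of_mem hv), one_mul] at h2 ⊢
    rcases sq_one_cases (by have := I.out.hk; omega) I.out.os (Subgroup.zpow_mem_zpowers s i) e2 with e3 | e3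
    · rw [e3, orderOf_one] at h2; omega
    · exact e3.trans I.out.hw
  · intro x hx hxA
    obtain ⟨v, hv, i, h⟩ := (hcov x hx).resolve_left hxA
    have e : x = v * s ^ i * z := by rw [← h, mul_assoc, mul_self_of_two I.out.z2, mul_one]
    rw [e]
    calc v * s ^ i * z * (v * s ^ i * z) = v * s ^ i * (z * v * z⁻¹) * (z * s ^ i * z⁻¹) * (z * z) := by group
      _ = v * (s ^ i * v⁻¹) * s ^ (-i) := by
        rw [I.z_inv hv, I.out.zconj, mul_self_of_two I.out.z2, mul_one]; group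
      _ = 1 := by rw [(hpow i (inv_mem hv)).eq]; group

end Inner

end Cfsg.Lib.GenDihedral
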