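import Cfsg.Agent.GenDihedral.Red.Count

/-!
In the noncentral case the central involution has generalised dihedral centraliser.
-/

set_option autoImplicit false
set_option linter.unusedSectionVars false
set_option linter.style.haveILetI false

namespace Cfsg.Lib.GenDihedral

open Subgroup

universe u

variable {G : Type u} [Group G] [Finite G]

/-- An element of odd order centralising a subgroup of index five of a simple group acts trivially. -/
theorem fix_of_index_five {L : Subgroup G} [hL : L.Normal] [IsSimpleGroup L] (Y : Subgroup L) (hY : Y.index = 5)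
    {c : G} (ho : Odd (orderOf c)) (hc : ∀ y ∈ Y, c * (y : G) * c⁻¹ = y) (l : G) (hl : l ∈ L) :
    c * l * c⁻¹ = l := by
  classical
  letI := Fintype.ofFinite (L ⧸ Y)
  set φ : MulAut L := MulAut.conjNormal c with hφ
  have hφv : ∀ a : L, ((φ a : L) : G) = c * a * c⁻¹ := fun a => MulAut.conjNormal_apply c a
  have hφY : ∀ y ∈ Y, φ y = y := fun y hy => Subtype.ext (by rw [hφv, hc y hy])
  have hcong : ∀ (ψ : MulAut L), (∀ y ∈ Y, ψ y = y) → ∀ a b : L, (a : L ⧸ Y) = b → (ψ a : L ⧸ Y) = ψ b := by
    intro ψ hψ a b h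
    rw [QuotientGroup.eq] at h ⊢
    rw [← map_inv, ← map_mul, hψ _ h]
    exact h
  have hφs : ∀ y ∈ Y, φ.symm y = y := fun y hy => φ.injective (by rw [φ.apply_symm_apply, hφY y hy])
  let π : Equiv.Perm (L ⧸ Y) :=
    { toFun := fun q => Quotient.liftOn' q (fun a => ((φ a : L) : L ⧸ Y)) fun a b h =>
        hcong φ hφY a b (Quotient.sound' h)
      invFun := fun q => Quotient.liftOn' q (fun a => ((φ.symm a : L) : L ⧸ Y)) fun a b h =>
        hcong φ.symm hφs a b (Quotient.sound' h)
      left_inv := fun q => QuotientGroup.induction_on q fun a => congrArg QuotientGroup.mk (φ.symm_apply_apply a)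
      right_inv := fun q => QuotientGroup.induction_on q fun a => congrArg QuotientGroup.mk (φ.apply_symm_apply a) }
  have hπ : ∀ a : L, π (a : L ⧸ Y) = (φ a : L) := fun a => rfl
  have hπY : ∀ y ∈ Y, ∀ a : L, π ((y * a : L) : L ⧸ Y) = ((y * φ a : L) : L ⧸ Y) := fun y hy a => by
    rw [hπ, map_mul, hφY y hy]
  by_cases hall : ∀ a : L, π (a : L ⧸ Y) = a
  · -- the commutators lie in the core
    set D : L → L := fun a => a⁻¹ * φ a with hD
    have hDY : ∀ a, D a ∈ Y := fun a => by
      have := QuotientGroup.eq.1 (hall a).symm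
      exact this
    have hcore : D ⟨l, hl⟩ ∈ Y.normalCore := fun b => by
      have e : D (⟨l, hl⟩ * b⁻¹) = b * D ⟨l, hl⟩ * b⁻¹ * D b⁻¹ := by
        simp only [hD, map_mul]; group
      have h := hDY (⟨l, hl⟩ * b⁻¹)
      rw [e] at h
      exact (Subgroup.mul_mem_cancel_right Y (hDY _)).1 h
    rcases Y.normalCore_normal.eq_bot_or_eq_top with e | e
    · rw [e, mem_bot, hD] at hcore
      have := congrArg Subtype.val (inv_mul_eq_one.1 hcore)
      rw [hφv] at this
      exact this.symm
    · have : Y = ⊤ := top_le_iff.1 (e ▸ Y.normalCore_le)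
      rw [this, index_top] at hY
      omega
  -- otherwise exactly two cosets are fixed
  exfalso
  push Not at hall
  obtain ⟨a₀, ha₀⟩ := hall
  have hcard : Fintype.card (L ⧸ Y) = 5 := by rw [← Nat.card_eq_fintype_card, ← index_eq_card, hY]
  have hpow : ∀ (i : ℕ) (a : L), (π ^ i) (a : L ⧸ Y) = ((φ ^ i) a : L) := by
    intro i
    induction i with
    | zero => intro a; rfl
    | succ i ih => intro a; rw [pow_succ', Equiv.Perm.mul_apply, ih, hπ, pow_succ', MulAut.mul_apply]
  have hπord : π ^ orderOf c = 1 := Equiv.ext fun q => QuotientGroup.induction_on q fun a => by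
    rw [hpow, Equiv.Perm.one_apply, hφ, ← map_pow, pow_orderOf_eq_one, map_one]
    rfl
  have h1fix : π ((1 : L) : L ⧸ Y) = (1 : L) := by rw [hπ, map_one]
  -- the support has three elements
  have hsupp : π.support.card = 3 := by
    have hsum := π.sum_cycleType
    have hlt : π.support.card < 5 := by
      rw [← hcard]
      refine Finset.card_lt_univ_of_notMem (x := ((1 : L) : L ⧸ Y)) ?_
      simp [Equiv.Perm.mem_support, h1fix]
    have hge : ∀ m ∈ π.cycleType, Odd m ∧ 2 ≤ m := fun m hm =>
      ⟨ho.of_dvd_nat ((Equiv.Perm.dvd_of_mem_cycleType hm).trans (orderOf_dvd_of_pow_eq_one hπord)),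
        Equiv.Perm.two_le_of_mem_cycleType hm⟩
    have hne : π.cycleType ≠ 0 := fun e => by
      rw [Equiv.Perm.cycleType_eq_zero] at e
      exact ha₀ (by rw [e, Equiv.Perm.one_apply])
    obtain ⟨m, hm⟩ := Multiset.exists_mem_of_ne_zero hne
    obtain ⟨t, ht⟩ := Multiset.exists_cons_of_mem hm
    have hm3 : 3 ≤ m := by obtain ⟨⟨r, hr⟩, h2⟩ := hge m hm; omega
    rw [ht, Multiset.sum_cons] at hsum
    rcases t.empty_or_exists_mem with rfl | ⟨m', hm'⟩
    · simp only [Multiset.sum_zero, add_zero] at hsum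
      obtain ⟨⟨r, hr⟩, -⟩ := hge m hm
      omega
    · have h2 := (hge m' (ht ▸ Multiset.mem_cons_of_mem hm')).2
      have := Multiset.single_le_sum (fun x _ => Nat.zero_le x) m' hm'
      omega
  obtain ⟨b, hb, hb1⟩ : ∃ b : L, π (b : L ⧸ Y) = b ∧ b ∉ Y := by
    by_contra h
    push Not at h
    have hsub : Finset.univ ⊆ insert ((1 : L) : L ⧸ Y) π.support := fun q _ => by
      induction q using QuotientGroup.induction_on with
      | _ a =>
        by_cases hq : π (a : L ⧸ Y) = a
        · have : ((a : L) : L ⧸ Y) = ((1 : L) : L ⧸ Y) := QuotientGroup.eq.2 (by simpa using inv_mem (h a hq))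
          simp [this]
        · simp [Equiv.Perm.mem_support, hq]
    have := (Finset.card_le_card hsub).trans (Finset.card_insert_le _ _)
    rw [Finset.card_univ, hcard, hsupp] at this
    omega
  -- `Y` fixes the second fixed coset
  have hYb : ∀ y ∈ Y, b⁻¹ * y * b ∈ Y := by
    intro y hy
    have hfix : π ((y * b : L) : L ⧸ Y) = ((y * b : L) : L ⧸ Y) := by
      rw [hπY y hy]
      have h := QuotientGroup.eq.1 hb
      rw [QuotientGroup.eq]
      rwa [_root_.mul_inv_rev, mul_assoc, inv_mul_cancel_left]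
    by_contra hne'
    have hnot : ∀ q ∈ ({((1 : L) : L ⧸ Y), (b : L ⧸ Y), ((y * b : L) : L ⧸ Y)} : Finset (L ⧸ Y)), q ∉ π.support := by
      intro q hq
      simp only [Finset.mem_insert, Finset.mem_singleton] at hq
      rcases hq with rfl | rfl | rfl <;> simp [Equiv.Perm.mem_support, h1fix, hb, hfix]
    have hc3 : ({((1 : L) : L ⧸ Y), (b : L ⧸ Y), ((y * b : L) : L ⧸ Y)} : Finset (L ⧸ Y)).card = 3 := by
      have e1 : ((1 : L) : L ⧸ Y) ≠ b := fun e => hb1 (by simpa using QuotientGroup.eq.1 e)
      have e2 : ((1 : L) : L ⧸ Y) ≠ ((y * b : L) : L ⧸ Y) := fun e =>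
        hb1 ((Subgroup.mul_mem_cancel_left Y hy).1 (by simpa using QuotientGroup.eq.1 e))
      have e3 : (b : L ⧸ Y) ≠ ((y * b : L) : L ⧸ Y) := fun e => hne' (by simpa [mul_assoc] using QuotientGroup.eq.1 e)
      rw [Finset.card_insert_of_notMem (by simp [e1, e2]), Finset.card_pair e3]
    have := Finset.card_le_univ (π.support ∪ ({((1 : L) : L ⧸ Y), (b : L ⧸ Y), ((y * b : L) : L ⧸ Y)} : Finset (L ⧸ Y)))
    rw [Finset.card_union_of_disjoint (Finset.disjoint_right.2 hnot), hc3, hsupp, hcard] at this
    omega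
  have hbn : b⁻¹ ∈ normalizer (Y : Set L) := Cfsg.Lib.Coprime.mem_normalizer_of_conj_mem (fun y hy => by
      simpa using hYb y hy) fun y hy => by
    have hmap : Y.map (MulAut.conj b⁻¹).toMonoidHom = Y :=
      Cfsg.Lib.Coprime.eq_of_le_of_card_eq (by rintro _ ⟨x, hx, rfl⟩; simpa using hYb x hx)
        (Subgroup.card_map_of_injective (MulAut.conj b⁻¹).injective)
    have hy' : y ∈ Y.map (MulAut.conj b⁻¹).toMonoidHom := hmap.symm ▸ hy
    obtain ⟨x, hx, e⟩ := hy'
    rw [← e]
    simpa [mul_assoc] using hx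
  have hd := index_dvd_of_le (le_normalizer : Y ≤ normalizer (Y : Set L))
  rw [hY] at hd
  rcases (Nat.dvd_prime (by norm_num)).1 hd with e | e
  · rw [index_eq_one] at e
    rcases (normalizer_eq_top_iff.1 e : Y.Normal).eq_bot_or_eq_top with e' | e'
    · rw [e', index_bot] at hY
      haveI : Fact (Nat.Prime 5) := ⟨by norm_num⟩
      exact hb1 (by
        exfalso
        have : IsCyclic L := isCyclic_of_prime_card (p := 5) hY
        have hnorm : (⊥ : Subgroup L).Normal := inferInstance
        exact absurd hsupp (by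
          rw [Finset.card_eq_zero.2 (Finset.eq_empty_of_forall_notMem fun q => ?_)]
          · omega
          · induction q using QuotientGroup.induction_on with
            | _ a =>
              intro hq
              rw [Equiv.Perm.mem_support] at hq
              letI : CommGroup L := IsCyclic.commGroup
              have h5 : orderOf φ ∣ 4 := by
                have := orderOf_dvd_natCard φ
                rwa [IsCyclic.card_mulAut, hY, Nat.totient_prime (by norm_num)] at this
              have hφo : orderOf φ ∣ orderOf c := orderOf_map_dvd _ c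
              have hφ1 : φ = 1 := orderOf_eq_one_iff.1 (Nat.eq_one_of_dvd_coprimes
                ((Nat.coprime_two_left.2 ho).pow_left 2) h5 hφo)
              exact hq (by rw [hπ, hφ1]; rfl)))
    · rw [e', index_top] at hY
      omega
  · have heq : Y = normalizer (Y : Set L) := by
      refine Cfsg.Lib.Coprime.eq_of_le_of_card_eq le_normalizer ?_
      have h1 := Y.card_mul_index
      have h2 := (normalizer (Y : Set L)).card_mul_index
      rw [hY] at h1
      rw [e] at h2
      omega
    exact hb1 (Y.inv_mem_iff.1 (heq.ge hbn))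

namespace Inner

variable {z w s : G} {k : ℕ} {T : Sylow 2 G} {U M : Subgroup G} (I : Inner z w s k T U M)
include I

theorem R_bot (hO : NoOdd G) (hns : ¬ Group.IsSolvable G) : I.R = ⊥ := by
  classical
  haveI : Fact (Nat.Prime 2) := ⟨Nat.prime_two⟩
  haveI := I.Mn
  by_contra hne
  obtain ⟨L, hL⟩ := I.exists_min hO hns
  haveI := hL.normal
  have hRL : ¬ L ≤ centralizer (I.R : Set G) := fun h => by
    refine hne (le_bot_iff.1 (hL.cent ▸ fun v hv => mem_centralizer_iff.2 fun l hl => ?_))
    exact (mem_centralizer_iff.1 (h hl) v hv).symm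
  set X := M ⊓ centralizer (I.R : Set G) with hX
  obtain ⟨hM2, hM3⟩ := I.counts hL le_rfl inf_le_left
  obtain ⟨hX2, hX3⟩ := I.counts hL (N := X) inf_le_left le_rfl
  have hXM : X ≤ M := inf_le_left
  have hcard : Nat.card M = Nat.card X * X.relIndex M := by
    have h := card_mul_index (X.subgroupOf M)
    rw [Nat.card_congr (subgroupOfEquivOfLe hXM).toEquiv] at h
    exact h.symm
  have hXne : X.relIndex M ≠ 1 := fun h => hRL (hL.le.trans ((relIndex_eq_one.1 h).trans inf_le_right))
  set c := Nat.card (centralizer ({w} : Set G) ⊓ M : Subgroup G) with hc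
  set ρ := Nat.card I.R with hρ
  have hρ0 : 0 < ρ := Nat.card_pos
  have hX0 : 0 < Nat.card X := Nat.card_pos
  rcases Nat.lt_or_ge k 3 with hk | hk
  · have hk2 : k = 2 := by have := I.out.hk; omega
    obtain ⟨SM, hSM, -, hcM⟩ := hM2 hk2
    obtain ⟨SX, -, hSX, hcX⟩ := hX2 hk2
    have e : (Nat.card M : ℚ) = Nat.card X * X.relIndex M := by exact_mod_cast hcard
    have h5 : X.relIndex M ≤ 5 := by
      by_contra h
      have h6 : (6 : ℚ) ≤ (X.relIndex M : ℚ) := by exact_mod_cast (show 6 ≤ X.relIndex M by omega)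
      rw [e] at hcM
      rw [hcM] at hcX
      have hpos : (0 : ℚ) < 2 * ((Nat.card X : ℚ) * (ρ : ℚ) ^ 2) := by positivity
      have hS : (X.relIndex M : ℚ) * SM = SX := mul_left_cancel₀ hpos.ne' (by linear_combination hcX)
      nlinarith
    have hidx : (X.subgroupOf L).index ≤ 5 :=
      (relIndex_le_of_le_right hL.le (by
        intro h0
        rw [h0, mul_zero] at hcard
        exact Nat.card_pos.ne' hcard)).trans h5
    haveI := I.min_simple hL hO hns hk2
    have hne' : X.subgroupOf L ≠ ⊤ := fun h => hRL ((subgroupOf_eq_top.1 h).trans inf_le_right)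
    have hnc : ¬ ∀ a b : L, a * b = b * a := fun h => hL.nonsolv (Group.isSolvable_of_comm h)
    obtain ⟨f, hf⟩ := Cfsg.Lib.Small.exists_hom_alternating_index hnc _ hne'
    have hY5 : (X.subgroupOf L).index = 5 := by
      by_contra h
      refine hL.nonsolv (solvable_small ?_)
      refine (Nat.card_le_card_of_injective f hf).trans_lt ?_
      refine (Nat.card_le_card_of_injective Subtype.val Subtype.val_injective).trans_lt ?_
      rw [Nat.card_perm, Nat.card_fin]
      exact (Nat.factorial_le (show (X.subgroupOf L).index ≤ 4 by omega)).trans_lt (by decide)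
    obtain ⟨v, hv, hv1⟩ := I.R.bot_or_exists_ne_one.resolve_left hne
    refine hv1 (mem_bot.1 (hL.cent ▸ mem_centralizer_iff.2 fun l hl => ?_))
    have h := fix_of_index_five (c := v) (X.subgroupOf L) hY5 (I.odd_of_mem (I.R_le hv)) (fun y hy => by
      rw [mem_subgroupOf] at hy
      exact conj_fix_iff.2 (mem_centralizer_iff.1 hy.2 v hv).symm) l hl
    exact (conj_fix_iff.1 h).symm ▸ rfl
  · obtain ⟨hMl, -⟩ := hM3 hk
    obtain ⟨hMl', hMu⟩ := hM3 hk
    obtain ⟨-, hXu⟩ := hX3 hk
    obtain ⟨hXl, -⟩ := hX3 hk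
    have hodd : Odd (X.relIndex M) := by
      obtain ⟨P, hP⟩ := Cfsg.Lib.Transfer.exists_sylow_subgroupOf T M
      refine Nat.not_even_iff_odd.1 fun h => P.not_dvd_index (h.two_dvd.trans ?_)
      rw [hP, ← inf_subgroupOf_right]
      show _ ∣ ((T : Subgroup G) ⊓ M).relIndex M
      exact Dvd.intro_left _ (relIndex_mul_relIndex _ _ _ I.le_centR hXM)
    have h3 : 3 ≤ X.relIndex M := by obtain ⟨r, hr⟩ := hodd; omega
    rw [hcard] at hMu
    have := Nat.mul_le_mul_left (32 * (2 * (Nat.card X * ρ ^ 2))) h3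
    have hpos : 0 < Nat.card X * ρ ^ 2 := by positivity
    nlinarith

end Inner

/-- The noncentral case. -/
theorem Out.exists_hyp {z w s : G} {k : ℕ} {T : Sylow 2 G} (O : Out z w s k T) (hO : NoOdd G)
    (hns : ¬ Group.IsSolvable G) : ∃ A : Subgroup G, Hyp w A := by
  obtain ⟨U, M, I⟩ := O.exists_inner hns
  exact I.hyp_of_R_bot (I.R_bot hO hns)

end Cfsg.Lib.GenDihedral
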