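import Cfsg.Agent.GenDihedral.Red.Many
import Cfsg.Agent.GenDihedral.Red.Outer
import Cfsg.Agent.S1230

/-!
Assembly of the reduction.
-/

set_option autoImplicit false
set_option linter.unusedSectionVars false
set_option linter.style.haveILetI false

namespace Cfsg.Lib.GenDihedral

open Subgroup

universe u

variable {G : Type u} [Group G] [Finite G]

/-- The conclusion: modulo a normal subgroup of order odd or twice odd, `PSL(2, q)` or `PGL(2, q)`. -/
def Concl (G : Type u) [Group G] : Prop :=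
  ∃ (N : Subgroup G) (_ : N.Normal), (Odd (Nat.card N) ∨ ∃ m : ℕ, Odd m ∧ Nat.card N = 2 * m) ∧
    ∃ (F : Type) (_ : Field F) (_ : Fintype F), 3 < Fintype.card F ∧
      (Nonempty (G ⧸ N ≃* Matrix.ProjectiveSpecialLinearGroup (Fin 2) F) ∨
        Nonempty (G ⧸ N ≃* Matrix.ProjGenLinGroup (Fin 2) F))

theorem elem_case (H : Subgroup G) (h4 : 4 ∣ Nat.card H) (hexp : ∀ x ∈ H, x * x = 1)
    (hC : ∀ j ∈ H, orderOf j = 2 → centralizer ({j} : Set G) = H) (hns : ¬ Group.IsSolvable G) : Concl G := by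
  haveI : Fact (Nat.Prime 2) := ⟨Nat.prime_two⟩
  have hH4 : 4 ≤ Nat.card H := Nat.le_of_dvd Nat.card_pos h4
  have hHp : IsPGroup 2 H := fun x => ⟨1, Subtype.ext (by simp [pow_two, hexp _ x.2])⟩
  obtain ⟨T, hT⟩ := hHp.exists_le_sylow
  obtain ⟨j, hj, hj1⟩ : ∃ j ∈ H, j ≠ 1 := H.bot_or_exists_ne_one.resolve_left fun e => by
    rw [e, card_bot] at hH4; omega
  have hj2 : orderOf j = 2 := (two_or_one (hexp j hj)).resolve_left hj1
  have hTH : (T : Subgroup G) = H := by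
    refine le_antisymm ?_ hT
    haveI : Nontrivial (T : Subgroup G) := ⟨⟨⟨j, hT hj⟩, 1, fun e => hj1 (congrArg Subtype.val e)⟩⟩
    haveI := T.2.center_nontrivial
    obtain ⟨c, hc⟩ := exists_ne (1 : center (T : Subgroup G))
    have hc1 : ((c : (T : Subgroup G)) : G) ≠ 1 := fun e => hc (Subtype.ext (Subtype.ext e))
    obtain ⟨i, hi⟩ := two_elt T.2 (c : (T : Subgroup G)).2 hc1
    have hcomm : ∀ x ∈ (T : Subgroup G), x * ((c : (T : Subgroup G)) : G) ^ 2 ^ i =
        ((c : (T : Subgroup G)) : G) ^ 2 ^ i * x := fun x hx =>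
      (show Commute x ((c : (T : Subgroup G)) : G) from
        congrArg Subtype.val (mem_center_iff.1 c.2 ⟨x, hx⟩)).pow_right _
    have hwH : ((c : (T : Subgroup G)) : G) ^ 2 ^ i ∈ H :=
      (hC j hj hj2).le (mem_cent.2 (hcomm j (hT hj)).symm)
    exact fun x hx => (hC _ hwH hi).le (mem_cent.2 (hcomm x hx))
  have hcomm : ∀ a ∈ H, ∀ b ∈ H, a * b = b * a := fun a ha b hb => by
    have h := hexp _ (mul_mem ha hb)
    rw [← inv_eq_of_mul_eq_one_left h, _root_.mul_inv_rev, inv_eq_of_mul_eq_one_left (hexp a ha),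
      inv_eq_of_mul_eq_one_left (hexp b hb)]
  have hcent : ∀ t : G, orderOf t = 2 → IsMulCommutative (centralizer ({t} : Set G)) ∧
      ∀ c ∈ centralizer ({t} : Set G), c ^ 2 = 1 := by
    intro t ht
    obtain ⟨c, -, hcT⟩ := Cfsg.Lib.ZStarApps.exists_conj_mem_sylow T (le_top : (T : Subgroup G) ≤ ⊤)
      (V := zpowers t) (IsPGroup.of_card (n := 1) (by rw [Nat.card_zpowers, ht, pow_one])) le_top
    have hjH : c * t * c⁻¹ ∈ H := hTH ▸ hcT t (mem_zpowers t)
    have hj2 : orderOf (c * t * c⁻¹) = 2 := by rw [← MulAut.conj_apply, MulEquiv.orderOf_eq, ht]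
    have key : ∀ x ∈ centralizer ({t} : Set G), c * x * c⁻¹ ∈ H := fun x hx =>
      (hC _ hjH hj2).le (mem_cent.2 (by rw [conj_mul, conj_mul, mem_cent.1 hx]))
    refine ⟨⟨⟨fun a b => Subtype.ext ?_⟩⟩, fun x hx => ?_⟩
    · have h := hcomm _ (key _ a.2) _ (key _ b.2)
      rw [conj_mul, conj_mul] at h
      exact mul_left_cancel (mul_right_cancel h)
    · have h := hexp _ (key x hx)
      rw [conj_mul, conj_eq_one_iff] at h
      rw [pow_two, h]
  have hnc : ¬ IsCyclic (T : Subgroup G) := fun h => by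
    rw [hTH] at h
    obtain ⟨g, hg⟩ := h.exists_generator
    have h2 : orderOf g ∣ 2 := orderOf_dvd_of_pow_eq_one (Subtype.ext (by simp [pow_two, hexp _ g.2]))
    rw [orderOf_eq_card_of_forall_mem_zpowers hg] at h2
    have := Nat.le_of_dvd two_pos h2
    omega
  have hnn : ¬ (T : Subgroup G).Normal := fun h => by
    haveI := h
    refine hns (solvable_ext (T : Subgroup G) (solvable_of_two T.2) ?_)
    refine Cfsg.Agent.PF.isSolvable_of_odd _ (Nat.not_even_iff_odd.1 fun hev => ?_)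
    rw [← index_eq_card] at hev
    exact T.not_dvd_index hev.two_dvd
  obtain ⟨F, i1, i2, hF, ⟨e⟩⟩ := Cfsg.Agent.S1230.result T hnc hnn hcent
  rw [hTH] at hF
  exact ⟨⊥, inferInstance, Or.inl (by rw [card_bot]; exact odd_one), F, i1, i2, by omega,
    Or.inl ⟨QuotientGroup.quotientBot.trans e⟩⟩

theorem unique_case {z : G} {A : Subgroup G} (hz : orderOf z = 2) (hzA : z ∈ A)
    (hle : A ≤ centralizer ({z} : Set G)) (hcomm : ∀ a ∈ A, ∀ b ∈ A, a * b = b * a)
    (hidx : A.relIndex (centralizer ({z} : Set G)) = 2) (huniq : ∀ a ∈ A, orderOf a = 2 → a = z)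
    (hout : ∀ x ∈ centralizer ({z} : Set G), x ∉ A → x * x = 1) (hns : ¬ Group.IsSolvable G) : Concl G := by
  classical
  set C := centralizer ({z} : Set G) with hC
  set N := Cfsg.pPrimeCore 2 G with hN
  have hNodd : Odd (Nat.card N) :=
    Nat.coprime_two_right.1 (Cfsg.Lib.Components.coprime_card_pPrimeCore 2)
  have hord : ∀ n ∈ N, Odd (orderOf n) := fun n hn =>
    hNodd.of_dvd_nat ((Subgroup.orderOf_mk n hn) ▸ orderOf_dvd_natCard _)
  set π := QuotientGroup.mk' N with hπ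
  have hzz := mul_self_of_two hz
  have hz1 : π z ≠ 1 := fun e => by
    have := hord z ((QuotientGroup.eq_one_iff z).1 e)
    rw [hz] at this
    exact absurd this (by decide)
  have hz2 : orderOf (π z) = 2 :=
    orderOf_eq_prime (by rw [pow_two, ← map_mul, hzz, map_one]) hz1
  have hcq : centralizer ({π z} : Set (G ⧸ N)) = C.map π := cent_quot N hNodd hz
  have hback : ∀ c ∈ C, π c ∈ A.map π → c ∈ A := by
    intro c hc ⟨a, ha, e⟩
    by_contra hcA
    have hn : a⁻¹ * c ∈ N := QuotientGroup.eq.1 e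
    have hnA : a⁻¹ * c ∉ A := fun h => hcA ((Subgroup.mul_mem_cancel_left A (inv_mem ha)).1 h)
    have h1 := eq_one_of_sq_of_odd (hout _ (mul_mem (inv_mem (hle ha)) hc) hnA) (hord _ hn)
    exact hcA (inv_mul_eq_one.1 h1 ▸ ha)
  obtain ⟨x₀, hx₀⟩ : ∃ x₀ ∈ C, x₀ ∉ A := by
    by_contra h
    push Not at h
    have : A.relIndex C = 1 := relIndex_eq_one.2 h
    omega
  have hidxC : ∀ b ∈ C, b ∉ A → b * x₀ ∈ A := fun b hb hbA => by
    have h := Subgroup.mul_mem_iff_of_index_two (H := A.subgroupOf C) hidx (a := ⟨b, hb⟩) (b := ⟨x₀, hx₀.1⟩)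
    simp only [mem_subgroupOf, Subgroup.coe_mul] at h
    exact h.2 (iff_of_false hbA hx₀.2)
  have hidx' : (A.map π).relIndex (centralizer ({π z} : Set (G ⧸ N))) = 2 := by
    rw [hcq]
    refine index_eq_two_iff.2 ⟨⟨π x₀, mem_map_of_mem _ hx₀.1⟩, fun y => ?_⟩
    obtain ⟨b, hb, e⟩ := y.2
    simp only [mem_subgroupOf, Subgroup.coe_mul, ← e, ← map_mul]
    by_cases hbA : b ∈ A
    · exact Or.inr ⟨mem_map_of_mem _ hbA, fun h => hx₀.2
        ((Subgroup.mul_mem_cancel_left A hbA).1 (hback _ (mul_mem hb hx₀.1) h))⟩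
    · exact Or.inl ⟨mem_map_of_mem _ (hidxC b hb hbA), fun h => hbA (hback b hb h)⟩
  have huniq' : ∀ a ∈ A.map π, orderOf a = 2 → a = π z := by
    rintro _ ⟨a, ha, rfl⟩ h2
    have hsq : a * a ∈ N := (QuotientGroup.eq_one_iff _).1
      (show π (a * a) = 1 by rw [map_mul, mul_self_of_two h2])
    obtain ⟨k, hk⟩ := hord _ hsq
    have hb : a ^ orderOf (a * a) * a ^ orderOf (a * a) = 1 := by
      rw [← (Commute.refl a).mul_pow, pow_orderOf_eq_one]
    have hπb : π (a ^ orderOf (a * a)) = π a := by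
      rw [map_pow, hk, pow_succ, pow_mul, pow_two, mul_self_of_two h2, one_pow, one_mul]
    rcases two_or_one hb with h | h
    · exfalso
      rw [h, map_one] at hπb
      rw [← hπb, orderOf_one] at h2
      omega
    · rw [← hπb, huniq _ (pow_mem ha _) h]
  have hle' : A.map π ≤ centralizer ({π z} : Set (G ⧸ N)) := hcq ▸ map_mono hle
  have hcomm' : ∀ a ∈ A.map π, ∀ b ∈ A.map π, a * b = b * a := by
    rintro _ ⟨a, ha, rfl⟩ _ ⟨b, hb, rfl⟩
    rw [← map_mul, hcomm a ha b hb, map_mul]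
  have hout' : ∀ x ∈ centralizer ({π z} : Set (G ⧸ N)), x ∉ A.map π → x * x = 1 := by
    rw [hcq]
    rintro _ ⟨x, hx, rfl⟩ hxA
    rw [← map_mul, hout x hx fun h => hxA (mem_map_of_mem _ h), map_one]
  have hns' : ¬ Group.IsSolvable (G ⧸ N) := fun h =>
    hns (solvable_ext N (Cfsg.Agent.PF.isSolvable_of_odd _ hNodd) h)
  have hO : NoOdd (G ⧸ N) := by
    intro M hM hodd
    haveI := hM
    have hcard : Odd (Nat.card (M.comap π)) := by
      rw [hπ, Cfsg.Lib.Coprime.card_comap_mk']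
      first
        | exact hodd.mul hNodd
        | exact hNodd.mul hodd
    have hle2 : M.comap π ≤ N := Cfsg.Lib.Components.le_pPrimeCore (Nat.coprime_two_right.2 hcard)
    refine eq_bot_iff.2 fun y hy => ?_
    obtain ⟨g, rfl⟩ := QuotientGroup.mk_surjective y
    exact mem_bot.2 ((QuotientGroup.eq_one_iff g).2 (hle2 hy))
  have key : PslPgl (G ⧸ N) := by
    by_cases hodd : Odd (centralizer ({π z} : Set (G ⧸ N))).index
    · exact Hyp.central ⟨hz2, mem_map_of_mem _ hzA, hle', hcomm', hidx', huniq', hout', hodd⟩ hO hns'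
    · obtain ⟨w, s, k, T, O⟩ := split hz2 (mem_map_of_mem _ hzA) hle' hcomm' hidx' huniq' hout' hodd hO hns'
      obtain ⟨B, K⟩ := O.exists_hyp hO hns'
      exact K.central hO hns'
  exact ⟨N, inferInstance, Or.inl hNodd, key⟩

theorem main (H A : Subgroup G) (hAH : A < H) (hD : ∀ x ∈ H, x ∉ A → x ^ 2 = 1) (h4 : 4 ∣ Nat.card H)
    (hC : ∀ j ∈ H, orderOf j = 2 → (∀ h ∈ H, h * j = j * h) → centralizer ({j} : Set G) = H)
    (hns : ¬ Group.IsSolvable G) : Concl G := by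
  classical
  haveI : Fact (Nat.Prime 2) := ⟨Nat.prime_two⟩
  obtain ⟨x₀, hx₀H, hx₀A⟩ := SetLike.exists_of_lt hAH
  have hout : ∀ x ∈ H, x ∉ A → x * x = 1 := fun x hx hxA => by rw [← pow_two]; exact hD x hx hxA
  have hinv : ∀ {x a : G}, x ∈ H → x ∉ A → a ∈ A → x * a * x⁻¹ = a⁻¹ := fun {x a} hx hxA ha => by
    have h := hout (x * a) (mul_mem hx (hAH.le ha)) fun h => hxA ((Subgroup.mul_mem_cancel_right A ha).1 h)
    rw [inv_eq_of_mul_eq_one_left (hout x hx hxA)]
    exact eq_inv_of_mul_eq_one_left (by rwa [← mul_assoc] at h)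
  have hcomm : ∀ a ∈ A, ∀ b ∈ A, a * b = b * a := fun a ha b hb => by
    have h := hinv hx₀H hx₀A (mul_mem ha hb)
    rw [← conj_mul, hinv hx₀H hx₀A ha, hinv hx₀H hx₀A hb] at h
    have h' := congrArg (·⁻¹) h
    simp only [_root_.mul_inv_rev, inv_inv] at h'
    exact h'.symm
  by_cases hexpA : ∀ a ∈ A, a * a = 1
  · have hexp : ∀ x ∈ H, x * x = 1 := fun x hx => if h : x ∈ A then hexpA x h else hout x hx h
    have hc : ∀ a ∈ H, ∀ b ∈ H, a * b = b * a := fun a ha b hb => by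
      have h := hexp _ (mul_mem ha hb)
      rw [← inv_eq_of_mul_eq_one_left h, _root_.mul_inv_rev, inv_eq_of_mul_eq_one_left (hexp a ha),
        inv_eq_of_mul_eq_one_left (hexp b hb)]
    exact elem_case H h4 hexp (fun j hj hj2 => hC j hj hj2 fun h hh => hc h hh j hj) hns
  push Not at hexpA
  obtain ⟨a₀, ha₀, ha₀2⟩ := hexpA
  have hmulA : ∀ x ∈ H, x ∉ A → ∀ y ∈ H, y ∉ A → x * y ∈ A := by
    intro x hx hxA y hy hyA
    by_contra hxy
    have h1 := hinv (mul_mem hx hy) hxy ha₀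
    have h2 : x * y * a₀ * (x * y)⁻¹ = a₀ := by
      rw [← conj_conj, hinv hy hyA ha₀, hinv hx hxA (inv_mem ha₀), inv_inv]
    rw [h2] at h1
    exact ha₀2 (mul_eq_one_iff_eq_inv.2 h1)
  have hidx : A.relIndex H = 2 := by
    refine index_eq_two_iff.2 ⟨⟨x₀, hx₀H⟩, fun b => ?_⟩
    simp only [mem_subgroupOf, Subgroup.coe_mul]
    by_cases hb : (b : G) ∈ A
    · exact Or.inr ⟨hb, fun h => hx₀A ((Subgroup.mul_mem_cancel_left _ hb).1 h)⟩
    · exact Or.inl ⟨hmulA _ b.2 hb _ hx₀H hx₀A, hb⟩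
  have hcentral : ∀ j ∈ A, orderOf j = 2 → ∀ h ∈ H, h * j = j * h := fun j hj hj2 h hh => by
    by_cases hA : h ∈ A
    · exact hcomm h hA j hj
    · have := hinv hh hA hj
      rw [inv_of_two hj2] at this
      exact mul_inv_eq_iff_eq_mul.1 this
  have hcent : ∀ j ∈ A, orderOf j = 2 → centralizer ({j} : Set G) = H := fun j hj hj2 =>
    hC j (hAH.le hj) hj2 (hcentral j hj hj2)
  have hA2 : 2 ∣ Nat.card A := by
    have hcard : Nat.card A * 2 = Nat.card H := by
      rw [← hidx, ← relIndex_bot_left A, ← relIndex_bot_left H, relIndex_mul_relIndex _ _ _ bot_le hAH.le]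
    omega
  obtain ⟨z', hz'⟩ := exists_prime_orderOf_dvd_card' 2 hA2
  set z : G := (z' : G) with hzdef
  have hzA : z ∈ A := z'.2
  have hz : orderOf z = 2 := by rw [hzdef, orderOf_coe, hz']
  by_cases huniq : ∀ a ∈ A, orderOf a = 2 → a = z
  · have hCz := hcent z hzA hz
    exact unique_case hz hzA (hCz ▸ hAH.le) hcomm (hCz ▸ hidx) huniq (hCz ▸ hout) hns
  push Not at huniq
  obtain ⟨e₂, he₂A, he₂, hne⟩ := huniq
  have D : Multi H A z e₂ a₀ :=
    ⟨hAH.le, hcomm, hidx, hout, hcent, ⟨hzA, hz⟩, ⟨he₂A, he₂⟩, fun e => hne e.symm, ⟨ha₀, ha₀2⟩⟩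
  obtain ⟨N, hN, hcard, F, i1, i2, hF, he⟩ := D.main hns
  exact ⟨N, hN, hcard, F, i1, i2, hF, Or.inl he⟩

end Cfsg.Lib.GenDihedral
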