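import Cfsg.Agent.GenDihedral.Red.Unip
import Cfsg.Agent.GenDihedral.Red.Central
import Cfsg.Agent.S2202
import Cfsg.Agent.InvolCalc.ZStarApps
import Cfsg.Agent.Classical.Misc.SLTwoTori
import Cfsg.Agent.Known.Laws

/-!
The case of several involutions in the abelian subgroup.
-/

set_option autoImplicit false
set_option linter.unusedSectionVars false
set_option linter.style.haveILetI false

namespace Cfsg.Lib.GenDihedral

open Subgroup

universe u

variable {G : Type u} [Group G] [Finite G]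

/-- An abelian subgroup of index two with several involutions, each with the same centraliser. -/
structure Multi (H A : Subgroup G) (e₁ e₂ a₀ : G) : Prop where
  le : A ≤ H
  comm : ∀ a ∈ A, ∀ b ∈ A, a * b = b * a
  idx : A.relIndex H = 2
  out : ∀ x ∈ H, x ∉ A → x * x = 1
  cent : ∀ j ∈ A, orderOf j = 2 → centralizer ({j} : Set G) = H
  he₁ : e₁ ∈ A ∧ orderOf e₁ = 2
  he₂ : e₂ ∈ A ∧ orderOf e₂ = 2
  hne : e₁ ≠ e₂
  ha₀ : a₀ ∈ A ∧ a₀ * a₀ ≠ 1

namespace Multi

variable {H A : Subgroup G} {e₁ e₂ a₀ : G} (D : Multi H A e₁ e₂ a₀)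
include D

theorem mul_mem_A {x y : G} (hx : x ∈ H) (hy : y ∈ H) (hxA : x ∉ A) (hyA : y ∉ A) : x * y ∈ A := by
  have h := Subgroup.mul_mem_iff_of_index_two (H := A.subgroupOf H) D.idx (a := ⟨x, hx⟩) (b := ⟨y, hy⟩)
  simp only [mem_subgroupOf, Subgroup.coe_mul] at h
  exact h.2 (iff_of_false hxA hyA)

theorem inverts {x a : G} (hx : x ∈ H) (hxA : x ∉ A) (ha : a ∈ A) : x * a * x⁻¹ = a⁻¹ := by
  have h := D.out (x * a) (mul_mem hx (D.le ha)) fun h => hxA ((Subgroup.mul_mem_cancel_right A ha).1 h)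
  rw [inv_eq_of_mul_eq_one_left (D.out x hx hxA)]
  exact eq_inv_of_mul_eq_one_left (by rwa [← mul_assoc] at h)

/-- Involutions of `A` are central in `H`. -/
theorem central {h j : G} (hh : h ∈ H) (hj : j ∈ A) (hj2 : orderOf j = 2) : h * j = j * h := by
  have := (D.cent j hj hj2).ge hh
  exact mem_cent.1 this

/-- Of two involutions of `A` and their product one is sent into `A`. -/
theorem exists_into (g : G) (h₁ : g * e₁ * g⁻¹ ∈ H) (h₂ : g * e₂ * g⁻¹ ∈ H) :
    ∃ e ∈ A, orderOf e = 2 ∧ g * e * g⁻¹ ∈ A := by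
  by_cases k1 : g * e₁ * g⁻¹ ∈ A
  · exact ⟨e₁, D.he₁.1, D.he₁.2, k1⟩
  by_cases k2 : g * e₂ * g⁻¹ ∈ A
  · exact ⟨e₂, D.he₂.1, D.he₂.2, k2⟩
  refine ⟨e₁ * e₂, mul_mem D.he₁.1 D.he₂.1, ?_, by rw [← conj_mul]; exact D.mul_mem_A h₁ h₂ k1 k2⟩
  exact (isFour_of_comm D.he₁.2 D.he₂.2 (D.comm _ D.he₁.1 _ D.he₂.1) D.hne).s2

theorem exists_sylow : ∃ T : Sylow 2 G, (T : Subgroup G) ≤ H := by
  haveI : Fact (Nat.Prime 2) := ⟨Nat.prime_two⟩
  obtain ⟨R₀⟩ : Nonempty (Sylow 2 H) := inferInstance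
  set R := (R₀ : Subgroup H).map H.subtype with hR
  have hRp : IsPGroup 2 R := R₀.2.map _
  have hRH : R ≤ H := map_subtype_le _
  have hRinv : ∀ j ∈ A, orderOf j = 2 → j ∈ R := by
    intro j hj hj2
    have hjH : j ∈ H := D.le hj
    haveI : (zpowers (⟨j, hjH⟩ : H)).Normal := ⟨fun x hx h => by
      obtain ⟨i, rfl⟩ := mem_zpowers_iff.1 hx
      have hc : Commute h (⟨j, hjH⟩ : H) := Subtype.ext (D.central h.2 hj hj2)
      rw [(hc.zpow_right i).eq, mul_inv_cancel_right]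
      exact Subgroup.zpow_mem_zpowers _ i⟩
    have := normal_two_le_sylow (M := zpowers (⟨j, hjH⟩ : H))
      (IsPGroup.of_card (n := 1) (by rw [Nat.card_zpowers, Subgroup.orderOf_mk, hj2, pow_one])) R₀ (mem_zpowers _)
    exact ⟨_, this, rfl⟩
  have hRmax : ∀ P : Subgroup G, IsPGroup 2 P → P ≤ H → R ≤ P → P = R := by
    intro P hP hPC hRP
    have h := R₀.3 (hP.of_equiv (subgroupOfEquivOfLe hPC).symm) fun x hx => mem_subgroupOf.2 (hRP ⟨x, hx, rfl⟩)
    rw [hR, ← h, map_subgroupOf_eq_of_le hPC]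
  obtain ⟨T, hRT⟩ := hRp.exists_le_sylow
  refine ⟨T, ?_⟩
  by_contra hTH
  have hTR : (T : Subgroup G) ⊓ H = R := hRmax _ (T.2.to_le inf_le_left) inf_le_right (le_inf hRT hRH)
  haveI : Group.IsNilpotent (T : Subgroup G) := T.2.isNilpotent
  obtain ⟨n, hnT, hnR, hn⟩ : ∃ n ∈ (T : Subgroup G), n ∉ R ∧ ∀ x ∈ R, n * x * n⁻¹ ∈ R := by
    have hlt : R.subgroupOf T < normalizer (R.subgroupOf T : Set (T : Subgroup G)) :=
      Group.normalizerCondition_of_isNilpotent _ (lt_of_le_of_ne le_top fun e => hTH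
        ((subgroupOf_eq_top.1 e).trans hRH))
    obtain ⟨m, hm, hm'⟩ := SetLike.exists_of_lt hlt
    refine ⟨m, m.2, fun h => hm' (mem_subgroupOf.2 h), fun x hx => ?_⟩
    exact mem_subgroupOf.1 ((mem_normalizer_iff.1 hm ⟨x, hRT hx⟩).1 (mem_subgroupOf.2 hx))
  -- replace it by an element whose square lies in `R`
  have hpow : ∀ (m : ℕ) (n : G), n ∈ (T : Subgroup G) → n ∉ R → (∀ x ∈ R, n * x * n⁻¹ ∈ R) → n ^ 2 ^ m = 1 →
      ∃ n' ∈ (T : Subgroup G), n' ∉ R ∧ (∀ x ∈ R, n' * x * n'⁻¹ ∈ R) ∧ n' * n' ∈ R := by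
    intro m
    induction m with
    | zero => intro n _ hnR _ h; rw [pow_zero, pow_one] at h; exact absurd (h ▸ one_mem R) hnR
    | succ m ih =>
      intro n hnT hnR hn h
      by_cases hsq : n * n ∈ R
      · exact ⟨n, hnT, hnR, hn, hsq⟩
      · refine ih (n * n) (mul_mem hnT hnT) hsq (fun x hx => ?_) (by rw [← pow_two, ← pow_mul, ← pow_succ']; exact h)
        rw [← conj_conj]; exact hn _ (hn x hx)
  obtain ⟨j, hj⟩ := IsPGroup.iff_orderOf.1 T.2 ⟨n, hnT⟩
  rw [Subgroup.orderOf_mk] at hj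
  obtain ⟨n', hn'T, hn'R, hn', hsq⟩ := hpow j n hnT hnR hn (by rw [← hj, pow_orderOf_eq_one])
  have hn'H : n' ∉ H := fun h => hn'R (hTR ▸ ⟨hn'T, h⟩)
  obtain ⟨e, he, he2, hf⟩ := D.exists_into n' (hRH (hn' _ (hRinv _ D.he₁.1 D.he₁.2)))
    (hRH (hn' _ (hRinv _ D.he₂.1 D.he₂.2)))
  have hf2 : orderOf (n' * e * n'⁻¹) = 2 := by rw [← MulAut.conj_apply, MulEquiv.orderOf_eq, he2]
  have hfix : ∀ j ∈ A, orderOf j = 2 → n' * j * n'⁻¹ ≠ j := fun j hj hj2 h =>
    hn'H ((D.cent j hj hj2).le (mem_cent.2 (mul_inv_eq_iff_eq_mul.1 h)))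
  have hback : n' * (n' * e * n'⁻¹) * n'⁻¹ = e := by
    rw [conj_conj]; exact mul_inv_eq_iff_eq_mul.2 (D.central (hRH hsq) he he2)
  set f := n' * e * n'⁻¹ with hfdef
  by_cases hef : e = f
  · exact hfix e he he2 (hfdef ▸ hef.symm)
  have hef2 : orderOf (e * f) = 2 := (isFour_of_comm he2 hf2 (D.comm _ he _ hf) hef).s2
  refine hfix (e * f) (mul_mem he hf) hef2 ?_
  rw [← conj_mul, ← hfdef, hback, D.comm _ hf _ he]

theorem no_fusion {x g : G} (hx : x ∈ H) (hxA : x ∉ A) (hg : g * x * g⁻¹ ∈ A) : False := by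
  have hx1 : x ≠ 1 := fun e => hxA (by rw [e]; exact one_mem A)
  have hx2 : orderOf x = 2 := orderOf_eq_prime (by rw [pow_two]; exact D.out x hx hxA) hx1
  have hgx : orderOf (g * x * g⁻¹) = 2 := by rw [← MulAut.conj_apply, MulEquiv.orderOf_eq, hx2]
  have hmem : ∀ y, y * x = x * y → g * y * g⁻¹ ∈ H := fun y hy =>
    (D.cent _ hg hgx).le (mem_cent.2 (by rw [conj_mul, conj_mul, hy]))
  have hc : ∀ j ∈ A, orderOf j = 2 → j * x = x * j := fun j hj hj2 => (D.central hx hj hj2).symm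
  obtain ⟨e, he, he2, hge⟩ := D.exists_into g (hmem _ (hc _ D.he₁.1 D.he₁.2)) (hmem _ (hc _ D.he₂.1 D.he₂.2))
  have hge2 : orderOf (g * e * g⁻¹) = 2 := by rw [← MulAut.conj_apply, MulEquiv.orderOf_eq, he2]
  -- the centraliser of `x` is that of `e`
  have hxc : a₀ * x = x * a₀ := by
    have h1 : a₀ * e = e * a₀ := D.comm _ D.ha₀.1 _ he
    have h2 : g * a₀ * g⁻¹ ∈ centralizer ({g * e * g⁻¹} : Set G) := mem_cent.2 (by rw [conj_mul, conj_mul, h1])
    rw [D.cent _ hge hge2, ← D.cent _ hg hgx, mem_cent, conj_mul, conj_mul] at h2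
    exact mul_left_cancel (mul_right_cancel h2)
  have h := D.inverts hx hxA D.ha₀.1
  rw [← hxc, mul_inv_cancel_right] at h
  exact D.ha₀.2 (mul_eq_one_iff_eq_inv.2 h)

theorem main (hns : ¬ Group.IsSolvable G) :
    ∃ (N : Subgroup G) (_ : N.Normal), (Odd (Nat.card N) ∨ ∃ m : ℕ, Odd m ∧ Nat.card N = 2 * m) ∧
      ∃ (F : Type) (_ : Field F) (_ : Fintype F), 3 < Fintype.card F ∧
        Nonempty (G ⧸ N ≃* Matrix.ProjectiveSpecialLinearGroup (Fin 2) F) := by
  classical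
  haveI : Fact (Nat.Prime 2) := ⟨Nat.prime_two⟩
  obtain ⟨T, hT⟩ := D.exists_sylow
  set K : Subgroup G := ⨅ M : {M : Subgroup G // M.index = 2}, (M : Subgroup G) with hK
  have hmemK : ∀ {x : G}, x ∈ K ↔ ∀ M : Subgroup G, M.index = 2 → x ∈ M := fun {x} => by
    rw [hK, Subgroup.mem_iInf]
    exact ⟨fun h M hM => h ⟨M, hM⟩, fun h M => h M.1 M.2⟩
  haveI hKn : K.Normal := ⟨fun x hx g => hmemK.2 fun M hM =>
    (normal_of_index_eq_two hM).conj_mem x (hmemK.1 hx M hM) g⟩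
  have hsqK : ∀ g : G, g * g ∈ K := fun g => hmemK.2 fun M hM => Subgroup.mul_self_mem_of_index_two hM g
  have hQp : IsPGroup 2 (G ⧸ K) := fun q => ⟨1, by
    induction q using QuotientGroup.induction_on with
    | _ a => rw [pow_one, pow_two, ← QuotientGroup.mk_mul, QuotientGroup.eq_one_iff]; exact hsqK a⟩
  have hKs : ¬ Group.IsSolvable K := fun h => hns (by
    haveI := hQp.isNilpotent
    exact solvable_ext K h inferInstance)
  -- outside involutions leave `K`
  have houtK : ∀ x ∈ H, x ∈ K → x ∈ A := by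
    intro x hx hxK
    by_contra hxA
    have hxx := D.out x hx hxA
    obtain ⟨c, hc, hcT⟩ := Cfsg.Lib.ZStarApps.exists_conj_mem_sylow T hT (V := zpowers x)
      (IsPGroup.of_card (n := 1) (by
        rw [Nat.card_zpowers, orderOf_eq_prime (p := 2) (by rw [pow_two]; exact hxx) (fun e => hxA (by rw [e]; exact one_mem A)),
          pow_one])) (zpowers_le.2 hx)
    set y := c * x * c⁻¹ with hy
    have hyT : y ∈ (T : Subgroup G) := hcT x (mem_zpowers x)
    have hyA : y ∉ A := fun h => D.no_fusion hx hxA h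
    have hrel : ((T : Subgroup G) ⊓ A).relIndex (T : Subgroup G) = 2 := by
      refine index_eq_two_iff.2 ⟨⟨y, hyT⟩, fun b => ?_⟩
      simp only [mem_subgroupOf, Subgroup.coe_mul]
      by_cases hb : (b : G) ∈ A
      · exact Or.inr ⟨⟨b.2, hb⟩, fun h' => hyA ((Subgroup.mul_mem_cancel_left _ hb).1 h'.2)⟩
      · exact Or.inl ⟨⟨mul_mem b.2 hyT, D.mul_mem_A (hT b.2) (hT hyT) hb hyA⟩, fun h' => hb h'.2⟩
    obtain ⟨M, hM, hM2, hxM⟩ := Cfsg.Lib.Transfer.exists_index_two_not_mem ((T : Subgroup G) ⊓ A)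
      (Nat.not_even_iff_odd.1 fun h => T.not_dvd_index h.two_dvd)
      (show ((T : Subgroup G) ⊓ A).index = 2 * (T : Subgroup G).index by
        rw [← relIndex_mul_index (inf_le_left : (T : Subgroup G) ⊓ A ≤ T), hrel])
      (orderOf_eq_prime (p := 2) (by rw [pow_two]; exact hxx) fun e => hxA (by rw [e]; exact one_mem A)) fun g hg => by
        exact D.no_fusion hx hxA (g := g⁻¹) (by rw [inv_inv]; exact hg.2)
    exact hxM (hmemK.1 hxK M hM2)
  -- abelian centralisers in `K`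
  have hab : ∀ t : K, orderOf t = 2 → IsMulCommutative (centralizer ({t} : Set K)) := by
    intro t ht
    obtain ⟨c, -, hcT⟩ := Cfsg.Lib.ZStarApps.exists_conj_mem_sylow T (le_top : (T : Subgroup G) ≤ ⊤)
      (V := zpowers (t : G)) (IsPGroup.of_card (n := 1) (by rw [Nat.card_zpowers, orderOf_coe, ht, pow_one])) le_top
    set j := c * (t : G) * c⁻¹ with hj
    have hjA : j ∈ A := houtK j (hT (hcT _ (mem_zpowers _))) (hKn.conj_mem _ t.2 c)
    have hj2 : orderOf j = 2 := by rw [hj, ← MulAut.conj_apply, MulEquiv.orderOf_eq, orderOf_coe, ht]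
    have key : ∀ a : centralizer ({t} : Set K), c * ((a : K) : G) * c⁻¹ ∈ A := fun a =>
      houtK _ ((D.cent j hjA hj2).le (mem_cent.2 (by
        rw [hj, conj_mul, conj_mul, ← Subgroup.coe_mul, mem_cent.1 a.2, Subgroup.coe_mul])))
        (hKn.conj_mem _ (a : K).2 c)
    refine ⟨⟨fun a b => Subtype.ext (Subtype.ext ?_)⟩⟩
    have h := D.comm _ (key a) _ (key b)
    rw [conj_mul, conj_mul] at h
    exact mul_left_cancel (mul_right_cancel h)
  have heven : Even (Nat.card K) := by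
    refine Nat.not_odd_iff_even.1 fun h => hKs (solvable_of_odd h)
  rcases Cfsg.Agent.S2202.result heven hab with hcyc | hnor | ⟨F, i1, i2, B, i3, i4, hch, hBodd, ⟨e⟩⟩
  · obtain ⟨P⟩ := (inferInstance : Nonempty (Sylow 2 K))
    exact absurd (Cfsg.Lib.CyclicInter.solvable_of_cyclic P (hcyc P)) hKs
  · obtain ⟨P⟩ := (inferInstance : Nonempty (Sylow 2 K))
    haveI := hnor P
    refine absurd (solvable_ext (P : Subgroup K) (solvable_of_two P.2) ?_) hKs
    refine Cfsg.Agent.PF.isSolvable_of_odd _ (Nat.not_even_iff_odd.1 fun hev => ?_)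
    rw [← index_eq_card] at hev
    exact P.not_dvd_index hev.two_dvd
  haveI := hch
  have h4 : 4 ≤ Fintype.card F := by
    by_contra hlt
    refine hKs ?_
    haveI : Group.IsSolvable (Matrix.SpecialLinearGroup (Fin 2) F) := by
      refine solvable_small ?_
      rw [Cfsg.Lib.Classical.SLTwoTori.card_SL2]
      have : Fintype.card F ≤ 3 := by omega
      calc Fintype.card F * (Fintype.card F ^ 2 - 1) ≤ 3 * (3 ^ 2 - 1) :=
            Nat.mul_le_mul this (Nat.sub_le_sub_right (Nat.pow_le_pow_left this 2) 1)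
        _ < 60 := by norm_num
    exact Group.isSolvable_of_isSolvable_injective (f := e.toMonoidHom) e.injective
  set L : Subgroup G := (commutator K).map K.subtype with hL
  haveI hLn : L.Normal := inferInstance
  have hLK : L ≤ K := map_subtype_le _
  have hLc : ∀ (x : G) (hx : x ∈ L), (e ⟨x, hLK hx⟩).2 = 1 := fun x hx => by
    obtain ⟨y, hy, rfl⟩ := hx
    exact MonoidHom.mem_ker.1
      (Abelianization.commutator_subset_ker ((MonoidHom.snd _ B).comp e.toMonoidHom) hy)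
  let f : L →* Matrix.SpecialLinearGroup (Fin 2) F :=
    (MonoidHom.fst _ B).comp (e.toMonoidHom.comp (Subgroup.inclusion hLK))
  have hf : Function.Bijective f := by
    refine ⟨fun a b h => ?_, fun m => ?_⟩
    · have h2 : e ⟨a, hLK a.2⟩ = e ⟨b, hLK b.2⟩ := Prod.ext h (by rw [hLc _ a.2, hLc _ b.2])
      exact Subtype.ext (Subtype.mk.inj (e.injective h2))
    · have hm : m ∈ (commutator K).map ((MonoidHom.fst _ B).comp e.toMonoidHom) := by
        rw [show (commutator K).map ((MonoidHom.fst _ B).comp e.toMonoidHom) = commutator _ by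
          rw [_root_.commutator_def, map_commutator, map_top_of_surjective, _root_.commutator_def]
          exact Prod.fst_surjective.comp e.surjective, Cfsg.Lib.Known.sl2_commutator_eq_top F h4]
        exact mem_top m
      obtain ⟨y, hy, rfl⟩ := hm
      exact ⟨⟨y, ⟨y, hy, rfl⟩⟩, rfl⟩
  let φ : L ≃* Matrix.SpecialLinearGroup (Fin 2) F := MulEquiv.ofBijective f hf
  set N := centralizer (L : Set G) with hN
  have hLs : ¬ Group.IsSolvable L := fun h => by
    refine hns ?_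
    exfalso
    haveI := h
    haveI : Group.IsSolvable (Matrix.SpecialLinearGroup (Fin 2) F) :=
      Group.isSolvable_of_surjective (f := φ.toMonoidHom) φ.surjective
    exact hKs (Group.isSolvable_of_isSolvable_injective (f := e.toMonoidHom) e.injective)
  have hHs : Group.IsSolvable H := solvable_of_idx_two D.comm D.idx
  -- the centraliser is small
  have hcardN : Odd (Nat.card N) ∨ ∃ m : ℕ, Odd m ∧ Nat.card N = 2 * m := by
    obtain ⟨a, m, ha, hm, hcard⟩ := card_inf_sylow T N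
    have hA1 : ∀ x ∈ (T : Subgroup G) ⊓ N, x ∈ A → x = 1 := fun x hx hxA => by
      by_contra h1
      obtain ⟨i, hi⟩ := two_elt T.2 hx.1 h1
      refine hLs (solvable_of_le ?_ hHs)
      rw [← D.cent _ (pow_mem hxA _) hi]
      exact fun l hl => mem_cent.2 (mem_centralizer_iff.1 (pow_mem hx.2 _ : x ^ 2 ^ i ∈ N) l hl)
    have hle : Nat.card ((T : Subgroup G) ⊓ N : Subgroup G) ≤ 2 := by
      rw [show Nat.card ((T : Subgroup G) ⊓ N : Subgroup G) = _ from Nat.card_coe_set_eq _]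
      by_cases h : ∃ x ∈ (T : Subgroup G) ⊓ N, x ∉ A
      · obtain ⟨x₀, hx₀, hx₀A⟩ := h
        refine (Set.ncard_le_ncard (t := {1, x₀⁻¹}) fun y hy => ?_).trans
          ((Set.ncard_insert_le _ _).trans (by rw [Set.ncard_singleton]))
        by_cases hyA : y ∈ A
        · simp [hA1 y hy hyA]
        · right
          exact eq_inv_of_mul_eq_one_right (hA1 _ (mul_mem hx₀ hy) (D.mul_mem_A (hT hx₀.1) (hT hy.1) hx₀A hyA))
      · push Not at h
        refine (Set.ncard_le_ncard (t := {1}) fun y hy => ?_).trans (by rw [Set.ncard_singleton]; norm_num)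
        simp [hA1 y hy (h y hy)]
    rw [ha] at hle
    rcases a with _ | _ | a
    · exact Or.inl (by rw [hcard]; simpa using hm)
    · exact Or.inr ⟨m, hm, by rw [hcard]; simp⟩
    · have := Nat.one_le_two_pow (n := a)
      rw [pow_succ, pow_succ] at hle
      omega
  -- `G` is the product
  have hfac : ∀ g : G, ∃ l ∈ L, l⁻¹ * g ∈ N := by
    have hmul : ∀ g h : G, (∃ l ∈ L, l⁻¹ * g ∈ N) → (∃ l ∈ L, l⁻¹ * h ∈ N) → ∃ l ∈ L, l⁻¹ * (g * h) ∈ N := by
      rintro g h ⟨l, hl, hg⟩ ⟨l', hl', hh⟩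
      refine ⟨l * l', mul_mem hl hl', ?_⟩
      have e : (l * l')⁻¹ * (g * h) = (l⁻¹ * g) * (l'⁻¹ * h) := by
        have hcm : l'⁻¹ * (l⁻¹ * g) = (l⁻¹ * g) * l'⁻¹ := mem_centralizer_iff.1 hg _ (inv_mem hl')
        rw [_root_.mul_inv_rev, show l'⁻¹ * l⁻¹ * (g * h) = l'⁻¹ * (l⁻¹ * g) * h by group, hcm, mul_assoc]
      rw [e]; exact mul_mem hg hh
    have hKfac : ∀ g ∈ K, ∃ l ∈ L, l⁻¹ * g ∈ N := fun g hg => by
      obtain ⟨l, hl⟩ := hf.2 (e ⟨g, hg⟩).1
      refine ⟨l, l.2, mem_centralizer_iff.2 fun x hx => ?_⟩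
      have h1 : e (⟨(l : G), hLK l.2⟩⁻¹ * ⟨g, hg⟩) * e ⟨x, hLK hx⟩ = e ⟨x, hLK hx⟩ * e (⟨(l : G), hLK l.2⟩⁻¹ * ⟨g, hg⟩) := by
        rw [map_mul, map_inv]
        refine Prod.ext ?_ ?_
        · show ((e ⟨l, hLK l.2⟩).1)⁻¹ * (e ⟨g, hg⟩).1 * (e ⟨x, hLK hx⟩).1 =
            (e ⟨x, hLK hx⟩).1 * (((e ⟨l, hLK l.2⟩).1)⁻¹ * (e ⟨g, hg⟩).1)
          rw [show (e ⟨l, hLK l.2⟩).1 = (e ⟨g, hg⟩).1 from hl, inv_mul_cancel, one_mul, mul_one]
        · exact mul_comm _ _
      rw [← map_mul, ← map_mul] at h1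
      exact (congrArg Subtype.val (e.injective h1)).symm
    have hTfac : ∀ t ∈ (T : Subgroup G), ∃ l ∈ L, l⁻¹ * t ∈ N := fun t ht => by
      obtain ⟨P, hP⟩ := Cfsg.Lib.Transfer.exists_sylow_subgroupOf T L
      let P' : Sylow 2 (Matrix.SpecialLinearGroup (Fin 2) F) := P.mapSurjective (f := φ.toMonoidHom) φ.surjective
      obtain ⟨m, hm⟩ := inner_of_fix_sylow (MulAut.congr φ (MulAut.conjNormal t)) P' (fun x hx => by
        have hx2 := sylow_sq P' hx
        replace hx : x ∈ (P : Subgroup L).map φ.toMonoidHom := hx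
        obtain ⟨y, hy, rfl⟩ := hx
        show φ (MulAut.conjNormal t (φ.symm (φ y))) = φ y
        rw [φ.symm_apply_apply]
        refine congrArg φ (Subtype.ext ?_)
        rw [MulAut.conjNormal_apply]
        rw [hP, SetLike.mem_coe, mem_subgroupOf] at hy
        by_cases hy1 : (y : G) = 1
        · rw [hy1, mul_one, mul_inv_cancel]
        refine mul_inv_eq_iff_eq_mul.2 (D.central (hT ht) (houtK _ (hT hy) (hLK y.2)) (orderOf_eq_prime ?_ hy1))
        rw [MulEquiv.coe_toMonoidHom, ← map_mul] at hx2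
        have h1 : y * y = 1 := φ.injective (hx2.trans (map_one φ).symm)
        rw [pow_two, ← Subgroup.coe_mul, h1, OneMemClass.coe_one])
      refine ⟨(φ.symm m : L), (φ.symm m).2, mem_centralizer_iff.2 fun x hx => ?_⟩
      have h1 := MulEquiv.ext_iff.1 hm (φ ⟨x, hx⟩)
      change φ (MulAut.conjNormal t (φ.symm (φ ⟨x, hx⟩))) = m * φ ⟨x, hx⟩ * m⁻¹ at h1
      rw [φ.symm_apply_apply] at h1
      have h2 := congrArg (fun y => ((φ.symm y : L) : G)) h1
      simp only [φ.symm_apply_apply, map_mul, map_inv, Subgroup.coe_mul, Subgroup.coe_inv,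
        MulAut.conjNormal_apply] at h2
      calc x * (((φ.symm m : L) : G)⁻¹ * t)
          = ((φ.symm m : L) : G)⁻¹ * (((φ.symm m : L) : G) * x * ((φ.symm m : L) : G)⁻¹) * t := by group
        _ = ((φ.symm m : L) : G)⁻¹ * (t * x * t⁻¹) * t := by rw [h2]
        _ = ((φ.symm m : L) : G)⁻¹ * t * x := by group
    intro g
    have htop : K ⊔ (T : Subgroup G) = ⊤ := by
      obtain ⟨a, ha⟩ := IsPGroup.iff_card.1 hQp
      rw [← index_eq_one]
      refine Nat.eq_one_of_dvd_coprimes (Nat.Coprime.pow_left a ((Nat.prime_two.coprime_iff_not_dvd).2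
        T.not_dvd_index)) ?_ (index_dvd_of_le le_sup_right)
      rw [← ha, ← index_eq_card]
      exact index_dvd_of_le le_sup_left
    obtain ⟨x, hx, t, ht, rfl⟩ := Subgroup.mem_sup_of_normal_left.1 (htop ▸ mem_top g)
    exact hmul _ _ (hKfac x hx) (hTfac t ht)
  let q : L →* G ⧸ N := (QuotientGroup.mk' N).comp L.subtype
  have hq : Function.Bijective q := by
    refine ⟨fun a b h => ?_, fun y => ?_⟩
    · have h1 : a⁻¹ * b ∈ Subgroup.center L := Subgroup.mem_center_iff.2 fun x => Subtype.ext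
        (mem_centralizer_iff.1 (QuotientGroup.eq.1 h : ((a : G)⁻¹ * b) ∈ N) x x.2)
      have h2 : φ (a⁻¹ * b) ∈ Subgroup.center (Matrix.SpecialLinearGroup (Fin 2) F) :=
        Subgroup.mem_center_iff.2 fun y => by
          obtain ⟨x, rfl⟩ := φ.surjective y
          rw [← map_mul, ← map_mul, Subgroup.mem_center_iff.1 h1 x]
      rw [center_sl_two, mem_bot, ← map_one φ] at h2
      exact inv_mul_eq_one.1 (φ.injective h2)
    · obtain ⟨g, rfl⟩ := QuotientGroup.mk_surjective y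
      obtain ⟨l, hl, hg⟩ := hfac g
      exact ⟨⟨l, hl⟩, QuotientGroup.eq.2 hg⟩
  exact ⟨N, inferInstance, hcardN, F, i1, i2, by omega,
    ⟨((MulEquiv.ofBijective q hq).symm.trans φ).trans slEquiv⟩⟩

end Multi

end Cfsg.Lib.GenDihedral
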