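import Cfsg.Agent.GenDihedral.Red.Central
import Cfsg.Agent.InvolCalc.Dihedral
import Cfsg.Agent.Transfer.ThompsonTransfer
import Cfsg.Agent.S0514

/-!
Groups with dihedral Sylow 2-subgroup and an involution outside the centre with solvable centraliser.
-/

set_option autoImplicit false
set_option linter.unusedSectionVars false
set_option linter.style.haveILetI false

namespace Cfsg.Lib.GenDihedral

open Subgroup

universe u

variable {G : Type u} [Group G] [Finite G]

/-- In a cyclic 2-group there is one involution. -/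
theorem sq_one_cases {s x : G} {k : ℕ} (hk : 1 ≤ k) (hs : orderOf s = 2 ^ k) (hx : x ∈ zpowers s) (h : x * x = 1) :
    x = 1 ∨ x = s ^ 2 ^ (k - 1) := by
  obtain ⟨i, rfl⟩ := mem_zpowers_iff.1 hx
  rw [← _root_.zpow_add] at h
  have hd : ((2 : ℤ) ^ k) ∣ i + i := by
    have := orderOf_dvd_iff_zpow_eq_one.2 h
    rw [hs] at this
    exact_mod_cast this
  obtain ⟨j, hj⟩ : ((2 : ℤ) ^ (k - 1)) ∣ i := by
    rw [show k = (k - 1) + 1 by omega, pow_succ, show i + i = i * 2 by ring] at hd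
    exact Int.dvd_of_mul_dvd_mul_right two_ne_zero hd
  have hw : (s ^ 2 ^ (k - 1)) ^ 2 = 1 := by
    rw [← pow_mul, ← pow_succ, show k - 1 + 1 = k by omega, ← hs, pow_orderOf_eq_one]
  have e : s ^ i = (s ^ 2 ^ (k - 1)) ^ j := by
    rw [hj, zpow_mul, ← zpow_natCast]; push_cast; rfl
  rcases Int.even_or_odd' j with ⟨m, rfl | rfl⟩
  · left; rw [e, zpow_mul, zpow_two, ← pow_two, hw, one_zpow]
  · right; rw [e, _root_.zpow_add, zpow_mul, zpow_two, ← pow_two, hw, one_zpow, one_mul, zpow_one]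

/-- The setting: `T` dihedral, `z` a reflection, `w` the central involution. -/
structure Out (z w s : G) (k : ℕ) (T : Sylow 2 G) : Prop where
  z2 : orderOf z = 2
  zT : z ∈ (T : Subgroup G)
  sT : s ∈ (T : Subgroup G)
  hk : 2 ≤ k
  os : orderOf s = 2 ^ k
  hw : s ^ 2 ^ (k - 1) = w
  cov : ∀ x ∈ (T : Subgroup G), x ∈ zpowers s ∨ x * z ∈ zpowers s
  notin : z ∉ zpowers s
  dih : z * s * z⁻¹ = s⁻¹
  cz : ∀ x : G, x * z = z * x → x * w = w * x → Odd (orderOf x) → x = 1
  solv : Group.IsSolvable (centralizer ({z} : Set G))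
  fus : ∀ g : G, g * z * g⁻¹ ≠ w

namespace Out

variable {z w s : G} {k : ℕ} {T : Sylow 2 G} (O : Out z w s k T)
include O

theorem w2 : orderOf w = 2 := by
  rw [← O.hw, orderOf_pow' s (pow_ne_zero _ two_ne_zero), O.os]
  have hk := O.hk
  rw [show 2 ^ k = 2 ^ (k - 1) * 2 by rw [← pow_succ, show k - 1 + 1 = k by omega],
    Nat.gcd_eq_right (Dvd.intro _ rfl), Nat.mul_div_cancel_left _ (Nat.two_pow_pos _)]

theorem w_mem : w ∈ zpowers s := O.hw ▸ npow_mem_zpowers s _

theorem wT : w ∈ (T : Subgroup G) := zpowers_le.2 O.sT O.w_mem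

theorem zpow_mem (i : ℤ) : s ^ i ∈ (T : Subgroup G) := Subgroup.zpow_mem _ O.sT i

theorem refl_mem (i : ℤ) : s ^ i * z ∈ (T : Subgroup G) := mul_mem (O.zpow_mem i) O.zT

theorem zconj (i : ℤ) : z * s ^ i * z⁻¹ = s ^ (-i) := by
  rw [← MulAut.conj_apply, map_zpow, MulAut.conj_apply, O.dih, inv_zpow, _root_.zpow_neg]

theorem zs (i : ℤ) : z * s ^ i = s ^ (-i) * z := mul_inv_eq_iff_eq_mul.1 (O.zconj i)

theorem refl_sq (i : ℤ) : s ^ i * z * (s ^ i * z) = 1 := by
  rw [mul_assoc, ← mul_assoc z, O.zs, mul_assoc (s ^ (-i)), mul_self_of_two O.z2, mul_one, ← _root_.zpow_add,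
    add_neg_cancel, zpow_zero]

theorem refl_notin (i : ℤ) : s ^ i * z ∉ zpowers s := fun h =>
  O.notin ((Subgroup.mul_mem_cancel_left _ (Subgroup.zpow_mem_zpowers s i)).1 h)

theorem refl_two (i : ℤ) : orderOf (s ^ i * z) = 2 :=
  orderOf_eq_prime (by rw [pow_two]; exact O.refl_sq i) fun e => O.refl_notin i (e ▸ one_mem _)

theorem refl_conj (i j : ℤ) : s ^ j * (s ^ i * z) * (s ^ j)⁻¹ = s ^ (i + 2 * j) * z := by
  rw [← _root_.zpow_neg, mul_assoc (s ^ j), mul_assoc (s ^ i), O.zs, neg_neg, ← mul_assoc, ← mul_assoc,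
    ← _root_.zpow_add, ← _root_.zpow_add]
  congr 2
  ring

theorem forms {x : G} (hx : x ∈ (T : Subgroup G)) : ∃ i : ℤ, x = s ^ i ∨ x = s ^ i * z := by
  rcases O.cov x hx with h | h
  · obtain ⟨i, hi⟩ := mem_zpowers_iff.1 h
    exact ⟨i, Or.inl hi.symm⟩
  · obtain ⟨i, hi⟩ := mem_zpowers_iff.1 h
    exact ⟨i, Or.inr (by rw [hi, mul_assoc, mul_self_of_two O.z2, mul_one])⟩

theorem w_comm_z : w * z = z * w := by
  obtain ⟨i, hi⟩ := mem_zpowers_iff.1 O.w_mem
  have h1 : s ^ (-i) = s ^ i := by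
    rw [_root_.zpow_neg, hi, inv_of_two O.w2]
  rw [← hi, O.zs, h1]

theorem w_central {x : G} (hx : x ∈ (T : Subgroup G)) : x * w = w * x := by
  obtain ⟨i, hi⟩ := mem_zpowers_iff.1 O.w_mem
  have hs : ∀ j : ℤ, s ^ j * w = w * s ^ j := fun j => by rw [← hi, ← _root_.zpow_add, ← _root_.zpow_add, add_comm]
  obtain ⟨j, rfl | rfl⟩ := O.forms hx
  · exact hs j
  · rw [mul_assoc, ← O.w_comm_z, ← mul_assoc, hs, mul_assoc]

theorem T_le : (T : Subgroup G) ≤ centralizer ({w} : Set G) := fun _ hx => mem_cent.2 (O.w_central hx)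

theorem odd_idx_w : Odd (centralizer ({w} : Set G)).index :=
  Nat.not_even_iff_odd.1 fun h => T.not_dvd_index (h.two_dvd.trans (index_dvd_of_le O.T_le))

/-- Elements of `T` commuting with a reflection. -/
theorem cent_refl {x : G} (hx : x ∈ (T : Subgroup G)) (i : ℤ) (h : x * (s ^ i * z) = s ^ i * z * x) :
    x = 1 ∨ x = w ∨ x = s ^ i * z ∨ x = w * (s ^ i * z) := by
  have key : ∀ j : ℤ, s ^ j * (s ^ i * z) = s ^ i * z * s ^ j → s ^ j = 1 ∨ s ^ j = w := fun j hj => by
    have h1 : s ^ j * s ^ j = 1 := by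
      rw [mul_assoc _ z, O.zs, ← mul_assoc, ← mul_assoc, mul_left_inj, ← _root_.zpow_add, ← _root_.zpow_add] at hj
      rw [← _root_.zpow_add, show j + j = (j + i) - (i + -j) by ring, _root_.zpow_sub, hj, mul_inv_cancel]
    exact O.hw ▸ sq_one_cases (by have := O.hk; omega) O.os (Subgroup.zpow_mem_zpowers s j) h1
  obtain ⟨j, rfl | rfl⟩ := O.forms hx
  · exact (key j h).imp_right Or.inl
  · have e : s ^ j * z = s ^ (j - i) * (s ^ i * z) := by
      rw [← mul_assoc, ← _root_.zpow_add, sub_add_cancel]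
    rw [e] at h ⊢
    have h' : s ^ (j - i) * (s ^ i * z) = s ^ i * z * s ^ (j - i) := by
      rwa [← mul_assoc (s ^ i * z), mul_left_inj] at h
    rcases key _ h' with e' | e' <;> rw [e'] <;> simp

theorem exists_index_two : ∃ M : Subgroup G, M.Normal ∧ M.index = 2 ∧ z ∉ M ∧ s * s ∈ M ∧ w ∈ M := by
  haveI : Fact (Nat.Prime 2) := ⟨Nat.prime_two⟩
  have hrel : (zpowers s).relIndex (T : Subgroup G) = 2 := by
    refine index_eq_two_iff.2 ⟨⟨z, O.zT⟩, fun b => ?_⟩
    simp only [mem_subgroupOf, Subgroup.coe_mul]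
    rcases O.cov b b.2 with h | h
    · exact Or.inr ⟨h, fun h' => O.notin ((Subgroup.mul_mem_cancel_left _ h).1 h')⟩
    · exact Or.inl ⟨h, fun h' => O.notin ((Subgroup.mul_mem_cancel_left _ h').1 h)⟩
  have hidx : (zpowers s).index = 2 * (T : Subgroup G).index := by
    rw [← relIndex_mul_index (zpowers_le.2 O.sT), hrel]
  obtain ⟨M, hM, hM2, hzM⟩ := Cfsg.Lib.Transfer.exists_index_two_not_mem (zpowers s)
    (Nat.not_even_iff_odd.1 fun h => T.not_dvd_index h.two_dvd) hidx O.z2 fun g hg => by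
      have h2 : (g⁻¹ * z * g) * (g⁻¹ * z * g) = 1 := by
        rw [show g⁻¹ * z * g * (g⁻¹ * z * g) = g⁻¹ * (z * z) * g by group, mul_self_of_two O.z2]; group
      rcases sq_one_cases (by have := O.hk; omega) O.os hg h2 with e | e
      · have := O.z2
        rw [show z = g * (g⁻¹ * z * g) * g⁻¹ by group, e, mul_one, mul_inv_cancel, orderOf_one] at this
        omega
      · exact O.fus g⁻¹ (by rw [inv_inv, e, O.hw])
  have hss : s * s ∈ M := Subgroup.mul_self_mem_of_index_two hM2 s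
  refine ⟨M, hM, hM2, hzM, hss, ?_⟩
  have hk := O.hk
  rw [← O.hw, show 2 ^ (k - 1) = 2 * 2 ^ (k - 2) by rw [← pow_succ', show k - 2 + 1 = k - 1 by omega], pow_mul,
    pow_two]
  exact pow_mem hss _

theorem dihedral : Nonempty ((T : Subgroup G) ≃* DihedralGroup (2 ^ k)) := by
  have hsz : orderOf (s * z) = 2 := by simpa using O.refl_two 1
  have hne : s * z ≠ z := fun e => by
    have := O.os
    rw [mul_eq_right.1 e, orderOf_one] at this
    exact absurd this.symm (Nat.one_lt_pow (by have := O.hk; omega) (by norm_num)).ne'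
  obtain ⟨e⟩ := Cfsg.Lib.InvolCalc.exists_dihedral_equiv hsz O.z2 hne
  have hcl : closure ({s * z, z} : Set G) = (T : Subgroup G) := by
    refine le_antisymm ((closure_le _).2 ?_) fun x hx => ?_
    · rintro x (rfl | hx)
      · exact mul_mem O.sT O.zT
      · exact Set.mem_singleton_iff.1 hx ▸ O.zT
    · have hz : z ∈ closure ({s * z, z} : Set G) := Subgroup.subset_closure (Or.inr rfl)
      have hs : s ∈ closure ({s * z, z} : Set G) := by
        have := mul_mem (Subgroup.subset_closure (Or.inl rfl) : s * z ∈ closure ({s * z, z} : Set G)) (inv_mem hz)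
        rwa [mul_inv_cancel_right] at this
      obtain ⟨i, rfl | rfl⟩ := O.forms hx
      · exact Subgroup.zpow_mem _ hs i
      · exact mul_mem (Subgroup.zpow_mem _ hs i) hz
  rw [mul_assoc, mul_self_of_two O.z2, mul_one, O.os] at e
  exact ⟨(MulEquiv.subgroupCongr hcl.symm).trans e⟩

set_option maxHeartbeats 200000 in
/-- The centraliser of `w` is `T` extended by a normal subgroup of odd order. -/
theorem exists_core : ∃ U : Subgroup G, U ≤ centralizer ({w} : Set G) ∧ Odd (Nat.card U) ∧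
    centralizer ({w} : Set G) ≤ normalizer (U : Set G) ∧
    (∀ x ∈ centralizer ({w} : Set G), ∃ v ∈ U, ∃ t ∈ (T : Subgroup G), x = v * t) ∧
    ∀ x ∈ centralizer ({w} : Set G), Odd (orderOf x) → x ∈ U := by
  haveI : Fact (Nat.Prime 2) := ⟨Nat.prime_two⟩
  have hn2 : 2 ≤ 2 ^ k := by
    have := Nat.pow_le_pow_right two_pos O.hk
    omega
  obtain ⟨N, hN, hNo, j, hj⟩ := Cfsg.Agent.S0514.result T (2 ^ k) hn2 O.dihedral w O.w2
  haveI := hN
  refine ⟨N.map (centralizer ({w} : Set G)).subtype, map_subtype_le _, by rwa [Subgroup.card_map_of_injective (centralizer ({w} : Set G)).subtype_injective], ?_, ?_, ?_⟩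
  · intro c hc
    refine Cfsg.Lib.Coprime.mem_normalizer_of_conj_mem ?_ ?_
    · rintro _ ⟨x, hx, rfl⟩; exact ⟨_, hN.conj_mem x hx ⟨c, hc⟩, rfl⟩
    · rintro _ ⟨x, hx, rfl⟩
      exact ⟨_, hN.conj_mem x hx ⟨c, hc⟩⁻¹, by simp⟩
  · intro x hx
    have htop : N ⊔ (T : Subgroup G).subgroupOf (centralizer ({w} : Set G)) = ⊤ := by
      rw [← index_eq_one]
      refine Nat.eq_one_of_dvd_coprimes (Nat.Coprime.pow_left j ((Nat.prime_two.coprime_iff_not_dvd).2
        T.not_dvd_index)) (hj ▸ index_dvd_of_le le_sup_left) ?_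
      refine (index_dvd_of_le le_sup_right).trans ?_
      show (T : Subgroup G).relIndex (centralizer ({w} : Set G)) ∣ _
      exact relIndex_dvd_index_of_le O.T_le
    obtain ⟨v, hv, t, ht, hvt⟩ := Subgroup.mem_sup_of_normal_left.1 (htop ▸ mem_top (⟨x, hx⟩ : centralizer ({w} : Set G)))
    exact ⟨v, ⟨v, hv, rfl⟩, t, mem_subgroupOf.1 ht, (congrArg Subtype.val hvt).symm⟩
  · intro x hx hxo
    refine ⟨⟨x, hx⟩, ?_, rfl⟩
    rw [SetLike.mem_coe, ← QuotientGroup.eq_one_iff, ← orderOf_eq_one_iff]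
    refine Nat.eq_one_of_dvd_coprimes (Nat.Coprime.pow_left j (Nat.coprime_two_left.2 hxo)) ?_ ?_
    · rw [← hj, index_eq_card]; exact orderOf_dvd_natCard _
    · rw [← Subgroup.orderOf_mk (H := centralizer ({w} : Set G)) x hx]; exact orderOf_map_dvd (QuotientGroup.mk' N) _

theorem noTwo (hns : ¬ Group.IsSolvable G) : NoTwo G := by
  haveI : Fact (Nat.Prime 2) := ⟨Nat.prime_two⟩
  intro M hM hexp
  haveI := hM
  by_contra hne
  have hp : IsPGroup 2 M := fun x => ⟨1, Subtype.ext (by simp [pow_two, hexp _ x.2])⟩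
  have hMT : M ≤ (T : Subgroup G) := normal_two_le_sylow hp T
  have hcyc : ∀ x ∈ M, x ∈ zpowers s → x = 1 ∨ x = w := fun x hx h =>
    O.hw ▸ sq_one_cases (by have := O.hk; omega) O.os h (hexp x hx)
  have hT2 : ∀ x ∈ M, ∀ y ∈ M, x ∉ zpowers s → y ∉ zpowers s → x * y ∈ zpowers s := by
    intro x hx y hy hxs hys
    obtain ⟨i, rfl | rfl⟩ := O.forms (hMT hx)
    · exact absurd (Subgroup.zpow_mem_zpowers s i) hxs
    obtain ⟨j, rfl | rfl⟩ := O.forms (hMT hy)
    · exact absurd (Subgroup.zpow_mem_zpowers s j) hys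
    rw [mul_assoc (s ^ i), ← mul_assoc z, O.zs, mul_assoc, mul_self_of_two O.z2, mul_one, ← _root_.zpow_add]
    exact Subgroup.zpow_mem_zpowers s _
  obtain ⟨x₀, hx₀, hsub⟩ : ∃ x₀ ∈ M, (M : Set G) ⊆ {1, w, x₀, x₀ * w} := by
    by_cases h : ∃ x ∈ M, x ∉ zpowers s
    · obtain ⟨x₀, hx₀, hx₀s⟩ := h
      refine ⟨x₀, hx₀, fun y hy => ?_⟩
      by_cases hys : y ∈ zpowers s
      · rcases hcyc y hy hys with rfl | rfl <;> simp
      · rcases hcyc _ (mul_mem hx₀ hy) (hT2 _ hx₀ _ hy hx₀s hys) with e | e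
        · rw [eq_inv_of_mul_eq_one_right e, inv_eq_of_mul_eq_one_left (hexp x₀ hx₀)]; simp
        · right; right; right
          rw [Set.mem_singleton_iff, ← e, ← mul_assoc, hexp x₀ hx₀, one_mul]
    · push Not at h
      exact ⟨1, one_mem M, fun y hy => by rcases hcyc y hy (h y hy) with rfl | rfl <;> simp⟩
  have h4 : Nat.card M ≤ 4 := by
    refine (Nat.card_coe_set_eq (M : Set G)).le.trans ((Set.ncard_le_ncard hsub).trans ?_)
    refine (Set.ncard_insert_le _ _).trans (Nat.succ_le_succ ?_)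
    refine (Set.ncard_insert_le _ _).trans (Nat.succ_le_succ ?_)
    exact (Set.ncard_insert_le _ _).trans (by rw [Set.ncard_singleton])
  by_cases hzM : z ∈ M
  · exact hns (solvable_of_small_normal M h4 (solvable_of_le
      (centralizer_le (Set.singleton_subset_iff.2 hzM)) O.solv))
  have hwM : w ∈ M := by
    obtain ⟨v, hv, hv1⟩ := M.bot_or_exists_ne_one.resolve_left hne
    obtain ⟨i, rfl | rfl⟩ := O.forms (hMT hv)
    · exact ((hcyc _ hv (Subgroup.zpow_mem_zpowers s i)).resolve_left hv1) ▸ hv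
    · have h := mul_mem (hM.conj_mem _ hv (s ^ (1 : ℤ))) hv
      rw [O.refl_conj, mul_assoc (s ^ _), ← mul_assoc z, O.zs, mul_assoc (s ^ (-i)), mul_self_of_two O.z2, mul_one (s ^ (-i)),
        ← _root_.zpow_add, show i + 2 * 1 + -i = 2 by ring] at h
      refine ((hcyc _ h (Subgroup.zpow_mem_zpowers s 2)).resolve_left fun e => ?_) ▸ h
      have h2 : 2 ^ k ∣ 2 := O.os ▸ orderOf_dvd_of_pow_eq_one (by rw [← zpow_natCast]; exact e)
      have := Nat.le_of_dvd two_pos h2
      have := Nat.pow_le_pow_right two_pos O.hk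
      omega
  by_cases hr : ∀ x ∈ M, x ∈ zpowers s
  · -- then `w` is central
    have hC : centralizer ({w} : Set G) = ⊤ := eq_top_iff.2 fun g _ => mem_cent.2 (by
      have hg := hM.conj_mem w hwM g
      rcases hcyc _ hg (hr _ hg) with e | e
      · have := O.w2; rw [conj_eq_one_iff.1 e, orderOf_one] at this; omega
      · exact mul_inv_eq_iff_eq_mul.1 e)
    obtain ⟨U, -, hUo, hUn, hdec, -⟩ := O.exists_core
    rw [hC] at hUn hdec
    haveI : U.Normal := normalizer_eq_top_iff.1 (top_le_iff.1 hUn)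
    refine hns (solvable_ext U (solvable_of_odd hUo) ?_)
    have hp2 : IsPGroup 2 (G ⧸ U) := T.2.of_surjective ((QuotientGroup.mk' U).comp (T : Subgroup G).subtype) fun y => by
      obtain ⟨g, rfl⟩ := QuotientGroup.mk_surjective y
      obtain ⟨v, hv, t, ht, rfl⟩ := hdec g (mem_top _)
      exact ⟨⟨t, ht⟩, by simp [(QuotientGroup.eq_one_iff v).2 hv]⟩
    haveI := hp2.isNilpotent
    infer_instance
  push Not at hr
  obtain ⟨u, hu, hus⟩ := hr
  obtain ⟨i, rfl | rfl⟩ := O.forms (hMT hu)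
  · exact hus (Subgroup.zpow_mem_zpowers s i)
  set C := centralizer (M : Set G) with hC
  obtain ⟨P, hP⟩ := Cfsg.Lib.Transfer.exists_sylow_subgroupOf T C
  refine hns (solvable_of_small_normal M h4 (solvable_of_central_sylow P fun x hx g => ?_))
  rw [hP, mem_subgroupOf] at hx
  have hxM : (x : G) ∈ M := by
    rcases O.cent_refl hx i (mem_centralizer_iff.1 x.2 _ hu).symm with e | e | e | e <;> rw [e]
    · exact one_mem M
    · exact hwM
    · exact hu
    · exact mul_mem hwM hu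
  exact Subtype.ext (mem_centralizer_iff.1 g.2 _ hxM).symm

end Out

end Cfsg.Lib.GenDihedral
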