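import Cfsg.Agent.GenDihedral.Red.Out
import Cfsg.Agent.PGroups.MaxClass
import Cfsg.Agent.InvolCalc.ZStarApps
import Cfsg.Agent.S3277

/-!
When the centraliser contains no Sylow 2-subgroup, a Sylow 2-subgroup is dihedral.
-/

set_option autoImplicit false
set_option linter.unusedSectionVars false
set_option linter.style.haveILetI false

namespace Cfsg.Lib.GenDihedral

open Subgroup

universe u

variable {G : Type u} [Group G] [Finite G]

theorem split_data {z : G} {A : Subgroup G} (hz : orderOf z = 2) (hzA : z ∈ A)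
    (hle : A ≤ centralizer ({z} : Set G)) (hcomm : ∀ a ∈ A, ∀ b ∈ A, a * b = b * a)
    (hidx : A.relIndex (centralizer ({z} : Set G)) = 2) (huniq : ∀ a ∈ A, orderOf a = 2 → a = z)
    (hout : ∀ x ∈ centralizer ({z} : Set G), x ∉ A → x * x = 1)
    (heven : ¬ Odd (centralizer ({z} : Set G)).index) :
    ∃ (T : Sylow 2 G) (s w : G) (k : ℕ), 2 ≤ k ∧ z ∈ (T : Subgroup G) ∧ s ∈ (T : Subgroup G) ∧
      orderOf s = 2 ^ k ∧ s ^ 2 ^ (k - 1) = w ∧
      (∀ x ∈ (T : Subgroup G), x ∈ zpowers s ∨ x * z ∈ zpowers s) ∧ z ∉ zpowers s ∧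
      (z * s * z⁻¹ = s⁻¹ ∨ z * s * z⁻¹ = s⁻¹ * w) ∧
      (∀ x : G, x * z = z * x → x * w = w * x → Odd (orderOf x) → x = 1) ∧ (∀ g : G, g * z * g⁻¹ ≠ w) ∧
      ∃ V : Subgroup G, Nat.card V = 4 ∧ V ≤ (T : Subgroup G) ∧ V ≤ centralizer ({z} : Set G) ∧
        (∀ v ∈ V, v * v = 1) ∧ z ∈ V ∧ w ∈ V ∧
        ∀ P : Subgroup G, IsPGroup 2 P → P ≤ centralizer ({z} : Set G) → V ≤ P → P = V := by
  classical
  haveI : Fact (Nat.Prime 2) := ⟨Nat.prime_two⟩
  set C := centralizer ({z} : Set G) with hC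
  have hzC : z ∈ C := mem_cent.2 rfl
  have hzz := mul_self_of_two hz
  have hz1 : z ≠ 1 := fun e => by rw [e, orderOf_one] at hz; omega
  have hzcent : ∀ x ∈ C, x * z = z * x := fun x hx => mem_cent.1 hx
  obtain ⟨R₀, hR₀⟩ := (IsPGroup.of_card (G := zpowers (⟨z, hzC⟩ : C)) (p := 2) (n := 1)
    (by rw [Nat.card_zpowers, Subgroup.orderOf_mk, hz, pow_one])).exists_le_sylow
  set R := (R₀ : Subgroup C).map C.subtype with hR
  have hRp : IsPGroup 2 R := R₀.2.map _
  have hRC : R ≤ C := map_subtype_le _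
  have hzR : z ∈ R := ⟨⟨z, hzC⟩, hR₀ (mem_zpowers _), rfl⟩
  have hRmax : ∀ P : Subgroup G, IsPGroup 2 P → P ≤ C → R ≤ P → P = R := by
    intro P hP hPC hRP
    have h := R₀.3 (hP.of_equiv (subgroupOfEquivOfLe hPC).symm) fun x hx => mem_subgroupOf.2 (hRP ⟨x, hx, rfl⟩)
    rw [hR, ← h, map_subgroupOf_eq_of_le hPC]
  obtain ⟨T, hRT⟩ := hRp.exists_le_sylow
  have hTC : (T : Subgroup G) ⊓ C = R := hRmax _ (T.2.to_le inf_le_left) inf_le_right (le_inf hRT hRC)
  have hne : R ≠ (T : Subgroup G) := fun e => heven (Nat.not_even_iff_odd.1 fun h =>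
    T.not_dvd_index (h.two_dvd.trans (index_dvd_of_le (e ▸ hRC))))
  haveI : Group.IsNilpotent (T : Subgroup G) := T.2.isNilpotent
  obtain ⟨n, hnT, hnR, hn⟩ : ∃ n ∈ (T : Subgroup G), n ∉ R ∧ ∀ x ∈ R, n * x * n⁻¹ ∈ R := by
    have hlt : R.subgroupOf T < normalizer (R.subgroupOf T : Set (T : Subgroup G)) :=
      Group.normalizerCondition_of_isNilpotent _ (lt_of_le_of_ne le_top fun e => hne
        (le_antisymm hRT (subgroupOf_eq_top.1 e)))
    obtain ⟨m, hm, hm'⟩ := SetLike.exists_of_lt hlt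
    refine ⟨m, m.2, fun h => hm' (mem_subgroupOf.2 h), fun x hx => ?_⟩
    exact mem_subgroupOf.1 ((mem_normalizer_iff.1 hm ⟨x, hRT hx⟩).1 (mem_subgroupOf.2 hx))
  have hnC : n ∉ C := fun h => hnR (hTC ▸ ⟨hnT, h⟩)
  -- elements of `A` in `R`
  have hRA : ∀ a ∈ R, a ∈ A → a = 1 ∨ a = z := by
    intro a ha haA
    by_cases h : a * a = 1
    · exact (two_or_one h).imp_right (huniq a haA)
    exfalso
    have hb : n * a * n⁻¹ ∈ A := by
      by_contra hb
      have := hout _ (hRC (hn a ha)) hb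
      rw [conj_mul, conj_eq_one_iff] at this
      exact h this
    obtain ⟨j, hj⟩ := two_elt hRp ha fun e => h (by rw [e, one_mul])
    have e1 := huniq _ (pow_mem haA _) hj
    have e2 := huniq _ (pow_mem hb (2 ^ j)) (by rw [conj_pow, ← MulAut.conj_apply, MulEquiv.orderOf_eq, hj])
    rw [conj_pow, e1] at e2
    exact hnC (mem_cent.2 (mul_inv_eq_iff_eq_mul.1 e2))
  obtain ⟨x₀, hx₀, hx₀A⟩ : ∃ x ∈ R, x ∉ A := by
    by_contra h
    push Not at h
    rcases hRA _ (hn z hzR) (h _ (hn z hzR)) with e | e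
    · exact hz1 (conj_eq_one_iff.1 e)
    · exact hnC (mem_cent.2 (mul_inv_eq_iff_eq_mul.1 e))
  have hx₀x : x₀ * x₀ = 1 := hout _ (hRC hx₀) hx₀A
  have hF : IsFour z x₀ (z * x₀) :=
    isFour_of_comm hz ((two_or_one hx₀x).resolve_left fun e => hx₀A (e ▸ one_mem A))
      (hzcent x₀ (hRC hx₀)).symm fun e => hx₀A (e ▸ hzA)
  have hRV : R = Vg z x₀ := by
    refine le_antisymm (fun x hx => hF.mem_iff.2 ?_) ((closure_le _).2 ?_)
    · by_cases hxA : x ∈ A
      · rcases hRA x hx hxA with e | e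
        · exact Or.inl e
        · exact Or.inr (Or.inl e)
      · have hxx : x * x₀ ∈ A := by
          have h := Subgroup.mul_mem_iff_of_index_two (H := A.subgroupOf C) hidx (a := ⟨x, hRC hx⟩)
            (b := ⟨x₀, hRC hx₀⟩)
          simp only [mem_subgroupOf, Subgroup.coe_mul] at h
          exact h.2 (iff_of_false hxA hx₀A)
        rcases hRA _ (mul_mem hx hx₀) hxx with e | e
        · exact Or.inr (Or.inr (Or.inl (by rw [eq_inv_of_mul_eq_one_left e, inv_eq_of_mul_eq_one_left hx₀x])))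
        · exact Or.inr (Or.inr (Or.inr (by rw [← e, mul_assoc, hx₀x, mul_one])))
    · rintro x (rfl | hx)
      · exact hzR
      · exact Set.mem_singleton_iff.1 hx ▸ hx₀
  have hR4 : Nat.card R = 4 := by rw [hRV, hF.card]
  have hRexp : ∀ v ∈ R, v * v = 1 := fun v hv => by
    rw [hRV] at hv
    rcases hF.mem_iff.1 hv with rfl | rfl | rfl | rfl
    · exact mul_one 1
    · exact hzz
    · exact hx₀x
    · exact mul_self_of_two hF.s2
  have hRcomm : ∀ a ∈ R, ∀ b ∈ R, a * b = b * a := fun a ha b hb => by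
    rw [← inv_eq_of_mul_eq_one_left (hRexp _ (mul_mem ha hb)), _root_.mul_inv_rev,
      inv_eq_of_mul_eq_one_left (hRexp _ ha), inv_eq_of_mul_eq_one_left (hRexp _ hb)]
  -- maximal class
  obtain ⟨n', hn'⟩ := IsPGroup.iff_card.1 T.2
  have hn3 : 3 ≤ n' := by
    have hlt : 4 < 2 ^ n' := by
      rw [← hn', ← hR4]
      exact lt_of_le_of_ne (card_le_of_le hRT) fun e => hne (Cfsg.Lib.Coprime.eq_of_le_of_card_eq hRT e)
    by_contra h
    have : 2 ^ n' ≤ 2 ^ 2 := Nat.pow_le_pow_right two_pos (by omega)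
    omega
  have hAc : centralizer ((R.subgroupOf T : Subgroup (T : Subgroup G)) : Set (T : Subgroup G)) = R.subgroupOf T := by
    ext x
    constructor
    · intro hx
      have h := congrArg Subtype.val (mem_centralizer_iff.1 hx ⟨z, hRT hzR⟩ (mem_subgroupOf.2 hzR))
      exact mem_subgroupOf.2 (hTC ▸ ⟨x.2, mem_cent.2 h.symm⟩)
    · intro hx
      exact mem_centralizer_iff.2 fun a ha => Subtype.ext (hRcomm _ ha _ hx)
  have hcl := Cfsg.Lib.MaxClass.of_self_centralizing (p := 2) n' (T : Subgroup G) hn' (R.subgroupOf T)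
    (by rw [Nat.card_congr (subgroupOfEquivOfLe hRT).toEquiv, hR4]; norm_num) hAc
  obtain ⟨M, hM, hMi⟩ := Cfsg.Lib.MaxClass.exists_cyclic_index_two n' (T : Subgroup G) hn' hn3 hcl
  obtain ⟨g, hg⟩ := IsCyclic.exists_generator (α := M)
  have hMz : M.map (T : Subgroup G).subtype = zpowers ((g : (T : Subgroup G)) : G) := by
    refine le_antisymm ?_ (zpowers_le.2 ⟨g, g.2, rfl⟩)
    rintro _ ⟨x, hx, rfl⟩
    obtain ⟨i, hi⟩ := mem_zpowers_iff.1 (hg ⟨x, hx⟩)
    exact ⟨i, by simpa using congrArg (fun y : M => ((y : (T : Subgroup G)) : G)) hi⟩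
  set s : G := ((g : (T : Subgroup G)) : G) with hs
  have hord : orderOf s = 2 ^ (n' - 1) := by
    rw [← Nat.card_zpowers, ← hMz, Subgroup.card_map_of_injective (T : Subgroup G).subtype_injective]
    have h := M.card_mul_index
    rw [hMi, hn', show 2 ^ n' = 2 ^ (n' - 1) * 2 by rw [← pow_succ]; congr 1; omega] at h
    omega
  set k := n' - 1 with hk
  have hk2 : 2 ≤ k := by omega
  set w := s ^ 2 ^ (k - 1) with hw
  have hmemM : ∀ x (hx : x ∈ (T : Subgroup G)), x ∈ zpowers s ↔ (⟨x, hx⟩ : (T : Subgroup G)) ∈ M := fun x hx => by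
    rw [← hMz]
    exact ⟨fun ⟨y, hy, e⟩ => (Subtype.ext e : y = ⟨x, hx⟩) ▸ hy, fun h => ⟨_, h, rfl⟩⟩
  have hsT : s ∈ (T : Subgroup G) := (g : (T : Subgroup G)).2
  have hzT : z ∈ (T : Subgroup G) := hRT hzR
  have hzs : z ∉ zpowers s := fun h => by
    obtain ⟨i, hi⟩ := mem_zpowers_iff.1 h
    have hsR : s ∈ R := hTC ▸ ⟨hsT, mem_cent.2 (by
      rw [← hi]; exact ((Commute.refl s).zpow_right i).eq)⟩
    have := orderOf_dvd_of_pow_eq_one (x := s) (n := 2) (by rw [pow_two]; exact hRexp s hsR)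
    rw [hord] at this
    have := Nat.le_of_dvd two_pos this
    have := Nat.pow_le_pow_right two_pos hk2
    omega
  have hwo : orderOf w = 2 := by
    rw [hw, orderOf_pow' s (pow_ne_zero _ two_ne_zero), hord,
      show 2 ^ k = 2 ^ (k - 1) * 2 by rw [← pow_succ, show k - 1 + 1 = k by omega],
      Nat.gcd_eq_right (Dvd.intro _ rfl), Nat.mul_div_cancel_left _ (Nat.two_pow_pos _)]
  have hMn : M.Normal := normal_of_index_eq_two hMi
  have hzsz : ∀ x ∈ zpowers s, z * x * z⁻¹ ∈ zpowers s := fun x hx => by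
    have hxT : x ∈ (T : Subgroup G) := zpowers_le.2 hsT hx
    exact (hmemM _ (mul_mem (mul_mem hzT hxT) (inv_mem hzT))).2 (hMn.conj_mem _ ((hmemM x hxT).1 hx) ⟨z, hzT⟩)
  have hone : ∀ x ∈ zpowers s, x * x = 1 → x = 1 ∨ x = w := fun x hx h => sq_one_cases (by omega) hord hx h
  have hwm : w ∈ zpowers s := npow_mem_zpowers s _
  have hwz : z * w * z⁻¹ = w := by
    refine (hone _ (hzsz w hwm) (by rw [conj_mul, mul_self_of_two hwo, mul_one, mul_inv_cancel])).resolve_left ?_
    intro e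
    rw [conj_eq_one_iff.1 e, orderOf_one] at hwo
    omega
  have hwC : w ∈ C := mem_cent.2 (mul_inv_eq_iff_eq_mul.1 hwz).symm
  have hwR : w ∈ R := hTC ▸ ⟨zpowers_le.2 hsT hwm, hwC⟩
  have hwA : w ∉ A := fun h => hzs (huniq w h hwo ▸ hwm)
  refine ⟨T, s, w, k, hk2, hzT, hsT, hord, rfl, fun x hx => ?_, hzs, ?_, ?_, ?_, R, hR4, hRT, hRC, hRexp,
    hzR, hwR, hRmax⟩
  · by_cases h : x ∈ zpowers s
    · exact Or.inl h
    · refine Or.inr ((hmemM _ (mul_mem hx hzT)).2 ?_)
      exact (Subgroup.mul_mem_iff_of_index_two hMi (a := ⟨x, hx⟩) (b := ⟨z, hzT⟩)).2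
        (iff_of_false (fun e => h ((hmemM x hx).2 e)) (fun e => hzs ((hmemM z hzT).2 e)))
  · -- the fixed element
    have hcs : ∀ a ∈ zpowers s, ∀ b ∈ zpowers s, a * b = b * a := by
      rintro _ ⟨i, rfl⟩ _ ⟨j, rfl⟩
      exact (Commute.zpow_zpow (Commute.refl s) i j).eq
    have hy : s * (z * s * z⁻¹) ∈ zpowers s := mul_mem (mem_zpowers s) (hzsz s (mem_zpowers s))
    have hyC : s * (z * s * z⁻¹) ∈ C := mem_cent.2 (by
      refine (mul_inv_eq_iff_eq_mul.1 (?_ : z * (s * (z * s * z⁻¹)) * z⁻¹ = _)).symm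
      rw [← conj_mul, conj_conj, hzz, inv_one, one_mul, mul_one]
      exact hcs _ (hzsz s (mem_zpowers s)) _ (mem_zpowers s))
    rcases hone _ hy (hRexp _ (hTC ▸ ⟨zpowers_le.2 hsT hy, hyC⟩)) with e | e
    · exact Or.inl (eq_inv_of_mul_eq_one_right e)
    · exact Or.inr (by rw [← e, inv_mul_cancel_left])
  · intro x hxz hxw hxo
    have hxA : x ∈ A := by
      by_contra h
      exact h (eq_one_of_sq_of_odd (hout x (mem_cent.2 hxz) h) hxo ▸ one_mem A)
    have h := hout (w * x) (mul_mem hwC (mem_cent.2 hxz)) fun h => hwA ((Subgroup.mul_mem_cancel_right A hxA).1 h)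
    refine eq_one_of_sq_of_odd ?_ hxo
    calc x * x = (w * w) * (x * x) := by rw [mul_self_of_two hwo, one_mul]
      _ = w * (w * x) * x := by group
      _ = w * (x * w) * x := by rw [hxw]
      _ = 1 := by rw [← h]; group
  · intro g e
    refine heven (Nat.not_even_iff_odd.1 fun h => T.not_dvd_index (h.two_dvd.trans ?_))
    have hTw : (T : Subgroup G) ≤ centralizer ({w} : Set G) := fun x hx => mem_cent.2 (by
      have h' := hone _ ((hmemM _ (mul_mem (mul_mem hx (zpowers_le.2 hsT hwm)) (inv_mem hx))).2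
        (hMn.conj_mem _ ((hmemM w (zpowers_le.2 hsT hwm)).1 hwm) ⟨x, hx⟩))
        (by rw [conj_mul, mul_self_of_two hwo, mul_one, mul_inv_cancel])
      rcases h' with e' | e'
      · rw [conj_eq_one_iff.1 e', orderOf_one] at hwo; omega
      · exact mul_inv_eq_iff_eq_mul.1 e')
    have hCw : centralizer ({w} : Set G) = C.map (MulAut.conj g).toMonoidHom := by
      ext x
      rw [mem_cent, Subgroup.mem_map_equiv, hC, mem_cent, MulAut.conj_symm_apply, ← e]
      constructor <;> intro h'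
      · have := congrArg (fun y => g⁻¹ * y * g) h'
        simpa [mul_assoc] using this
      · have := congrArg (fun y => g * y * g⁻¹) h'
        simpa [mul_assoc] using this
    have := index_dvd_of_le hTw
    rwa [hCw, index_map_of_bijective (MulAut.conj g).bijective] at this

/-- The semidihedral shape is impossible. -/
theorem split {z : G} {A : Subgroup G} (hz : orderOf z = 2) (hzA : z ∈ A)
    (hle : A ≤ centralizer ({z} : Set G)) (hcomm : ∀ a ∈ A, ∀ b ∈ A, a * b = b * a)
    (hidx : A.relIndex (centralizer ({z} : Set G)) = 2) (huniq : ∀ a ∈ A, orderOf a = 2 → a = z)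
    (hout : ∀ x ∈ centralizer ({z} : Set G), x ∉ A → x * x = 1)
    (heven : ¬ Odd (centralizer ({z} : Set G)).index) (hO : NoOdd G) (hns : ¬ Group.IsSolvable G) :
    ∃ (w s : G) (k : ℕ) (T : Sylow 2 G), Out z w s k T := by
  classical
  haveI : Fact (Nat.Prime 2) := ⟨Nat.prime_two⟩
  obtain ⟨T, s, w, k, hk, hzT, hsT, hord, hw, hcov, hzs, hdih | hsemi, hcz, hfus, V, hV4, hVT, hVC, hVexp, hzV, hwV,
    hVmax⟩ := split_data hz hzA hle hcomm hidx huniq hout heven
  · exact ⟨w, s, k, T, hz, hzT, hsT, hk, hord, hw, hcov, hzs, hdih, hcz, solvable_of_idx_two hcomm hidx, hfus⟩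
  exfalso
  have hone : ∀ x ∈ zpowers s, x * x = 1 → x = 1 ∨ x = w := fun x hx h => hw ▸ sq_one_cases (by omega) hord hx h
  have hwm : w ∈ zpowers s := hw ▸ npow_mem_zpowers s _
  have hw2 : orderOf w = 2 := by
    rw [← hw, orderOf_pow' s (pow_ne_zero _ two_ne_zero), hord,
      show 2 ^ k = 2 ^ (k - 1) * 2 by rw [← pow_succ, show k - 1 + 1 = k by omega],
      Nat.gcd_eq_right (Dvd.intro _ rfl), Nat.mul_div_cancel_left _ (Nat.two_pow_pos _)]
  have hww : w * w = 1 := mul_self_of_two hw2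
  have hw1 : w ≠ 1 := fun e => by rw [e, orderOf_one] at hw2; omega
  have hzz := mul_self_of_two hz
  have hzw : w * z = z * w := mem_cent.1 (hVC hwV)
  have hsw : Commute s w := hw ▸ Commute.self_pow s _
  have hk3 : 3 ≤ k := by
    by_contra h
    have : w = s * s := by rw [← hw, show k - 1 = 1 by omega, pow_one, pow_two]
    rw [this, inv_mul_cancel_left] at hsemi
    have hsV : s ∈ V := by
      have hh := hVmax ((T : Subgroup G) ⊓ centralizer ({z} : Set G)) (T.2.to_le inf_le_left) inf_le_right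
        (le_inf hVT hVC)
      exact hh ▸ ⟨hsT, mem_cent.2 (mul_inv_eq_iff_eq_mul.1 hsemi).symm⟩
    have := orderOf_dvd_of_pow_eq_one (x := s) (n := 2) (by rw [pow_two]; exact hVexp s hsV)
    rw [hord] at this
    have := Nat.le_of_dvd two_pos this
    have := Nat.pow_le_pow_right two_pos hk
    omega
  have hzpow : ∀ i : ℤ, z * s ^ i * z⁻¹ = s ^ (-i) * w ^ i := fun i => by
    rw [← MulAut.conj_apply, map_zpow, MulAut.conj_apply, hsemi, (hsw.inv_left).mul_zpow, inv_zpow,
      _root_.zpow_neg]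
  -- the index two subgroup
  have hrel : (zpowers s).relIndex (T : Subgroup G) = 2 := by
    refine index_eq_two_iff.2 ⟨⟨z, hzT⟩, fun b => ?_⟩
    simp only [mem_subgroupOf, Subgroup.coe_mul]
    rcases hcov b b.2 with h | h
    · exact Or.inr ⟨h, fun h' => hzs ((Subgroup.mul_mem_cancel_left _ h).1 h')⟩
    · exact Or.inl ⟨h, fun h' => hzs ((Subgroup.mul_mem_cancel_left _ h').1 h)⟩
  obtain ⟨M, hM, hM2, hzM⟩ := Cfsg.Lib.Transfer.exists_index_two_not_mem (zpowers s)
    (Nat.not_even_iff_odd.1 fun h => T.not_dvd_index h.two_dvd)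
    (show (zpowers s).index = 2 * (T : Subgroup G).index by rw [← relIndex_mul_index (zpowers_le.2 hsT), hrel]) hz
    fun g hg => by
      have h2 : (g⁻¹ * z * g) * (g⁻¹ * z * g) = 1 := by
        rw [show g⁻¹ * z * g * (g⁻¹ * z * g) = g⁻¹ * (z * z) * g by group, hzz]; group
      rcases hone _ hg h2 with e | e
      · rw [show z = g * (g⁻¹ * z * g) * g⁻¹ by group, e, mul_one, mul_inv_cancel, orderOf_one] at hz
        omega
      · exact hfus g⁻¹ (by rw [inv_inv, e])
  haveI := hM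
  by_cases hsM : s ∈ M
  · refine hns (solvable_ext M ?_ (solvable_small ?_))
    · obtain ⟨P, hP⟩ := Cfsg.Lib.Transfer.exists_sylow_subgroupOf T M
      refine Cfsg.Lib.CyclicInter.solvable_of_cyclic P ?_
      have e : (T : Subgroup G) ⊓ M = zpowers s := by
        refine le_antisymm (fun x hx => ?_) (le_inf (zpowers_le.2 hsT) (zpowers_le.2 hsM))
        rcases hcov x hx.1 with h | h
        · exact h
        · exact absurd ((Subgroup.mul_mem_cancel_left M hx.2).1 (zpowers_le.2 hsM h)) hzM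
      rw [hP, ← inf_subgroupOf_right, e]
      exact (subgroupOfEquivOfLe (zpowers_le.2 hsM)).isCyclic.2 inferInstance
    · rw [← index_eq_card, hM2]; norm_num
  -- the involution `w` is the only one of `T ⊓ M`, hence central
  have hss : s * s ∈ M := Subgroup.mul_self_mem_of_index_two hM2 s
  have heven' : ∀ i : ℤ, s ^ (2 * i) ∈ M := fun i => by rw [zpow_mul, zpow_two]; exact zpow_mem hss i
  have honly : ∀ x ∈ (T : Subgroup G), x ∈ M → x * x = 1 → x = 1 ∨ x = w := by
    intro x hxT hxM hx2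
    rcases hcov x hxT with h | h
    · exact hone x h hx2
    obtain ⟨i, hi⟩ := mem_zpowers_iff.1 h
    have hx : x = s ^ i * z := by rw [hi, mul_assoc, hzz, mul_one]
    exfalso
    rcases Int.even_or_odd' i with ⟨j, rfl | rfl⟩
    · exact hzM ((Subgroup.mul_mem_cancel_left M (heven' j)).1 (hx ▸ hxM))
    refine hw1 ?_
    rw [hx, show s ^ (2 * j + 1) * z * (s ^ (2 * j + 1) * z) =
      s ^ (2 * j + 1) * (z * s ^ (2 * j + 1) * z⁻¹) * (z * z) by group, hzz, mul_one, hzpow, ← mul_assoc,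
      ← _root_.zpow_add, add_neg_cancel, zpow_zero, one_mul, _root_.zpow_add, zpow_mul, zpow_two, hww, one_zpow,
      one_mul, zpow_one] at hx2
    exact hx2
  have hwM : w ∈ M := by
    rw [← hw, show 2 ^ (k - 1) = 2 * 2 ^ (k - 2) by rw [← pow_succ', show k - 2 + 1 = k - 1 by omega], pow_mul,
      pow_two]
    exact pow_mem hss _
  have hiso : Cfsg.IsIsolatedInvolution (⟨w, hwM⟩ : M) := by
    refine ⟨(Subgroup.orderOf_mk w hwM).trans hw2, fun g hg => ?_⟩
    obtain ⟨P, hP⟩ := Cfsg.Lib.Transfer.exists_sylow_subgroupOf T M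
    set x := g * (⟨w, hwM⟩ : M) * g⁻¹ with hx
    have hxx : x * x = 1 := by
      rw [hx, conj_mul, show (⟨w, hwM⟩ : M) * ⟨w, hwM⟩ = 1 from Subtype.ext hww, mul_one, mul_inv_cancel]
    have hcl : IsPGroup 2 (closure ({⟨w, hwM⟩, x} : Set M) : Subgroup M) := by
      refine fun y => ⟨1, Subtype.ext ?_⟩
      have key : ∀ y ∈ closure ({⟨w, hwM⟩, x} : Set M), y * y = 1 ∧ Commute y (⟨w, hwM⟩ : M) ∧ Commute y x := by
        intro y hy
        induction hy using closure_induction with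
        | mem y hy =>
          rcases hy with rfl | hy
          · exact ⟨Subtype.ext hww, Commute.refl _, hg⟩
          · rw [Set.mem_singleton_iff.1 hy]; exact ⟨hxx, hg.symm, Commute.refl _⟩
        | one => exact ⟨mul_one 1, Commute.one_left _, Commute.one_left _⟩
        | mul a b ha hb iha ihb =>
          refine ⟨?_, iha.2.1.mul_left ihb.2.1, iha.2.2.mul_left ihb.2.2⟩
          have hab : Commute b a := by
            clear iha
            induction ha using closure_induction with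
            | mem a ha =>
              rcases ha with rfl | ha
              · exact ihb.2.1
              · rw [Set.mem_singleton_iff.1 ha]; exact ihb.2.2
            | one => exact Commute.one_right _
            | mul c d _ _ h1 h2 => exact h1.mul_right h2
            | inv c _ h1 => exact h1.inv_right
          rw [mul_assoc, ← mul_assoc b a b, hab.eq, mul_assoc a b b, ihb.1, mul_one, iha.1]
        | inv a _ iha =>
          exact ⟨by rw [← _root_.mul_inv_rev, iha.1, inv_one], iha.2.1.inv_left, iha.2.2.inv_left⟩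
      simpa [pow_two] using (key y y.2).1
    obtain ⟨Q, hQ⟩ := hcl.exists_le_sylow
    obtain ⟨c, hc⟩ := MulAction.exists_smul_eq M Q P
    have hmv : ∀ y ∈ closure ({⟨w, hwM⟩, x} : Set M), y * y = 1 → y ≠ 1 → ((c * y * c⁻¹ : M) : G) = w := by
      intro y hy hyy hy1
      have hyT : c * y * c⁻¹ ∈ (P : Subgroup M) := by
        rw [← hc]
        exact Subgroup.mem_pointwise_smul_iff_inv_smul_mem.2
          (by simpa [MulAut.smul_def, mul_assoc] using hQ hy)
      rw [hP, mem_subgroupOf] at hyT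
      refine (honly _ hyT (c * y * c⁻¹).2 ?_).resolve_left fun e => hy1 (conj_eq_one_iff.1 (Subtype.ext e))
      rw [← Subgroup.coe_mul, conj_mul, hyy, mul_one, mul_inv_cancel, OneMemClass.coe_one]
    have hwc : (⟨w, hwM⟩ : M) ≠ 1 := fun e => hw1 (congrArg Subtype.val e)
    have e1 := hmv _ (subset_closure (Or.inl rfl)) (Subtype.ext hww) hwc
    have e2 := hmv x (subset_closure (Or.inr rfl)) hxx fun e => hwc (conj_eq_one_iff.1 e)
    exact mul_left_cancel (mul_right_cancel (Subtype.ext (e2.trans e1.symm) :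
      c * x * c⁻¹ = c * ⟨w, hwM⟩ * c⁻¹))
  have hcore : Cfsg.pPrimeCore 2 M = ⊥ := by
    refine noOdd_sub hO M _ ?_ (Nat.coprime_two_right.1 (Cfsg.Lib.Components.coprime_card_pPrimeCore 2))
    exact Cfsg.Lib.Components.normal_of_mem_sSup_normal fun _ h => h.1
  have hwcent : ∀ g : G, g * w = w * g := by
    intro g
    have hMw : ∀ m ∈ M, m * w = w * m := fun m hm => by
      have h := Cfsg.Lib.ZStarApps.zstarProp hiso ⟨m, hm⟩
      rw [hcore, mem_bot] at h
      have h' := congrArg Subtype.val h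
      simp only [Subgroup.coe_mul, Subgroup.coe_inv, OneMemClass.coe_one] at h'
      exact (mul_inv_eq_iff_eq_mul.1 (mul_inv_eq_one.1 h')).symm
    by_cases hg : g ∈ M
    · exact hMw g hg
    · have hgz : g * z ∈ M := (Subgroup.mul_mem_iff_of_index_two hM2).2 (iff_of_false hg hzM)
      have h := hMw _ hgz
      rwa [mul_assoc, ← hzw, ← mul_assoc, ← mul_assoc, mul_left_inj] at h
  -- the centraliser of `z` is `V`
  have hCV : centralizer ({z} : Set G) = V := by
    refine hVmax _ ?_ le_rfl hVC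
    rintro ⟨x, hx⟩
    obtain ⟨a, m, hm, ham⟩ := Nat.exists_eq_two_pow_mul_odd (orderOf_pos x).ne'
    refine ⟨a, Subtype.ext ?_⟩
    have ho : Odd (orderOf (x ^ 2 ^ a)) := by
      rw [orderOf_pow' x (pow_ne_zero _ two_ne_zero), ham, Nat.gcd_eq_right (Dvd.intro m rfl),
        Nat.mul_div_cancel_left m (Nat.two_pow_pos a)]
      exact hm
    exact hcz _ (Commute.pow_left (mem_cent.1 hx) _).eq (hwcent _) ho
  -- pass to the quotient by `w`
  set W := zpowers w with hW
  haveI hWn : W.Normal := ⟨fun x hx g => by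
    obtain ⟨i, rfl⟩ := mem_zpowers_iff.1 hx
    rw [← (Commute.zpow_right (hwcent g) i).symm.eq, mul_inv_cancel_right]
    exact Subgroup.zpow_mem_zpowers w i⟩
  have hWmem : ∀ x ∈ W, x = 1 ∨ x = w := fun x hx => by
    obtain ⟨i, rfl⟩ := mem_zpowers_iff.1 hx
    rcases Int.even_or_odd' i with ⟨j, rfl | rfl⟩
    · left; rw [zpow_mul, zpow_two, hww, one_zpow]
    · right; rw [_root_.zpow_add, zpow_mul, zpow_two, hww, one_zpow, one_mul, zpow_one]
  set π := QuotientGroup.mk' W with hπ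
  have hπ1 : ∀ x : G, π x = 1 ↔ x = 1 ∨ x = w := fun x => by
    rw [hπ, QuotientGroup.mk'_apply, QuotientGroup.eq_one_iff]
    refine ⟨hWmem x, ?_⟩
    rintro (h | h) <;> rw [h]
    · exact one_mem W
    · exact mem_zpowers w
  set h₀ := s ^ (2 ^ (k - 2) : ℕ) with hh₀
  have hh₀w : h₀ * h₀ = w := by
    rw [hh₀, ← pow_add, ← two_mul, ← pow_succ', show k - 2 + 1 = k - 1 by omega, hw]
  have hzh₀ : z * h₀ * z⁻¹ = h₀⁻¹ := by
    rw [hh₀, ← zpow_natCast, hzpow, ← _root_.zpow_neg,
      show ((2 ^ (k - 2) : ℕ) : ℤ) = 2 * (2 ^ (k - 3) : ℕ) by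
        push_cast; rw [← pow_succ', show k - 3 + 1 = k - 2 by omega],
      zpow_mul w, zpow_two, hww, one_zpow, mul_one]
  have hh₀z : h₀ * z * h₀⁻¹ = z * w := by
    rw [← hh₀w, show z * (h₀ * h₀) = z * h₀ * z⁻¹ * z * h₀ by group, hzh₀]
    have h2 : h₀⁻¹ * z * h₀ = h₀ * z * h₀⁻¹ := by
      have hh2 : h₀ * h₀ * z = z * (h₀ * h₀) := by rw [hh₀w, hzw]
      calc h₀⁻¹ * z * h₀ = h₀⁻¹ * (z * (h₀ * h₀)) * h₀⁻¹ := by group
        _ = h₀ * z * h₀⁻¹ := by rw [← hh2]; group
    rw [h2]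
  have hs1 : orderOf (π s) = 2 ^ (k - 1) := by
    obtain ⟨j, rfl⟩ : ∃ j, k = j + 2 := ⟨k - 2, by omega⟩
    rw [show j + 2 - 1 = j + 1 by omega] at hw ⊢
    refine orderOf_eq_prime_pow ?_ ?_
    · rw [← map_pow, hπ1]
      rintro (e | e)
      · have h2 := orderOf_dvd_of_pow_eq_one e
        rw [hord] at h2
        have := (Nat.pow_dvd_pow_iff_le_right one_lt_two).1 h2
        omega
      · rw [← hw, pow_succ, pow_mul, pow_two] at e
        have h2 := mul_eq_left.1 e.symm
        have h3 := orderOf_dvd_of_pow_eq_one h2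
        rw [hord] at h3
        have := (Nat.pow_dvd_pow_iff_le_right one_lt_two).1 h3
        omega
    · rw [← map_pow, hπ1]; exact Or.inr hw
  have hzimg : orderOf (π z) = 2 := by
    refine orderOf_eq_prime (by rw [← map_pow, pow_two, hzz, map_one]) fun e => ?_
    rcases (hπ1 z).1 e with e | e
    · rw [e, orderOf_one] at hz; omega
    · exact hzs (e ▸ hwm)
  have hCimg : ∀ y ∈ centralizer ({π z} : Set (G ⧸ W)), ∃ v ∈ V, y = π v ∨ y = π (h₀ * v) := by
    intro y hy
    obtain ⟨g, rfl⟩ := QuotientGroup.mk'_surjective W y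
    rw [← hπ, mem_cent, ← map_mul, ← map_mul, ← inv_mul_eq_one, ← map_inv, ← map_mul, hπ1] at hy
    rcases hy with e | e
    · exact ⟨g, hCV ▸ mem_cent.2 (inv_mul_eq_one.1 e), Or.inl rfl⟩
    · have hz' : z * g = g * z * w := by rw [← e]; group
      refine ⟨h₀⁻¹ * g, hCV ▸ mem_cent.2 ?_, Or.inr (by rw [mul_inv_cancel_left])⟩
      calc h₀⁻¹ * g * z = h₀⁻¹ * (g * z * w) * w := by
            rw [mul_assoc _ (g * z * w) w, mul_assoc (g * z) w w, hww, mul_one, mul_assoc]
        _ = h₀⁻¹ * (z * w) * g := by rw [← hz', mul_assoc _ (z * g) w, mul_assoc z g w, hwcent g]; group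
        _ = z * (h₀⁻¹ * g) := by rw [← hh₀z]; group
  have hCexp : ∀ c ∈ centralizer ({π z} : Set (G ⧸ W)), c * c = 1 := by
    intro c hc
    obtain ⟨v, hv, rfl | rfl⟩ := hCimg c hc
    · rw [← map_mul, hVexp v hv, map_one]
    · have hvC : v * z = z * v := mem_cent.1 (hVC hv)
      have hhv : π (v * h₀ * v⁻¹) = π h₀ := by
        rcases hcov v (hVT hv) with h | h
        · obtain ⟨i, rfl⟩ := mem_zpowers_iff.1 h
          rw [(Commute.zpow_left (Commute.self_pow s _) i).eq, mul_inv_cancel_right]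
        · obtain ⟨i, hi⟩ := mem_zpowers_iff.1 h
          have e : v = s ^ i * z := by rw [hi, mul_assoc, hzz, mul_one]
          have e2 : v * h₀ * v⁻¹ = h₀⁻¹ := by
            rw [e, show s ^ i * z * h₀ * (s ^ i * z)⁻¹ = s ^ i * (z * h₀ * z⁻¹) * (s ^ i)⁻¹ by group, hzh₀,
              ((Commute.zpow_left (Commute.self_pow s _) i).inv_right).eq, mul_inv_cancel_right]
          rw [e2, map_inv, inv_eq_iff_mul_eq_one, ← map_mul, hh₀w, hπ1]
          exact Or.inr rfl
      have hc2 : π v * π h₀ = π h₀ * π v := by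
        rw [map_mul, map_mul, map_inv] at hhv
        exact mul_inv_eq_iff_eq_mul.1 hhv
      rw [map_mul, mul_assoc, ← mul_assoc (π v), hc2, mul_assoc, ← map_mul π v, hVexp v hv, map_one, mul_one,
        ← map_mul, hh₀w, hπ1]
      exact Or.inr rfl
  set T' := T.mapSurjective (QuotientGroup.mk'_surjective W) with hT'
  have hT'mem : ∀ y, y ∈ (T' : Subgroup (G ⧸ W)) ↔ ∃ x ∈ (T : Subgroup G), π x = y := fun y => by
    rw [hT', Sylow.coe_mapSurjective]; rfl
  have O' : Out (π z) (π h₀) (π s) (k - 1) T' := by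
    refine ⟨hzimg, (hT'mem _).2 ⟨z, hzT, rfl⟩, (hT'mem _).2 ⟨s, hsT, rfl⟩, by omega, hs1, ?_, ?_, ?_, ?_, ?_, ?_,
      ?_⟩
    · rw [← map_pow, show k - 1 - 1 = k - 2 by omega]
    · intro y hy
      obtain ⟨x, hx, rfl⟩ := (hT'mem y).1 hy
      rw [← map_mul, ← MonoidHom.map_zpowers]
      exact (hcov x hx).imp (fun h => ⟨x, h, rfl⟩) fun h => ⟨x * z, h, rfl⟩
    · rw [← MonoidHom.map_zpowers]
      rintro ⟨x, hx, e⟩
      have : π (x⁻¹ * z) = 1 := by rw [map_mul, map_inv, e, inv_mul_cancel]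
      rcases (hπ1 _).1 this with e' | e'
      · exact hzs (inv_mul_eq_one.1 e' ▸ hx)
      · exact hzs (by rw [show z = x * w by rw [← e']; group]; exact mul_mem hx hwm)
    · rw [← map_inv, ← map_mul, ← map_mul, hsemi, map_mul, map_inv, (hπ1 w).2 (Or.inr rfl), mul_one]
    · intro x hx _ hxo
      exact eq_one_of_sq_of_odd (hCexp x (mem_cent.2 hx)) hxo
    · exact Group.isSolvable_of_comm fun a b => Subtype.ext (by
        have ha := hCexp _ a.2
        have hb := hCexp _ b.2
        have hab := hCexp _ (mul_mem a.2 b.2)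
        rw [Subgroup.coe_mul, Subgroup.coe_mul, ← inv_eq_of_mul_eq_one_left hab, _root_.mul_inv_rev,
          inv_eq_of_mul_eq_one_left ha, inv_eq_of_mul_eq_one_left hb])
    · intro g e
      obtain ⟨g, rfl⟩ := QuotientGroup.mk'_surjective W g
      rw [← hπ, ← map_inv, ← map_mul, ← map_mul, ← inv_mul_eq_one, ← map_inv, ← map_mul, hπ1] at e
      have hh : ∀ x : G, (g * z * g⁻¹)⁻¹ * h₀ = x → x * x = 1 → x * w = w * x → False := by
        intro x hx hxx _
        have h2 : h₀ = g * z * g⁻¹ * x := by rw [← hx]; group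
        have : (g * z * g⁻¹) * (g * z * g⁻¹) = 1 := by rw [conj_mul, hzz, mul_one, mul_inv_cancel]
        have hxc : Commute x (g * z * g⁻¹) := by
          rcases e with e | e <;> rw [← hx, e]
          · exact Commute.one_left _
          · exact (hwcent _).symm
        have : h₀ * h₀ = 1 := by
          rw [h2, mul_assoc, ← mul_assoc x, hxc.eq, mul_assoc (g * z * g⁻¹) x x, hxx, mul_one, this]
        exact hw1 (hh₀w ▸ this)
      rcases e with e | e
      · exact hh 1 e (mul_one 1) (by rw [one_mul, mul_one])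
      · exact hh w e hww rfl
  have hns' : ¬ Group.IsSolvable (G ⧸ W) := fun h => hns (solvable_ext W (solvable_of_two (IsPGroup.of_card
    (n := 1) (by rw [hW, Nat.card_zpowers, hw2, pow_one]))) h)
  have hC4 : Nat.card (centralizer ({π z} : Set (G ⧸ W))) = 4 := by
    have hmem : π h₀ ∈ centralizer ({π z} : Set (G ⧸ W)) := mem_cent.2 (by
      rw [← map_mul, ← map_mul, ← inv_mul_eq_one, ← map_inv, ← map_mul, hπ1]
      refine Or.inr ?_
      have hinv : h₀⁻¹ = h₀ * w := by
        rw [inv_eq_iff_mul_eq_one, ← mul_assoc, hh₀w, hww]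
      have hhz : z * h₀ = h₀ * z * w := by
        rw [mul_inv_eq_iff_eq_mul.1 hzh₀, hinv, mul_assoc, hzw, ← mul_assoc]
      rw [hhz, inv_mul_cancel_left])
    have hne : π h₀ ≠ π z ∧ π h₀ ≠ 1 := by
      refine ⟨fun e => ?_, fun e => ?_⟩
      · exact O'.notin (e ▸ O'.w_mem)
      · have := O'.w2; rw [e, orderOf_one] at this; omega
    have F := isFour_of_comm hzimg (show orderOf (π h₀) = 2 from O'.w2) (mem_cent.1 hmem).symm hne.1.symm
    have e : centralizer ({π z} : Set (G ⧸ W)) = Vg (π z) (π h₀) := by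
      refine le_antisymm (fun y hy => F.mem_iff.2 ?_) ((closure_le _).2 ?_)
      · obtain ⟨v, hv, hyv⟩ := hCimg y hy
        have hv' : π v = 1 ∨ π v = π z := by
          have hF : IsFour z w (z * w) := isFour_of_comm hz hw2 hzw.symm fun e => hzs (e ▸ hwm)
          have hVeq : Vg z w = V := Cfsg.Lib.Coprime.eq_of_le_of_card_eq ((closure_le _).2 (by
            rintro a (rfl | ha)
            · exact hzV
            · exact Set.mem_singleton_iff.1 ha ▸ hwV)) (by rw [hF.card, hV4])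
          rcases hF.mem_iff.1 (hVeq.symm ▸ hv) with rfl | rfl | rfl | rfl
          · exact Or.inl (map_one π)
          · exact Or.inr rfl
          · exact Or.inl ((hπ1 _).2 (Or.inr rfl))
          · exact Or.inr (by rw [map_mul, (hπ1 _).2 (Or.inr rfl), mul_one])
        rcases hyv with rfl | rfl <;> rcases hv' with e | e
        · exact Or.inl e
        · exact Or.inr (Or.inl e)
        · exact Or.inr (Or.inr (Or.inl (by rw [map_mul, e, mul_one])))
        · exact Or.inr (Or.inr (Or.inr (by rw [map_mul, e]; exact mem_cent.1 hmem)))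
      · rintro a (rfl | ha)
        · exact mem_cent.2 rfl
        · exact Set.mem_singleton_iff.1 ha ▸ hmem
    rw [e, F.card]
  obtain ⟨e⟩ := Cfsg.Agent.S3277.result (π z) hzimg hC4 (fun c hc => by rw [pow_two]; exact hCexp c hc) (by
    rintro ⟨P, N, hN, hc⟩
    haveI := hN
    refine hns' (solvable_ext N (Cfsg.Agent.PF.isSolvable_of_odd N (Nat.not_even_iff_odd.1 fun h => ?_)) ?_)
    · refine P.not_dvd_index ?_
      rw [Subgroup.IsComplement'.index_eq_card hc]
      exact h.two_dvd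
    · have hp : IsPGroup 2 ((G ⧸ W) ⧸ N) := by
        obtain ⟨j, hj⟩ := IsPGroup.iff_card.1 P.2
        exact IsPGroup.of_card (n := j) (by rw [← index_eq_card, hc.symm.index_eq_card, hj])
      haveI := hp.isNilpotent
      infer_instance)
    fun E hE hel => by
      rw [O'.noTwo hns' E hE fun x hx => by rw [← pow_two]; exact hel.2 x hx, card_bot]
      omega
  haveI : IsSimpleGroup (alternatingGroup (Fin 5)) :=
    alternatingGroup.isSimpleGroup (by simp)
  haveI : Nontrivial (G ⧸ W) := e.toEquiv.nontrivial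
  haveI : IsSimpleGroup (G ⧸ W) := IsSimpleGroup.isSimpleGroup_of_surjective e.symm.toMonoidHom e.symm.surjective
  obtain ⟨M', hM', hM'2, hzM', -⟩ := O'.exists_index_two
  rcases hM'.eq_bot_or_eq_top with rfl | rfl
  · rw [index_bot] at hM'2
    exact hns' (solvable_small (by rw [hM'2]; norm_num))
  · exact hzM' (mem_top _)

end Cfsg.Lib.GenDihedral
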